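import Mathlib
import Cfsg.Prelude.Def_OddOrderLocal
import Cfsg.Agent.Lib.helper87.BG1425Main
import Cfsg.Agent.Lib.helper3.BGCross
import Cfsg.Agent.Lib.helper71.BGTwelveFour
import Cfsg.Agent.Lib.helper71.BGTenA

/-!
# Bender–Glauberman: the cosets `x R(x)` (statement S1433)

For maximal subgroups `M`, `N` of a minimal simple group of odd order and distinct non-identity
elements `x ∈ M_σ`, `y ∈ N_σ`, the cosets `x R_M(x)` and `y R_N(y)` are disjoint.  The proof is
written against the statements S1374, S1375 and S1378, taken as hypotheses `H1374`, `H1375`,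
`H1378` for a fixed group.
-/

set_option autoImplicit false

namespace Cfsg.Agent.Lib.helper88.BG1433

open Cfsg

/-- the statement S1374 (for a fixed group), as a hypothesis -/
def H1374 (G : Type*) [Group G] : Prop :=
  ∀ (M : Subgroup G), IsCoatom M → ∀ (x : G), x ∈ Cfsg.sigmaCore M → x ≠ 1 →
    (Nat.card ↥(M ⊓ Subgroup.centralizer ({x} : Set G))).Coprime
        ((M ⊓ Subgroup.centralizer ({x} : Set G)).relIndex (Subgroup.centralizer ({x} : Set G))) ∧
      ∃ R : Subgroup G, Subgroup.centralizer ({x} : Set G) ≤ Subgroup.normalizer (R : Set G) ∧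
        Cfsg.IsComplIn (M ⊓ Subgroup.centralizer ({x} : Set G)) R
          (Subgroup.centralizer ({x} : Set G)) ∧
        ∀ g : G, x ∈ M.map (MulAut.conj g).toMonoidHom →
          ∃! r : G, r ∈ R ∧ M.map (MulAut.conj r).toMonoidHom = M.map (MulAut.conj g).toMonoidHom

/-- the statement S1375 (for a fixed group), as a hypothesis -/
def H1375 (G : Type*) [Group G] : Prop :=
  ∀ (M : Subgroup G), IsCoatom M → ∀ (x : G), x ∈ Cfsg.sigmaCore M → x ≠ 1 →
    ¬ Subgroup.centralizer ({x} : Set G) ≤ M →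
    ∃ N : Subgroup G, (IsCoatom N ∧ Subgroup.centralizer ({x} : Set G) ≤ N) ∧
      (∀ L : Subgroup G, IsCoatom L → Subgroup.centralizer ({x} : Set G) ≤ L → L = N) ∧
      Cfsg.sigmaCore N = Cfsg.fittingHallOf N ∧
      Subgroup.centralizer ({x} : Set G) ≤ Subgroup.normalizer
        ((Cfsg.sigmaCore N ⊓ Subgroup.centralizer ({x} : Set G) : Subgroup G) : Set G) ∧
      Cfsg.IsComplIn (M ⊓ Subgroup.centralizer ({x} : Set G))
        (Cfsg.sigmaCore N ⊓ Subgroup.centralizer ({x} : Set G))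
        (Subgroup.centralizer ({x} : Set G)) ∧
      Cfsg.IsComplIn (M ⊓ N) (Cfsg.sigmaCore N) N ∧
      ∀ K' U' : Subgroup G, Cfsg.IsSigmaDecomposition N K' U' →
        U' ≠ ⊥ ∧ x ∈ Cfsg.sigmaA N U' ∧ x ∉ Cfsg.sigmaCore N

/-- the statement S1378 (for a fixed group), as a hypothesis -/
def H1378 (G : Type*) [Group G] : Prop :=
  (∀ p : ℕ, p.Prime → p ∣ Nat.card G → ∃ M : Subgroup G, IsCoatom M ∧ p ∈ Cfsg.sigma M) ∧
    ∀ M N : Subgroup G, IsCoatom M → IsCoatom N → (Cfsg.sigma M ∩ Cfsg.sigma N).Nonempty →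
      ∃ g : G, N = M.map (MulAut.conj g).toMonoidHom

variable {G : Type*} [Group G]

/-- `z` is a `π`-element: every prime divisor of its order lies in `π`. -/
def PiElt (π : Set ℕ) (z : G) : Prop := ∀ p : ℕ, p.Prime → p ∣ orderOf z → p ∈ π

theorem piElt_one (π : Set ℕ) : PiElt π (1 : G) := by
  intro p hp hd
  rw [orderOf_one] at hd
  exact absurd (Nat.dvd_one.mp hd) hp.one_lt.ne'

theorem piElt_inv {π : Set ℕ} {z : G} (h : PiElt π z) : PiElt π z⁻¹ := by
  intro p hp hd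
  rw [orderOf_inv] at hd
  exact h p hp hd

theorem piElt_mul {π : Set ℕ} {a b : G} (hc : Commute a b) (ha : PiElt π a) (hb : PiElt π b) :
    PiElt π (a * b) := by
  intro p hp hd
  have h1 : p ∣ orderOf a * orderOf b :=
    (hd.trans hc.orderOf_mul_dvd_lcm).trans (Nat.lcm_dvd_mul _ _)
  rcases (Nat.Prime.dvd_mul hp).mp h1 with h | h
  · exact ha p hp h
  · exact hb p hp h

theorem piElt_of_mem_zpowers {π : Set ℕ} {g z : G} (hz : z ∈ Subgroup.zpowers g) (h : PiElt π g) :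
    PiElt π z :=
  fun p hp hd => h p hp (hd.trans (orderOf_dvd_of_mem_zpowers hz))

theorem eq_one_of_piElt [Finite G] {π π' : Set ℕ} {z : G} (h : PiElt π z) (h' : PiElt π' z)
    (hd : ∀ p, p ∈ π → p ∉ π') : z = 1 := by
  by_contra hz
  have h1 : orderOf z ≠ 1 := fun h1 => hz (orderOf_eq_one_iff.mp h1)
  obtain ⟨p, hp, hpd⟩ := Nat.exists_prime_and_dvd h1
  exact hd p (h p hp hpd) (h' p hp hpd)

theorem piElt_mono {π π' : Set ℕ} {z : G} (h : PiElt π z) (hsub : ∀ p, p ∈ π → p ∈ π') :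
    PiElt π' z := fun p hp hd => hsub p (h p hp hd)

/-- Commuting elements of coprime orders are powers of their product. -/
theorem mem_zpowers_mul_of_coprime {x r : G} (hc : Commute x r)
    (hcop : (orderOf x).Coprime (orderOf r)) :
    x ∈ Subgroup.zpowers (x * r) ∧ r ∈ Subgroup.zpowers (x * r) := by
  have hb := Int.gcd_eq_gcd_ab (orderOf x : ℤ) (orderOf r : ℤ)
  have hg : Int.gcd (orderOf x : ℤ) (orderOf r : ℤ) = 1 := by
    rw [Int.gcd_natCast_natCast]; exact hcop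
  rw [hg] at hb
  constructor
  · refine ⟨(orderOf r : ℤ) * Int.gcdB (orderOf x : ℤ) (orderOf r : ℤ), ?_⟩
    show (x * r) ^ ((orderOf r : ℤ) * Int.gcdB (orderOf x : ℤ) (orderOf r : ℤ)) = x
    rw [hc.mul_zpow]
    have h1 : r ^ ((orderOf r : ℤ) * Int.gcdB (orderOf x : ℤ) (orderOf r : ℤ)) = 1 := by
      rw [zpow_mul, zpow_natCast, pow_orderOf_eq_one, one_zpow]
    have h2 : x ^ ((orderOf r : ℤ) * Int.gcdB (orderOf x : ℤ) (orderOf r : ℤ)) = x := by
      have : (orderOf r : ℤ) * Int.gcdB (orderOf x : ℤ) (orderOf r : ℤ)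
          = 1 - (orderOf x : ℤ) * Int.gcdA (orderOf x : ℤ) (orderOf r : ℤ) := by
        push_cast at hb; linarith
      rw [this, zpow_sub, zpow_one, zpow_mul, zpow_natCast, pow_orderOf_eq_one, one_zpow,
        inv_one, mul_one]
    rw [h1, h2, mul_one]
  · refine ⟨(orderOf x : ℤ) * Int.gcdA (orderOf x : ℤ) (orderOf r : ℤ), ?_⟩
    show (x * r) ^ ((orderOf x : ℤ) * Int.gcdA (orderOf x : ℤ) (orderOf r : ℤ)) = r
    rw [hc.mul_zpow]
    have h1 : x ^ ((orderOf x : ℤ) * Int.gcdA (orderOf x : ℤ) (orderOf r : ℤ)) = 1 := by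
      rw [zpow_mul, zpow_natCast, pow_orderOf_eq_one, one_zpow]
    have h2 : r ^ ((orderOf x : ℤ) * Int.gcdA (orderOf x : ℤ) (orderOf r : ℤ)) = r := by
      have : (orderOf x : ℤ) * Int.gcdA (orderOf x : ℤ) (orderOf r : ℤ)
          = 1 - (orderOf r : ℤ) * Int.gcdB (orderOf x : ℤ) (orderOf r : ℤ) := by
        push_cast at hb; linarith
      rw [this, zpow_sub, zpow_one, zpow_mul, zpow_natCast, pow_orderOf_eq_one, one_zpow,
        inv_one, mul_one]
    rw [h1, h2, one_mul]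

/-- Elements of `M_σ` are `σ(M)`-elements. -/
theorem piElt_of_mem_sigmaCore [Finite G] (M : Subgroup G) {x : G} (hx : x ∈ sigmaCore M) :
    PiElt (sigma M) x := by
  intro p hp hd
  refine Cfsg.Agent.Lib.helper71.BG12.mem_sigma_of_dvd_card_sigmaCore M hp (hd.trans ?_)
  have h1 : orderOf (⟨x, hx⟩ : sigmaCore M) = orderOf x := by
    rw [← Subgroup.orderOf_coe]
  rw [← h1]
  exact orderOf_dvd_natCard _

theorem supportR_le_centralizer (M : Subgroup G) (x : G) :
    supportR M x ≤ Subgroup.centralizer ({x} : Set G) := by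
  unfold supportR
  split_ifs with h
  · exact inf_le_right
  · exact bot_le

theorem supportR_eq_bot_of_le (M : Subgroup G) (x : G)
    (h : Subgroup.centralizer ({x} : Set G) ≤ M) : supportR M x = ⊥ := by
  unfold supportR
  rw [dif_neg]
  exact fun h' => h'.1 h

theorem supportR_eq_of_unique (M : Subgroup G) (x : G)
    (h : ¬ Subgroup.centralizer ({x} : Set G) ≤ M) (L : Subgroup G) (hL : IsCoatom L)
    (hxL : Subgroup.centralizer ({x} : Set G) ≤ L)
    (hu : ∀ L' : Subgroup G, IsCoatom L' → Subgroup.centralizer ({x} : Set G) ≤ L' → L' = L) :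
    supportR M x = fittingHallOf L ⊓ Subgroup.centralizer ({x} : Set G) := by
  have hex : ∃! L : Subgroup G, IsCoatom L ∧ Subgroup.centralizer ({x} : Set G) ≤ L :=
    ⟨L, ⟨hL, hxL⟩, fun L' h' => hu L' h'.1 h'.2⟩
  unfold supportR
  rw [dif_pos ⟨h, hex⟩]
  have hc := Classical.choose_spec hex.exists
  rw [hu _ hc.1 hc.2]

theorem self_mem_centralizer (x : G) : x ∈ Subgroup.centralizer ({x} : Set G) :=
  Subgroup.mem_centralizer_singleton_iff.mpr rfl

/-- Fusion control from S1374: a conjugate of `M` containing `x ∈ M_σ#` is `cMc⁻¹` with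
`c ∈ C_G(x)`. -/
theorem fusion_of_H1374 (h74 : H1374 G) (M : Subgroup G) (hM : IsCoatom M) {x : G}
    (hx : x ∈ sigmaCore M) (hx1 : x ≠ 1) (g : G) (hg : x ∈ M.map (MulAut.conj g).toMonoidHom) :
    ∃ c ∈ Subgroup.centralizer ({x} : Set G),
      M.map (MulAut.conj c).toMonoidHom = M.map (MulAut.conj g).toMonoidHom := by
  obtain ⟨-, R, -, hR, hreg⟩ := h74 M hM x hx hx1
  obtain ⟨c, ⟨hcR, hc⟩, -⟩ := hreg g hg
  exact ⟨c, hR.2.1 hcR, hc⟩

/-- If `C_G(x) ≤ cMc⁻¹` with `c ∈ C_G(x)` then `C_G(x) ≤ M`. -/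
theorem centralizer_le_of_le_map_conj (M : Subgroup G) {x c : G}
    (hc : c ∈ Subgroup.centralizer ({x} : Set G))
    (h : Subgroup.centralizer ({x} : Set G) ≤ M.map (MulAut.conj c).toMonoidHom) :
    Subgroup.centralizer ({x} : Set G) ≤ M := by
  intro d hd
  have h1 : c * d * c⁻¹ ∈ Subgroup.centralizer ({x} : Set G) :=
    Subgroup.mul_mem _ (Subgroup.mul_mem _ hc hd) (Subgroup.inv_mem _ hc)
  obtain ⟨m, hm, hmd⟩ := h h1
  have h2 : c * m * c⁻¹ = c * d * c⁻¹ := by simpa using hmd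
  have h3 : m = d := by
    have := congrArg (fun t => c⁻¹ * t * c) h2
    simpa [mul_assoc] using this
  exact h3 ▸ hm

/-- The structure of a non-identity element of `R_M(x)`, `x ∈ M_σ#`. -/
theorem supportR_struct [Finite G] (h74 : H1374 G) (h75 : H1375 G) (h78 : H1378 G)
    (M : Subgroup G) (hM : IsCoatom M) {x : G} (hx : x ∈ sigmaCore M) (hx1 : x ≠ 1) {r : G}
    (hr : r ∈ supportR M x) (hr1 : r ≠ 1) :
    ∃ L : Subgroup G, IsCoatom L ∧ Subgroup.centralizer ({x} : Set G) ≤ L ∧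
      r ∈ sigmaCore L ∧
      (M ⊓ Subgroup.centralizer ({x} : Set G)) ⊓
        (sigmaCore L ⊓ Subgroup.centralizer ({x} : Set G)) = ⊥ ∧
      (∀ p, p ∈ sigma M → p ∉ sigma L) := by
  have hxM : ¬ Subgroup.centralizer ({x} : Set G) ≤ M := by
    intro h
    rw [supportR_eq_bot_of_le M x h] at hr
    exact hr1 (Subgroup.mem_bot.mp hr)
  obtain ⟨L, ⟨hL, hxL⟩, hu, hF, -, hcompl, -, -⟩ := h75 M hM x hx hx1 hxM
  rw [supportR_eq_of_unique M x hxM L hL hxL hu, ← hF] at hr
  refine ⟨L, hL, hxL, hr.1, hcompl.2.2.1, ?_⟩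
  intro p hpM hpL
  obtain ⟨g, hg⟩ := h78.2 M L hM hL ⟨p, hpM, hpL⟩
  have hxg : x ∈ M.map (MulAut.conj g).toMonoidHom := hg ▸ hxL (self_mem_centralizer x)
  obtain ⟨c, hc, hcg⟩ := fusion_of_H1374 h74 M hM hx hx1 g hxg
  exact hxM (centralizer_le_of_le_map_conj M hc (by rw [hcg, ← hg]; exact hxL))

/-- `R_M(x)` consists of `σ(M)'`-elements. -/
theorem piElt_compl_of_mem_supportR [Finite G] (h74 : H1374 G) (h75 : H1375 G) (h78 : H1378 G)
    (M : Subgroup G) (hM : IsCoatom M) {x : G} (hx : x ∈ sigmaCore M) (hx1 : x ≠ 1) {r : G}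
    (hr : r ∈ supportR M x) : PiElt (sigma M)ᶜ r := by
  by_cases hr1 : r = 1
  · rw [hr1]; exact piElt_one _
  · obtain ⟨L, -, -, hrL, -, hdis⟩ := supportR_struct h74 h75 h78 M hM hx hx1 hr hr1
    exact piElt_mono (piElt_of_mem_sigmaCore L hrL) (fun p hpL hpM => hdis p hpM hpL)

theorem coprime_of_piElt {π : Set ℕ} {a b : G} (ha : PiElt π a) (hb : PiElt πᶜ b) :
    (orderOf a).Coprime (orderOf b) :=
  Nat.coprime_of_dvd (fun p hp h1 h2 => hb p hp h2 (ha p hp h1))

/-- **S1433** from S1374, S1375 and S1378. -/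
theorem bg1433 [Finite G] (h74 : H1374 G) (h75 : H1375 G) (h78 : H1378 G)
    (M N : Subgroup G) (hM : IsCoatom M) (hN : IsCoatom N) (x y : G)
    (hx : x ∈ Cfsg.sigmaCore M) (hy : y ∈ Cfsg.sigmaCore N) (hx1 : x ≠ 1) (hy1 : y ≠ 1)
    (hxy : x ≠ y) :
    ∀ r ∈ Cfsg.supportR M x, ∀ s ∈ Cfsg.supportR N y, x * r ≠ y * s := by
  intro r hr s hs heq
  have hxr : Commute x r :=
    (Subgroup.mem_centralizer_singleton_iff.mp (supportR_le_centralizer M x hr)).symm
  have hys : Commute y s :=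
    (Subgroup.mem_centralizer_singleton_iff.mp (supportR_le_centralizer N y hs)).symm
  have hxσ := piElt_of_mem_sigmaCore M hx
  have hyσ := piElt_of_mem_sigmaCore N hy
  have hrσ := piElt_compl_of_mem_supportR h74 h75 h78 M hM hx hx1 hr
  have hsσ := piElt_compl_of_mem_supportR h74 h75 h78 N hN hy hy1 hs
  obtain ⟨hxg, hrg⟩ := mem_zpowers_mul_of_coprime hxr (coprime_of_piElt hxσ hrσ)
  obtain ⟨hyg, hsg⟩ := mem_zpowers_mul_of_coprime hys (coprime_of_piElt hyσ hsσ)
  rw [← heq] at hyg hsg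
  -- all four elements are powers of `g = x * r`, hence commute
  have hcomm : ∀ a ∈ Subgroup.zpowers (x * r), ∀ b ∈ Subgroup.zpowers (x * r), Commute a b := by
    rintro _ ⟨i, rfl⟩ _ ⟨j, rfl⟩
    exact (Commute.refl (x * r)).zpow_zpow i j
  have hxy' : Commute x y := hcomm x hxg y hyg
  have hrs : Commute r s := hcomm r hrg s hsg
  have hsx : Commute s x := hcomm s hsg x hxg
  have hyr : Commute y r := hcomm y hyg r hrg
  by_cases hconj : ∃ g : G, N = M.map (MulAut.conj g).toMonoidHom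
  · -- `N` conjugate to `M`: `x` and `y` are both the `σ(M)`-part
    obtain ⟨g, rfl⟩ := hconj
    rw [Cfsg.Agent.Lib.helper3.sigma_map_conj] at hyσ hsσ
    have h1 : y⁻¹ * x = s * r⁻¹ := by
      have : y⁻¹ * (x * r) * r⁻¹ = y⁻¹ * (y * s) * r⁻¹ := by rw [heq]
      simpa [mul_assoc] using this
    have h2 : PiElt (sigma M) (y⁻¹ * x) := piElt_mul hxy'.symm.inv_left (piElt_inv hyσ) hxσ
    have h3 : PiElt (sigma M)ᶜ (y⁻¹ * x) := by
      rw [h1]; exact piElt_mul hrs.symm.inv_right hsσ (piElt_inv hrσ)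
    have h4 := eq_one_of_piElt h2 h3 (fun p hp hp' => hp' hp)
    exact hxy (by rw [← mul_right_inj y⁻¹, h4, inv_mul_cancel])
  · -- `N` not conjugate to `M`: `σ(M)` and `σ(N)` are disjoint
    have hdis : ∀ p, p ∈ sigma M → p ∉ sigma N := fun p hpM hpN =>
      hconj (h78.2 M N hM hN ⟨p, hpM, hpN⟩)
    by_cases hr1 : r = 1
    · rw [hr1, mul_one] at hyg
      exact hy1 (eq_one_of_piElt (piElt_of_mem_zpowers hyg hxσ) hyσ hdis)
    by_cases hs1 : s = 1
    · have hxg' : x ∈ Subgroup.zpowers y := by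
        rw [heq, hs1, mul_one] at hxg; exact hxg
      exact hx1 (eq_one_of_piElt hxσ (piElt_of_mem_zpowers hxg' hyσ) hdis)
    obtain ⟨L, hL, hxL, hrL, hcomplL, hdisL⟩ := supportR_struct h74 h75 h78 M hM hx hx1 hr hr1
    obtain ⟨L', hL', hyL', hsL', -, hdisL'⟩ := supportR_struct h74 h75 h78 N hN hy hy1 hs hs1
    have hrσL := piElt_of_mem_sigmaCore L hrL
    have hsσL' := piElt_of_mem_sigmaCore L' hsL'
    -- `σ(N) = σ(L)`
    have hNL : sigma N = sigma L := by
      have hy1' : orderOf y ≠ 1 := fun h => hy1 (orderOf_eq_one_iff.mp h)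
      obtain ⟨p, hp, hpd⟩ := Nat.exists_prime_and_dvd hy1'
      have hpN := hyσ p hp hpd
      have hpg : p ∣ orderOf x * orderOf r :=
        ((hpd.trans (orderOf_dvd_of_mem_zpowers hyg)).trans hxr.orderOf_mul_dvd_lcm).trans
          (Nat.lcm_dvd_mul _ _)
      rcases (Nat.Prime.dvd_mul hp).mp hpg with h | h
      · exact absurd hpN (hdis p (hxσ p hp h))
      · obtain ⟨g, hg⟩ := h78.2 L N hL hN ⟨p, hrσL p hp h, hpN⟩
        rw [hg, Cfsg.Agent.Lib.helper3.sigma_map_conj]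
    -- `L'` is conjugate to `M`
    obtain ⟨w, hw⟩ : ∃ w : G, L' = M.map (MulAut.conj w).toMonoidHom := by
      have hx1' : orderOf x ≠ 1 := fun h => hx1 (orderOf_eq_one_iff.mp h)
      obtain ⟨q, hq, hqd⟩ := Nat.exists_prime_and_dvd hx1'
      have hqM := hxσ q hq hqd
      have hxg' : x ∈ Subgroup.zpowers (y * s) := heq ▸ hxg
      have hqg : q ∣ orderOf y * orderOf s :=
        ((hqd.trans (orderOf_dvd_of_mem_zpowers hxg')).trans hys.orderOf_mul_dvd_lcm).trans
          (Nat.lcm_dvd_mul _ _)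
      rcases (Nat.Prime.dvd_mul hq).mp hqg with h | h
      · exact absurd (hyσ q hq h) (hdis q hqM)
      · exact h78.2 M L' hM hL' ⟨q, hqM, hsσL' q hq h⟩
    have hML' : sigma L' = sigma M := by rw [hw, Cfsg.Agent.Lib.helper3.sigma_map_conj]
    -- `x = s` and `y = r`
    have h1 : s⁻¹ * x = y * r⁻¹ := by
      have : s⁻¹ * (x * r) * r⁻¹ = s⁻¹ * (y * s) * r⁻¹ := by rw [heq]
      rw [hys.eq] at this
      simpa [mul_assoc] using this
    have h2 : PiElt (sigma M) (s⁻¹ * x) :=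
      piElt_mul hsx.inv_left (piElt_inv (hML' ▸ hsσL')) hxσ
    have h3 : PiElt (sigma N) (s⁻¹ * x) := by
      rw [h1]; exact piElt_mul hyr.inv_right hyσ (piElt_inv (hNL ▸ hrσL))
    have h4 := eq_one_of_piElt h2 h3 hdis
    have hxs : x = s := by rw [← mul_right_inj s⁻¹, h4, inv_mul_cancel]
    have hyr' : y = r := by
      have := heq
      rw [hxs, hys.eq] at this
      exact (mul_right_injective s this).symm
    -- fusion: `L' = cMc⁻¹` with `c ∈ C_G(x)`
    have hxL' : x ∈ M.map (MulAut.conj w).toMonoidHom := by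
      rw [← hw, hxs]; exact Cfsg.Agent.Lib.helper71.BGA.sigmaCore_le L' hsL'
    obtain ⟨c, hc, hcw⟩ := fusion_of_H1374 h74 M hM hx hx1 w hxL'
    have hyc : y ∈ M.map (MulAut.conj c).toMonoidHom := by
      rw [hcw, ← hw]; exact hyL' (self_mem_centralizer y)
    obtain ⟨m, hm, hmy⟩ := hyc
    have hmy' : c * m * c⁻¹ = y := by simpa using hmy
    have hm_eq : m = c⁻¹ * y * c := by
      rw [← hmy']; group
    have hyC : y ∈ Subgroup.centralizer ({x} : Set G) := by
      rw [hyr']; exact supportR_le_centralizer M x hr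
    have hmC : m ∈ Subgroup.centralizer ({x} : Set G) := by
      rw [hm_eq]
      exact Subgroup.mul_mem _ (Subgroup.mul_mem _ (Subgroup.inv_mem _ hc) hyC) hc
    have hmL : m ∈ sigmaCore L := by
      have hcL : c⁻¹ ∈ L := L.inv_mem (hxL hc)
      have hn := Cfsg.Agent.Lib.helper71.BGA.le_normalizer_sigmaCore L hcL
      have := (Subgroup.mem_normalizer_iff.mp hn y).mp (hyr' ▸ hrL)
      rw [hm_eq]; simpa using this
    have hmbot : m ∈ (M ⊓ Subgroup.centralizer ({x} : Set G)) ⊓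
        (sigmaCore L ⊓ Subgroup.centralizer ({x} : Set G)) := ⟨⟨hm, hmC⟩, ⟨hmL, hmC⟩⟩
    rw [hcomplL] at hmbot
    have hm1 : m = 1 := Subgroup.mem_bot.mp hmbot
    apply hy1
    rw [← hmy', hm1]; group

end Cfsg.Agent.Lib.helper88.BG1433
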