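import Mathlib
import Cfsg.Prelude.Def_OddOrderLocal
import Cfsg.Agent.Lib.helper88.BG1433
import Cfsg.Agent.Lib.helper13.SigFus
import Cfsg.Agent.Lib.helper71.BGTenB

/-!
# Bender–Glauberman: the size of the tilde of `M_σ#` (statement S1377)

`|(M_σ#)~| = (|M_σ| - 1) |G : M|`, written against the statements S1374, S1375 and S1378 (taken as
hypotheses `H1374`, `H1375`, `H1378` for a fixed group, see `BG1433`).

The tilde is the disjoint union, over the non-identity elements `z` of the `σ`-cores of the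
conjugates of `M`, of the cosets `z R(z)`; and `R(z)` acts regularly on the conjugates of `M`
containing `z`.
-/

set_option autoImplicit false

namespace Cfsg.Agent.Lib.helper88.BG1377

open Cfsg Cfsg.Agent.Lib.helper88.BG1433 Cfsg.Agent.Lib.helper13

variable {G : Type*} [Group G]

/-- the conjugate `gHg⁻¹` -/
abbrev cj (g : G) (H : Subgroup G) : Subgroup G := H.map (MulAut.conj g).toMonoidHom

theorem mem_cj {g x : G} {H : Subgroup G} : x ∈ cj g H ↔ g⁻¹ * x * g ∈ H :=
  sf_mem_map_conj_iff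

theorem cj_mul (a b : G) (H : Subgroup G) : cj (a * b) H = cj a (cj b H) :=
  (sf_map_conj_mul H a b).symm

theorem cj_of_mem {m : G} {H : Subgroup G} (hm : m ∈ H) : cj m H = H := by
  ext x
  rw [mem_cj]
  constructor
  · intro h
    have := H.mul_mem (H.mul_mem hm h) (H.inv_mem hm)
    convert this using 1
    group
  · intro h
    exact H.mul_mem (H.mul_mem (H.inv_mem hm) h) hm

theorem cj_one (H : Subgroup G) : cj 1 H = H := cj_of_mem H.one_mem

theorem conj_mem_cj {g x : G} {H : Subgroup G} (hx : x ∈ H) : g * x * g⁻¹ ∈ cj g H := by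
  rw [mem_cj]
  convert hx using 1
  group

theorem conj_ne_one {g a : G} (ha : a ≠ 1) : g * a * g⁻¹ ≠ 1 := by
  intro h
  apply ha
  have := congrArg (fun t => g⁻¹ * t * g) h
  simpa [mul_assoc] using this

theorem centralizer_conj (g a : G) :
    Subgroup.centralizer ({g * a * g⁻¹} : Set G) = cj g (Subgroup.centralizer ({a} : Set G)) := by
  ext d
  rw [mem_cj, Subgroup.mem_centralizer_singleton_iff, Subgroup.mem_centralizer_singleton_iff]
  constructor
  · intro h
    have : g⁻¹ * (d * (g * a * g⁻¹)) * g = g⁻¹ * (g * a * g⁻¹ * d) * g := by rw [h]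
    simpa [mul_assoc] using this
  · intro h
    have : g * (g⁻¹ * d * g * a) * g⁻¹ = g * (a * (g⁻¹ * d * g)) * g⁻¹ := by rw [h]
    simpa [mul_assoc] using this

/-- `M_σ` commutes with conjugation. -/
theorem sigmaCore_cj [Finite G] (hG : IsMinSimpleOddOrder G) (M : Subgroup G) (hM : IsCoatom M)
    (g : G) : sigmaCore (cj g M) = cj g (sigmaCore M) := by
  have key : ∀ (M : Subgroup G), IsCoatom M → ∀ g : G,
      cj g (sigmaCore M) ≤ sigmaCore (cj g M) := by
    intro M hM g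
    apply Cfsg.Agent.Lib.helper87.BG133.le_sigmaCore_of_pi hG (cj g M) (sf_isCoatom_map_conj hM g)
    · exact Subgroup.map_mono (Cfsg.Agent.Lib.helper71.BGA.sigmaCore_le M)
    · intro p hp hd
      rw [Cfsg.Agent.Lib.helper3.sigma_map_conj]
      rw [show Nat.card (cj g (sigmaCore M)) = Nat.card (sigmaCore M) from
        Subgroup.card_map_of_injective (MulAut.conj g).injective] at hd
      exact Cfsg.Agent.Lib.helper71.BG12.mem_sigma_of_dvd_card_sigmaCore M hp hd
  apply le_antisymm _ (key M hM g)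
  have h1 := key (cj g M) (sf_isCoatom_map_conj hM g) g⁻¹
  rw [← cj_mul, inv_mul_cancel, cj_one] at h1
  intro x hx
  rw [mem_cj]
  apply h1
  rw [mem_cj]
  have hx' : g⁻¹⁻¹ * (g⁻¹ * x * g) * g⁻¹ = x := by group
  rw [hx']
  exact hx

theorem supportR_congr (M M' : Subgroup G) (x : G)
    (h : Subgroup.centralizer ({x} : Set G) ≤ M ↔ Subgroup.centralizer ({x} : Set G) ≤ M') :
    supportR M x = supportR M' x := by
  by_cases hc : Subgroup.centralizer ({x} : Set G) ≤ M
  · rw [supportR_eq_bot_of_le M x hc, supportR_eq_bot_of_le M' x (h.mp hc)]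
  · by_cases hu : ∃! L : Subgroup G, IsCoatom L ∧ Subgroup.centralizer ({x} : Set G) ≤ L
    · unfold supportR
      rw [dif_pos ⟨hc, hu⟩, dif_pos ⟨fun h' => hc (h.mpr h'), hu⟩]
    · unfold supportR
      rw [dif_neg (fun h' => hu h'.2), dif_neg (fun h' => hu h'.2)]

/-- `R_M(a)` commutes with conjugation. -/
theorem supportR_cj [Finite G] (hG : IsMinSimpleOddOrder G) (h75 : H1375 G) (M : Subgroup G)
    (hM : IsCoatom M) {a : G} (ha : a ∈ sigmaCore M) (ha1 : a ≠ 1) (g : G) :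
    supportR (cj g M) (g * a * g⁻¹) = cj g (supportR M a) := by
  by_cases hc : Subgroup.centralizer ({a} : Set G) ≤ M
  · rw [supportR_eq_bot_of_le M a hc, supportR_eq_bot_of_le]
    · exact (Subgroup.map_bot _).symm
    · rw [centralizer_conj]; exact Subgroup.map_mono hc
  · obtain ⟨L, ⟨hL, haL⟩, hu, hF, -, -, -, -⟩ := h75 M hM a ha ha1 hc
    have hc' : ¬ Subgroup.centralizer ({g * a * g⁻¹} : Set G) ≤ cj g M := by
      rw [centralizer_conj]
      intro h
      exact hc ((Subgroup.map_le_map_iff_of_injective (MulAut.conj g).injective).mp h)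
    have ha' : g * a * g⁻¹ ∈ sigmaCore (cj g M) := by
      rw [sigmaCore_cj hG M hM]; exact conj_mem_cj ha
    obtain ⟨L2, ⟨hL2, haL2⟩, hu2, hF2, -, -, -, -⟩ :=
      h75 (cj g M) (sf_isCoatom_map_conj hM g) _ ha' (conj_ne_one ha1) hc'
    have hLL2 : cj g L = L2 := hu2 (cj g L) (sf_isCoatom_map_conj hL g)
      (by rw [centralizer_conj]; exact Subgroup.map_mono haL)
    rw [supportR_eq_of_unique M a hc L hL haL hu,
      supportR_eq_of_unique (cj g M) _ hc' L2 hL2 haL2 hu2, ← hF, ← hF2, ← hLL2,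
      sigmaCore_cj hG L hL, centralizer_conj]
    exact (Subgroup.map_inf _ _ _ (MulAut.conj g).injective).symm

/-- The tilde of `M_σ#` in terms of the conjugates of `M`. -/
theorem mem_tildeOf_iff [Finite G] (hG : IsMinSimpleOddOrder G) (h75 : H1375 G) (M : Subgroup G)
    (hM : IsCoatom M) (t : G) :
    t ∈ tildeOf M ((sigmaCore M : Set G) \ {1}) ↔
      ∃ y z w : G, z ∈ sigmaCore (cj y M) ∧ z ≠ 1 ∧ w ∈ supportR (cj y M) z ∧ t = z * w := by
  constructor
  · rintro ⟨a, ⟨ha, ha1⟩, r, hr, y, rfl⟩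
    have ha1' : a ≠ 1 := fun h => ha1 (by simpa using h)
    refine ⟨y, y * a * y⁻¹, y * r * y⁻¹, ?_, conj_ne_one ha1', ?_, by group⟩
    · rw [sigmaCore_cj hG M hM]; exact conj_mem_cj ha
    · rw [supportR_cj hG h75 M hM ha ha1']; exact conj_mem_cj hr
  · rintro ⟨y, z, w, hz, hz1, hw, rfl⟩
    rw [sigmaCore_cj hG M hM, mem_cj] at hz
    have hza : z = y * (y⁻¹ * z * y) * y⁻¹ := by group
    have ha1 : y⁻¹ * z * y ≠ 1 := by
      have := conj_ne_one (g := y⁻¹) hz1
      simpa using this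
    rw [hza, supportR_cj hG h75 M hM hz ha1, mem_cj] at hw
    refine ⟨y⁻¹ * z * y, ⟨hz, by simpa using ha1⟩, y⁻¹ * w * y, ?_, y, by group⟩
    convert hw using 2

/-- `N ∩ R_N(z) = 1`. -/
theorem eq_one_of_mem_supportR [Finite G] (h75 : H1375 G) (N : Subgroup G) (hN : IsCoatom N)
    {z : G} (hz : z ∈ sigmaCore N) (hz1 : z ≠ 1) {u : G} (huN : u ∈ N)
    (hu : u ∈ supportR N z) : u = 1 := by
  by_cases hc : Subgroup.centralizer ({z} : Set G) ≤ N
  · rw [supportR_eq_bot_of_le N z hc] at hu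
    exact Subgroup.mem_bot.mp hu
  · obtain ⟨L, ⟨hL, hzL⟩, hu', hF, -, hcompl, -, -⟩ := h75 N hN z hz hz1 hc
    rw [supportR_eq_of_unique N z hc L hL hzL hu', ← hF] at hu
    have : u ∈ (N ⊓ Subgroup.centralizer ({z} : Set G)) ⊓
        (sigmaCore L ⊓ Subgroup.centralizer ({z} : Set G)) := ⟨⟨huN, hu.2⟩, hu⟩
    rw [hcompl.2.2.1] at this
    exact Subgroup.mem_bot.mp this

/-- every conjugate of `N` by an element of `C_G(z)` is a conjugate by an element of `R_N(z)`. -/
theorem exists_supportR_cj [Finite G] (h75 : H1375 G) (N : Subgroup G) (hN : IsCoatom N)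
    {z : G} (hz : z ∈ sigmaCore N) (hz1 : z ≠ 1) {c : G}
    (hc : c ∈ Subgroup.centralizer ({z} : Set G)) :
    ∃ w ∈ supportR N z, cj c N = cj w N := by
  by_cases hcN : Subgroup.centralizer ({z} : Set G) ≤ N
  · exact ⟨1, Subgroup.one_mem _, by rw [cj_of_mem (hcN hc), cj_one]⟩
  · obtain ⟨L, ⟨hL, hzL⟩, hu', hF, -, hcompl, -, -⟩ := h75 N hN z hz hz1 hcN
    obtain ⟨a, ha, b, hb, hab⟩ := hcompl.2.2.2 c⁻¹ (Subgroup.inv_mem _ hc)
    refine ⟨b⁻¹, ?_, ?_⟩
    · rw [supportR_eq_of_unique N z hcN L hL hzL hu', ← hF]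
      exact Subgroup.inv_mem _ hb
    · have hc_eq : c = b⁻¹ * a⁻¹ := by
        rw [← mul_inv_rev, ← hab, inv_inv]
      rw [hc_eq, cj_mul, cj_of_mem (N.inv_mem ha.1)]

/-- conjugates of `M` whose `σ`-core contains `z` are conjugate under `C_G(z)`. -/
theorem conj_base [Finite G] (h74 : H1374 G) (M : Subgroup G) (hM : IsCoatom M) {z y0 : G}
    (hz0 : z ∈ sigmaCore (cj y0 M)) (hz1 : z ≠ 1) {y : G} (hz : z ∈ sigmaCore (cj y M)) :
    ∃ c ∈ Subgroup.centralizer ({z} : Set G), cj y M = cj c (cj y0 M) := by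
  have hy : cj y M = cj (y * y0⁻¹) (cj y0 M) := by
    rw [← cj_mul, inv_mul_cancel_right]
  have hz' : z ∈ (cj y0 M).map (MulAut.conj (y * y0⁻¹)).toMonoidHom := by
    have := Cfsg.Agent.Lib.helper71.BGA.sigmaCore_le (cj y M) hz
    rw [hy] at this
    exact this
  obtain ⟨c, hc, hcy⟩ := fusion_of_H1374 h74 (cj y0 M) (sf_isCoatom_map_conj hM y0) hz0 hz1 _ hz'
  exact ⟨c, hc, by rw [hy]; exact hcy.symm⟩

theorem supportR_eq_base [Finite G] (h74 : H1374 G) (M : Subgroup G) (hM : IsCoatom M)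
    {z y0 : G} (hz0 : z ∈ sigmaCore (cj y0 M)) (hz1 : z ≠ 1) {y : G}
    (hz : z ∈ sigmaCore (cj y M)) : supportR (cj y M) z = supportR (cj y0 M) z := by
  obtain ⟨c, hc, hcy⟩ := conj_base h74 M hM hz0 hz1 hz
  rw [hcy]
  apply supportR_congr
  constructor
  · exact centralizer_le_of_le_map_conj (cj y0 M) hc
  · intro h
    rw [cj_of_mem (h hc)]
    exact h

/-- The conjugates `yMy⁻¹` with `z ∈ (yMy⁻¹)_σ` are the `w y₀ m`, `w ∈ R(z)`, `m ∈ M`. -/
theorem card_fiber [Finite G] (hG : IsMinSimpleOddOrder G) (h74 : H1374 G) (h75 : H1375 G)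
    (M : Subgroup G) (hM : IsCoatom M) {z y0 : G} (hz0 : z ∈ sigmaCore (cj y0 M)) (hz1 : z ≠ 1) :
    Nat.card {y : G // z ∈ sigmaCore (cj y M) ∧ z ≠ 1} =
      Nat.card (supportR (cj y0 M) z) * Nat.card M := by
  haveI : IsSimpleGroup G := hG.2.1
  have hN0 : IsCoatom (cj y0 M) := sf_isCoatom_map_conj hM y0
  have hM1 : M ≠ ⊥ := by
    rintro rfl
    have := Cfsg.Agent.Lib.helper71.BGA.sigmaCore_le _ hz0
    rw [show cj y0 (⊥ : Subgroup G) = ⊥ from Subgroup.map_bot _] at this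
    exact hz1 (Subgroup.mem_bot.mp this)
  have hNM : Subgroup.normalizer (M : Set G) = M :=
    Cfsg.Agent.Lib.helper71.BGA.normalizer_eq_of_isCoatom hM hM1
  have hcjw : ∀ (w : G) (m : G), m ∈ M → cj (w * y0 * m) M = cj w (cj y0 M) := by
    intro w m hm
    rw [mul_assoc, cj_mul, cj_mul, cj_of_mem hm]
  have hwell : ∀ p : ↥(supportR (cj y0 M) z) × ↥M,
      z ∈ sigmaCore (cj ((p.1 : G) * y0 * (p.2 : G)) M) ∧ z ≠ 1 := by
    intro p
    refine ⟨?_, hz1⟩
    rw [hcjw _ _ p.2.2, sigmaCore_cj hG _ hN0, mem_cj]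
    have hw := supportR_le_centralizer _ _ p.1.2
    have hcomm : (p.1 : G) * z = z * (p.1 : G) := Subgroup.mem_centralizer_singleton_iff.mp hw
    have : (p.1 : G)⁻¹ * z * (p.1 : G) = z := by
      rw [mul_assoc, ← hcomm, inv_mul_cancel_left]
    rw [this]
    exact hz0
  rw [← Nat.card_prod]
  symm
  refine Nat.card_congr (Equiv.ofBijective
    (fun p => ⟨(p.1 : G) * y0 * (p.2 : G), hwell p⟩) ⟨?_, ?_⟩)
  · rintro ⟨⟨w, hw⟩, ⟨m, hm⟩⟩ ⟨⟨w', hw'⟩, ⟨m', hm'⟩⟩ heq
    have heq' : w * y0 * m = w' * y0 * m' := congrArg Subtype.val heq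
    have h1 : cj w (cj y0 M) = cj w' (cj y0 M) := by
      rw [← hcjw w m hm, ← hcjw w' m' hm', heq']
    have h2 : w⁻¹ * w' ∈ Subgroup.normalizer ((cj y0 M : Subgroup G) : Set G) :=
      sf_mem_normalizer_of_map_conj_eq h1
    have hN0bot : cj y0 M ≠ ⊥ := by
      intro h
      have := Cfsg.Agent.Lib.helper71.BGA.sigmaCore_le _ hz0
      rw [h] at this
      exact hz1 (Subgroup.mem_bot.mp this)
    rw [Cfsg.Agent.Lib.helper71.BGA.normalizer_eq_of_isCoatom hN0 hN0bot] at h2
    have h3 : w⁻¹ * w' = 1 := eq_one_of_mem_supportR h75 _ hN0 hz0 hz1 h2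
      (Subgroup.mul_mem _ (Subgroup.inv_mem _ hw) hw')
    have hww : w = w' := by
      rw [← mul_right_inj w⁻¹, inv_mul_cancel, h3]
    subst hww
    have hmm : m = m' := mul_left_cancel heq'
    subst hmm
    rfl
  · rintro ⟨y, hy, -⟩
    obtain ⟨c, hc, hcy⟩ := conj_base h74 M hM hz0 hz1 hy
    obtain ⟨w, hw, hcw⟩ := exists_supportR_cj h75 _ hN0 hz0 hz1 hc
    have h1 : cj (w * y0) M = cj y M := by rw [cj_mul, hcy, hcw]
    have h2 : (w * y0)⁻¹ * y ∈ Subgroup.normalizer (M : Set G) :=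
      sf_mem_normalizer_of_map_conj_eq h1
    rw [hNM] at h2
    refine ⟨(⟨w, hw⟩, ⟨(w * y0)⁻¹ * y, h2⟩), ?_⟩
    apply Subtype.ext
    show w * y0 * ((w * y0)⁻¹ * y) = y
    group

theorem card_filter_mem_ne_one [Fintype G] [DecidableEq G] (H : Subgroup G)
    [DecidablePred (fun z => z ∈ H ∧ z ≠ 1)] :
    (Finset.univ.filter (fun z => z ∈ H ∧ z ≠ 1)).card = Nat.card H - 1 := by
  classical
  have h1 : Finset.univ.filter (fun z => z ∈ H ∧ z ≠ 1) =
      (Finset.univ.filter (fun z => z ∈ H)).erase 1 := by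
    ext z
    simp [and_comm]
  have h2 : (Finset.univ.filter (fun z => z ∈ H)).card = Nat.card H := by
    rw [← Nat.card_eq_finsetCard]
    exact Nat.card_congr (Equiv.subtypeEquivRight (by simp))
  rw [h1, Finset.card_erase_of_mem (by simp [H.one_mem]), h2]

/-- **S1377** from S1374, S1375 and S1378. -/
theorem bg1377 [Finite G] (hG : IsMinSimpleOddOrder G) (h74 : H1374 G) (h75 : H1375 G)
    (h78 : H1378 G) (M : Subgroup G) (hM : IsCoatom M) :
    Set.ncard (Cfsg.tildeOf M ((Cfsg.sigmaCore M : Set G) \ {1})) =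
      (Nat.card (Cfsg.sigmaCore M) - 1) * M.index := by
  classical
  haveI := Fintype.ofFinite G
  set Yf : G → Finset G := fun z =>
    Finset.univ.filter (fun y => z ∈ sigmaCore (cj y M) ∧ z ≠ 1) with hYf
  set Bf : G → Finset G := fun z =>
    Finset.univ.filter (fun w => ∃ y, z ∈ sigmaCore (cj y M) ∧ z ≠ 1 ∧ w ∈ supportR (cj y M) z)
    with hBf
  -- the tilde as a disjoint union
  have hT : tildeOf M ((sigmaCore M : Set G) \ {1}) =
      ↑(Finset.univ.biUnion (fun z => (Bf z).image (fun w => z * w))) := by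
    ext t
    rw [mem_tildeOf_iff hG h75 M hM]
    simp only [Finset.mem_coe, Finset.mem_biUnion, Finset.mem_univ, true_and, Finset.mem_image,
      Finset.mem_filter, hBf]
    constructor
    · rintro ⟨y, z, w, hz, hz1, hw, rfl⟩
      exact ⟨z, w, ⟨y, hz, hz1, hw⟩, rfl⟩
    · rintro ⟨z, w, ⟨y, hz, hz1, hw⟩, rfl⟩
      exact ⟨y, z, w, hz, hz1, hw, rfl⟩
  have hcard1 : (Finset.univ.biUnion (fun z => (Bf z).image (fun w => z * w))).card =
      ∑ z, (Bf z).card := by
    rw [Finset.card_biUnion]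
    · exact Finset.sum_congr rfl
        (fun z _ => Finset.card_image_of_injective _ (mul_right_injective z))
    · intro z _ z' _ hzz'
      show Disjoint ((Bf z).image (fun w => z * w)) ((Bf z').image (fun w => z' * w))
      rw [Finset.disjoint_left]
      intro t ht ht'
      simp only [Finset.mem_image, Finset.mem_filter, Finset.mem_univ, true_and, hBf] at ht ht'
      obtain ⟨w, ⟨y, hz, hz1, hw⟩, rfl⟩ := ht
      obtain ⟨w', ⟨y', hz', hz1', hw'⟩, heq⟩ := ht'
      exact bg1433 h74 h75 h78 (cj y M) (cj y' M) (sf_isCoatom_map_conj hM y)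
        (sf_isCoatom_map_conj hM y') z z' hz hz' hz1 hz1' hzz' w hw w' hw' heq.symm
  -- the fibres
  have hC2 : ∀ z, (Yf z).card = (Bf z).card * Nat.card M := by
    intro z
    by_cases hne : ∃ y0, z ∈ sigmaCore (cj y0 M) ∧ z ≠ 1
    swap
    · have h1 : Yf z = ∅ := by
        apply Finset.filter_eq_empty_iff.mpr
        intro y _ h
        exact hne ⟨y, h⟩
      have h2 : Bf z = ∅ := by
        apply Finset.filter_eq_empty_iff.mpr
        rintro w _ ⟨y, hz, hz1, -⟩
        exact hne ⟨y, hz, hz1⟩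
      rw [h1, h2]; simp
    obtain ⟨y0, hz0, hz1⟩ := hne
    have hB : Bf z = Finset.univ.filter (fun w => w ∈ supportR (cj y0 M) z) := by
      ext w
      simp only [Finset.mem_filter, Finset.mem_univ, true_and, hBf]
      constructor
      · rintro ⟨y, hz, -, hw⟩
        rw [supportR_eq_base h74 M hM hz0 hz1 hz] at hw
        exact hw
      · intro hw
        exact ⟨y0, hz0, hz1, hw⟩
    have h1 : (Yf z).card = Nat.card {y : G // z ∈ sigmaCore (cj y M) ∧ z ≠ 1} := by
      rw [← Nat.card_eq_finsetCard]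
      exact Nat.card_congr (Equiv.subtypeEquivRight (by simp [hYf]))
    have h2 : (Bf z).card = Nat.card (supportR (cj y0 M) z) := by
      rw [hB, ← Nat.card_eq_finsetCard]
      exact Nat.card_congr (Equiv.subtypeEquivRight (by simp))
    rw [h1, h2]
    exact card_fiber hG h74 h75 M hM hz0 hz1
  -- double counting
  have hC3 : ∑ z, (Yf z).card = Fintype.card G * (Nat.card (sigmaCore M) - 1) := by
    have h1 : ∑ z, (Yf z).card =
        ∑ y : G, (Finset.univ.filter (fun z => z ∈ sigmaCore (cj y M) ∧ z ≠ 1)).card := by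
      simp only [hYf, Finset.card_filter]
      exact Finset.sum_comm
    rw [h1]
    have h2 : ∀ y : G, (Finset.univ.filter (fun z => z ∈ sigmaCore (cj y M) ∧ z ≠ 1)).card =
        Nat.card (sigmaCore M) - 1 := by
      intro y
      rw [card_filter_mem_ne_one, sigmaCore_cj hG M hM]
      rw [show Nat.card (cj y (sigmaCore M)) = Nat.card (sigmaCore M) from
        Subgroup.card_map_of_injective (MulAut.conj y).injective]
    rw [Finset.sum_congr rfl (fun y _ => h2 y)]
    simp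
  have hsum : (∑ z, (Bf z).card) * Nat.card M = Fintype.card G * (Nat.card (sigmaCore M) - 1) := by
    rw [← hC3, Finset.sum_mul]
    exact Finset.sum_congr rfl (fun z _ => (hC2 z).symm)
  rw [hT, Set.ncard_coe_finset, hcard1]
  have hMpos : 0 < Nat.card M := Nat.card_pos
  apply Nat.eq_of_mul_eq_mul_right hMpos
  rw [hsum, ← Nat.card_eq_fintype_card, ← Subgroup.index_mul_card M]
  ring

end Cfsg.Agent.Lib.helper88.BG1377
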