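import Cfsg.Agent.Lib.helper88.TB_LIFT
import Cfsg.Agent.Lib.helper18.TB_MKCore
import Cfsg.Agent.Lib.helper17.TB_MK2

/-!
# S4441 / S0960 sub-project SP-B, piece REAL (helper88)

Every endomorphism of `W0` (resp. `W1`) commuting with `N_G(P)` is induced by a `G`-linear map.
-/

set_option autoImplicit false

namespace Cfsg.Agent.Lib.helper74.TB

open Cfsg.Agent.Lib.helper84

section setting

variable {G : Type*} [Group G] [Fintype G] (p : ℕ) [Fact p.Prime] (P : Sylow p G)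
  (hP : Nat.card P = p) {L : Type*} [AddCommGroup L] (ρ : Representation ℤ G L)

include hP

variable [Module.Free ℤ L] [Module.Finite ℤ L]

/-- PIECE REAL0.  Every endomorphism of `W0` commuting with `N_G(P)` is induced by a `G`-linear
map. -/
theorem tb_realize_W0 (τ : d1FixC ρ (P : Subgroup G) →ₗ[ℤ] d1FixC ρ (P : Subgroup G))
    (hτ : ∀ u ∈ tbV0 p ρ (P : Subgroup G), τ u ∈ tbV0 p ρ (P : Subgroup G))
    (hτN : ∀ n ∈ Subgroup.normalizer ((P : Subgroup G) : Set G),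
      ∀ u u' : d1FixC ρ (P : Subgroup G), (u' : L) = ρ n (u : L) →
        (τ u' : L) - ρ n (τ u : L) ∈ tbSA p ρ (P : Subgroup G)) :
    ∃ δ : L →ₗ[ℤ] L, (∀ g : G, δ ∘ₗ ρ g = ρ g ∘ₗ δ) ∧
      ∀ u : d1FixC ρ (P : Subgroup G), δ (u : L) - (τ u : L) ∈ tbSA p ρ (P : Subgroup G) := by
  classical
  obtain ⟨-, -, -, hB4, -, -, -, -⟩ := tb_basic p P hP ρ
  obtain ⟨R, hRN, hRp, hMK⟩ := Cfsg.Agent.Lib.helper18.tb_mackey_of p P hP ρ
    (fun _ H hH Fix hFix => tb_equivariant_family p P hP ρ H hH Fix hFix)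
  obtain ⟨F, hFc, hFτ⟩ := tb_lift_W0 p P hP ρ τ hτ
  obtain ⟨δ, hδG, hδ0, -⟩ := hMK F hFc
  have hRp' : ¬ (p : ℤ) ∣ (R.card : ℤ) := by exact_mod_cast hRp
  obtain ⟨e', b, heb⟩ := tblift_exists_inv p (R.card : ℤ) hRp'
  refine ⟨e' • δ, ?_, ?_⟩
  · intro g
    rw [LinearMap.smul_comp, LinearMap.comp_smul, hδG g]
  · intro u
    have hterm : ∀ n ∈ R, ρ n (F (ρ n⁻¹ (u : L))) - (τ u : L) ∈ tbSA p ρ (P : Subgroup G) := by
      intro n hn
      have hnN := hRN n hn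
      have hninv : n⁻¹ ∈ Subgroup.normalizer ((P : Subgroup G) : Set G) := inv_mem hnN
      obtain ⟨hN1, -, -, -, -, -⟩ := tb_basic_N p P hP ρ n⁻¹ hninv
      obtain ⟨-, -, -, hN4, -, -⟩ := tb_basic_N p P hP ρ n hnN
      set un : d1FixC ρ (P : Subgroup G) := ⟨ρ n⁻¹ (u : L), hN1 (u : L) u.2⟩ with hun
      have h1 : F (un : L) - (τ un : L) ∈ tbSA p ρ (P : Subgroup G) := hFτ un
      have h2 : ρ n (F (un : L) - (τ un : L)) ∈ tbSA p ρ (P : Subgroup G) := hN4 _ h1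
      have h3 : (u : L) = ρ n (un : L) := by
        show (u : L) = ρ n (ρ n⁻¹ (u : L))
        rw [← Module.End.mul_apply, ← map_mul, mul_inv_cancel, map_one, Module.End.one_apply]
      have h4 := hτN n hnN un u h3
      have h5 : ρ n (F (ρ n⁻¹ (u : L))) - (τ u : L)
          = ρ n (F (un : L) - (τ un : L)) - ((τ u : L) - ρ n (τ un : L)) := by
        rw [map_sub]
        show ρ n (F (ρ n⁻¹ (u : L))) - (τ u : L)
          = ρ n (F (ρ n⁻¹ (u : L))) - ρ n (τ un : L) - ((τ u : L) - ρ n (τ un : L))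
        abel
      rw [h5]
      exact (tbSA p ρ (P : Subgroup G)).sub_mem h2 h4
    have hsum : ∑ n ∈ R, ρ n (F (ρ n⁻¹ (u : L))) - (R.card : ℤ) • (τ u : L)
        ∈ tbSA p ρ (P : Subgroup G) := by
      have h6 : ∑ n ∈ R, ρ n (F (ρ n⁻¹ (u : L))) - (R.card : ℤ) • (τ u : L)
          = ∑ n ∈ R, (ρ n (F (ρ n⁻¹ (u : L))) - (τ u : L)) := by
        rw [Finset.sum_sub_distrib, Finset.sum_const, natCast_zsmul]
      rw [h6]
      exact (tbSA p ρ (P : Subgroup G)).sum_mem hterm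
    have hδu : δ (u : L) - ∑ n ∈ R, ρ n (F (ρ n⁻¹ (u : L))) ∈ tbSA p ρ (P : Subgroup G) :=
      hδ0 (u : L) u.2
    have h7 : ((R.card : ℤ) * e' - 1) • (τ u : L) ∈ tbSA p ρ (P : Subgroup G) := by
      rw [heb, mul_smul]
      exact hB4 (b • (τ u : L)) ((d1FixC ρ (P : Subgroup G)).smul_mem b (τ u).2)
    have h8 : (e' • δ) (u : L) - (τ u : L)
        = e' • (δ (u : L) - ∑ n ∈ R, ρ n (F (ρ n⁻¹ (u : L))))
          + e' • (∑ n ∈ R, ρ n (F (ρ n⁻¹ (u : L))) - (R.card : ℤ) • (τ u : L))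
          + ((R.card : ℤ) * e' - 1) • (τ u : L) := by
      rw [LinearMap.smul_apply]
      module
    rw [h8]
    exact (tbSA p ρ (P : Subgroup G)).add_mem
      ((tbSA p ρ (P : Subgroup G)).add_mem ((tbSA p ρ (P : Subgroup G)).smul_mem e' hδu)
        ((tbSA p ρ (P : Subgroup G)).smul_mem e' hsum)) h7

/-- PIECE REAL1.  Every endomorphism of `W1` commuting with `N_G(P)` is induced by a `G`-linear
map. -/
theorem tb_realize_W1 (τ : tbB p ρ (P : Subgroup G) →ₗ[ℤ] tbB p ρ (P : Subgroup G))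
    (hτ : ∀ u ∈ tbV1 p ρ (P : Subgroup G), τ u ∈ tbV1 p ρ (P : Subgroup G))
    (hτN : ∀ n ∈ Subgroup.normalizer ((P : Subgroup G) : Set G),
      ∀ u u' : tbB p ρ (P : Subgroup G), (u' : L) = ρ n (u : L) →
        (τ u' : L) - ρ n (τ u : L) ∈ d1Aug p ρ (P : Subgroup G)) :
    ∃ δ : L →ₗ[ℤ] L, (∀ g : G, δ ∘ₗ ρ g = ρ g ∘ₗ δ) ∧
      ∀ u : tbB p ρ (P : Subgroup G), δ (u : L) - (τ u : L) ∈ d1Aug p ρ (P : Subgroup G) := by
  classical
  obtain ⟨-, -, -, -, -, hB6, -, -⟩ := tb_basic p P hP ρ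
  obtain ⟨R, hRN, hRp, hMK⟩ := Cfsg.Agent.Lib.helper18.tb_mackey_of p P hP ρ
    (fun _ H hH Fix hFix => tb_equivariant_family p P hP ρ H hH Fix hFix)
  obtain ⟨F, hFc, hFτ⟩ := tb_lift_W1 p P hP ρ τ hτ
  obtain ⟨δ, hδG, -, hδ1⟩ := hMK F hFc
  have hRp' : ¬ (p : ℤ) ∣ (R.card : ℤ) := by exact_mod_cast hRp
  obtain ⟨e', b, heb⟩ := tblift_exists_inv p (R.card : ℤ) hRp'
  refine ⟨e' • δ, ?_, ?_⟩
  · intro g
    rw [LinearMap.smul_comp, LinearMap.comp_smul, hδG g]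
  · intro u
    have hterm : ∀ n ∈ R, ρ n (F (ρ n⁻¹ (u : L))) - (τ u : L) ∈ d1Aug p ρ (P : Subgroup G) := by
      intro n hn
      have hnN := hRN n hn
      have hninv : n⁻¹ ∈ Subgroup.normalizer ((P : Subgroup G) : Set G) := inv_mem hnN
      obtain ⟨-, -, -, -, hN5, -⟩ := tb_basic_N p P hP ρ n⁻¹ hninv
      obtain ⟨-, -, -, -, -, hN6⟩ := tb_basic_N p P hP ρ n hnN
      set un : tbB p ρ (P : Subgroup G) := ⟨ρ n⁻¹ (u : L), hN5 (u : L) u.2⟩ with hun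
      have h1 : F (un : L) - (τ un : L) ∈ d1Aug p ρ (P : Subgroup G) := hFτ un
      have h2 : ρ n (F (un : L) - (τ un : L)) ∈ d1Aug p ρ (P : Subgroup G) := hN6 _ h1
      have h3 : (u : L) = ρ n (un : L) := by
        show (u : L) = ρ n (ρ n⁻¹ (u : L))
        rw [← Module.End.mul_apply, ← map_mul, mul_inv_cancel, map_one, Module.End.one_apply]
      have h4 := hτN n hnN un u h3
      have h5 : ρ n (F (ρ n⁻¹ (u : L))) - (τ u : L)
          = ρ n (F (un : L) - (τ un : L)) - ((τ u : L) - ρ n (τ un : L)) := by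
        rw [map_sub]
        show ρ n (F (ρ n⁻¹ (u : L))) - (τ u : L)
          = ρ n (F (ρ n⁻¹ (u : L))) - ρ n (τ un : L) - ((τ u : L) - ρ n (τ un : L))
        abel
      rw [h5]
      exact (d1Aug p ρ (P : Subgroup G)).sub_mem h2 h4
    have hsum : ∑ n ∈ R, ρ n (F (ρ n⁻¹ (u : L))) - (R.card : ℤ) • (τ u : L)
        ∈ d1Aug p ρ (P : Subgroup G) := by
      have h6 : ∑ n ∈ R, ρ n (F (ρ n⁻¹ (u : L))) - (R.card : ℤ) • (τ u : L)
          = ∑ n ∈ R, (ρ n (F (ρ n⁻¹ (u : L))) - (τ u : L)) := by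
        rw [Finset.sum_sub_distrib, Finset.sum_const, natCast_zsmul]
      rw [h6]
      exact (d1Aug p ρ (P : Subgroup G)).sum_mem hterm
    have hδu : δ (u : L) - ∑ n ∈ R, ρ n (F (ρ n⁻¹ (u : L))) ∈ d1Aug p ρ (P : Subgroup G) :=
      hδ1 (u : L) u.2
    have h7 : ((R.card : ℤ) * e' - 1) • (τ u : L) ∈ d1Aug p ρ (P : Subgroup G) := by
      rw [heb, mul_smul]
      exact hB6 (b • (τ u : L)) ((tbB p ρ (P : Subgroup G)).smul_mem b (τ u).2)
    have h8 : (e' • δ) (u : L) - (τ u : L)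
        = e' • (δ (u : L) - ∑ n ∈ R, ρ n (F (ρ n⁻¹ (u : L))))
          + e' • (∑ n ∈ R, ρ n (F (ρ n⁻¹ (u : L))) - (R.card : ℤ) • (τ u : L))
          + ((R.card : ℤ) * e' - 1) • (τ u : L) := by
      rw [LinearMap.smul_apply]
      module
    rw [h8]
    exact (d1Aug p ρ (P : Subgroup G)).add_mem
      ((d1Aug p ρ (P : Subgroup G)).add_mem ((d1Aug p ρ (P : Subgroup G)).smul_mem e' hδu)
        ((d1Aug p ρ (P : Subgroup G)).smul_mem e' hsum)) h7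

end setting

end Cfsg.Agent.Lib.helper74.TB
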