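import Mathlib

set_option autoImplicit false

namespace Cfsg.Agent.Lib.helper88.S1237

open MvPolynomial in
/-- Chevalley–Warning for two quadratic polynomials in five variables over `ZMod 2`. -/
theorem cw5 (α₁ α₂ : Fin 5 → ZMod 2) (β₁ β₂ : Fin 5 → Fin 5 → ZMod 2) :
    ∃ x : Fin 5 → ZMod 2, x ≠ 0 ∧
      (∑ i, α₁ i * x i + ∑ i, ∑ j, β₁ i j * (x i * x j) = 0) ∧
      (∑ i, α₂ i * x i + ∑ i, ∑ j, β₂ i j * (x i * x j) = 0) := by
  classical
  have : Fact (Nat.Prime 2) := ⟨Nat.prime_two⟩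
  let f : (Fin 5 → ZMod 2) → (Fin 5 → Fin 5 → ZMod 2) → MvPolynomial (Fin 5) (ZMod 2) :=
    fun α β => ∑ i, C (α i) * X i + ∑ i, ∑ j, C (β i j) * (X i * X j)
  have hdeg : ∀ α β, (f α β).totalDegree ≤ 2 := by
    intro α β
    refine (totalDegree_add _ _).trans (max_le ?_ ?_)
    · refine (totalDegree_finsetSum _ _).trans ?_
      refine Finset.sup_le fun i _ => ?_
      refine (totalDegree_mul _ _).trans ?_
      rw [totalDegree_C, totalDegree_X]
      omega
    · refine (totalDegree_finsetSum _ _).trans (Finset.sup_le fun i _ => ?_)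
      refine (totalDegree_finsetSum _ _).trans (Finset.sup_le fun j _ => ?_)
      refine (totalDegree_mul _ _).trans ?_
      rw [totalDegree_C]
      have := totalDegree_mul (X i : MvPolynomial (Fin 5) (ZMod 2)) (X j)
      rw [totalDegree_X, totalDegree_X] at this
      omega
  have heval : ∀ α β x, eval x (f α β) =
      ∑ i, α i * x i + ∑ i, ∑ j, β i j * (x i * x j) := by
    intro α β x
    simp [f]
  have hcw := char_dvd_card_solutions_of_add_lt 2 (f₁ := f α₁ β₁) (f₂ := f α₂ β₂) (by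
    have h1 := hdeg α₁ β₁
    have h2 := hdeg α₂ β₂
    simp only [Fintype.card_fin]
    omega)
  by_contra hcon
  push Not at hcon
  have huniq : ∀ x : { x : Fin 5 → ZMod 2 // eval x (f α₁ β₁) = 0 ∧ eval x (f α₂ β₂) = 0 },
      x.1 = 0 := by
    intro x
    by_contra hx
    exact hcon x.1 hx (by rw [← heval]; exact x.2.1) (by rw [← heval]; exact x.2.2)
  have hcard : Fintype.card
      { x : Fin 5 → ZMod 2 // eval x (f α₁ β₁) = 0 ∧ eval x (f α₂ β₂) = 0 } = 1 := by
    rw [Fintype.card_eq_one_iff]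
    refine ⟨⟨0, ?_, ?_⟩, fun y => Subtype.ext (huniq y)⟩
    · rw [heval]; simp
    · rw [heval]; simp
  rw [hcard] at hcw
  omega

theorem exists_indep {A : Type*} [CommGroup A] [Finite A] (h2 : ∀ a : A, a * a = 1) (n : ℕ)
    (hn : 2 ^ n < 2 * Nat.card A) :
    ∃ e : Fin n → A, ∀ x : Fin n → ZMod 2, ∏ i, e i ^ (x i).val = 1 → x = 0 := by
  classical
  have : Fact (Nat.Prime 2) := ⟨Nat.prime_two⟩
  letI : Module (ZMod 2) (Additive A) := AddCommGroup.zmodModule (n := 2) (fun x => by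
    have := h2 x.toMul
    rw [two_nsmul]
    exact this)
  have hcard : Nat.card (Additive A) = 2 ^ Module.finrank (ZMod 2) (Additive A) := by
    have := Module.natCard_eq_pow_finrank (K := ZMod 2) (V := Additive A)
    simpa using this
  have hle : n ≤ Module.finrank (ZMod 2) (Additive A) := by
    have h1 : Nat.card (Additive A) = Nat.card A := rfl
    rw [← h1, hcard, ← pow_succ'] at hn
    have := (Nat.pow_lt_pow_iff_right (by norm_num : 1 < 2)).mp hn
    omega
  obtain ⟨f, hf⟩ := exists_linearIndependent_of_le_finrank hle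
  refine ⟨fun i => (f i).toMul, fun x hx => ?_⟩
  have hsum : ∑ i, x i • f i = 0 := by
    have h3 : Additive.ofMul (∏ i, (f i).toMul ^ (x i).val) = 0 := by rw [hx]; rfl
    rw [ofMul_prod] at h3
    rw [← h3]
    refine Finset.sum_congr rfl fun i _ => ?_
    rw [ofMul_pow, ofMul_toMul]
    conv_lhs => rw [← ZMod.natCast_zmod_val (x i)]
    rw [Nat.cast_smul_eq_nsmul]
  funext i
  exact Fintype.linearIndependent_iff.mp hf x hsum i

theorem exists_chars {A : Type*} [CommGroup A] [Finite A] (h2 : ∀ a : A, a * a = 1) (n : ℕ)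
    (hn : Nat.card A = 2 ^ n) :
    ∃ L : Fin n → A → ZMod 2, (∀ s a b, L s (a * b) = L s a + L s b) ∧
      ∀ a, (∀ s, L s a = 0) → a = 1 := by
  classical
  have : Fact (Nat.Prime 2) := ⟨Nat.prime_two⟩
  letI : Module (ZMod 2) (Additive A) := AddCommGroup.zmodModule (n := 2) (fun x => by
    have := h2 x.toMul
    rw [two_nsmul]
    exact this)
  have hfr : Module.finrank (ZMod 2) (Additive A) = n := by
    have := Module.natCard_eq_pow_finrank (K := ZMod 2) (V := Additive A)
    have h1 : Nat.card (Additive A) = Nat.card A := rfl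
    rw [h1, hn] at this
    simp at this
    exact this.symm
  let B := Module.finBasisOfFinrankEq (ZMod 2) (Additive A) hfr
  refine ⟨fun s a => B.repr (Additive.ofMul a) s, fun s a b => ?_, fun a ha => ?_⟩
  · show B.repr (Additive.ofMul (a * b)) s = _
    rw [ofMul_mul, map_add]; rfl
  · have h0 : B.repr (Additive.ofMul a) = 0 := by ext s; exact ha s
    have h1 : Additive.ofMul a = 0 := by simpa using h0
    exact h1


/-- PIECE A (CW) of S1237. -/
theorem card_le_64_of_anisotropic {G : Type*} [Group G] [Finite G] (V : Subgroup G)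
    (hVc : V ≤ Subgroup.center G) (hV4 : Nat.card V = 4) (hV2 : ∀ v ∈ V, v * v = 1)
    (hsq : ∀ x : G, x * x ∈ V) (hanis : ∀ x : G, x * x = 1 → x ∈ V) : Nat.card G ≤ 64 := by
  classical
  by_contra hbig
  have hbig' : 64 < Nat.card G := not_le.mp hbig
  have hcen : ∀ v ∈ V, ∀ g : G, g * v = v * g := fun v hv g =>
    (Subgroup.mem_center_iff.mp (hVc hv)) g
  have hcomm : ∀ a b : G, a⁻¹ * b * a * b⁻¹ ∈ V := by
    intro a b
    have h1 : a⁻¹ * b * a * b⁻¹ = (a * a)⁻¹ * ((a * b) * (a * b)) * (b * b)⁻¹ := by group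
    rw [h1]
    exact V.mul_mem (V.mul_mem (V.inv_mem (hsq a)) (hsq (a * b))) (V.inv_mem (hsq b))
  haveI hVn : V.Normal := ⟨fun v hv g => by
    have : g * v * g⁻¹ = v := by rw [hcen v hv g]; group
    rw [this]; exact hv⟩
  letI cQ : CommGroup (G ⧸ V) := { (inferInstance : Group (G ⧸ V)) with
    mul_comm := by
      intro a b
      induction a using QuotientGroup.induction_on with | _ a => ?_
      induction b using QuotientGroup.induction_on with | _ b => ?_
      rw [← QuotientGroup.mk_mul, ← QuotientGroup.mk_mul, QuotientGroup.eq]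
      have := hcomm b a⁻¹
      have h1 : (a * b)⁻¹ * (b * a) = b⁻¹ * a⁻¹ * b * a⁻¹⁻¹ := by group
      rw [h1]; exact this }
  have h2Q : ∀ a : G ⧸ V, a * a = 1 := by
    intro a
    induction a using QuotientGroup.induction_on with | _ a => ?_
    rw [← QuotientGroup.mk_mul, QuotientGroup.eq_one_iff]
    exact hsq a
  have hcardQ : Nat.card G = Nat.card (G ⧸ V) * Nat.card V :=
    Subgroup.card_eq_card_quotient_mul_card_subgroup V
  obtain ⟨eb, heb⟩ := exists_indep h2Q 5 (by rw [hcardQ, hV4] at hbig'; omega)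
  letI cV : CommGroup V := { (inferInstance : Group V) with
    mul_comm := fun a b => Subtype.ext (hcen b.1 b.2 a.1) }
  obtain ⟨L, hLadd, hLker⟩ := exists_chars (A := V) (fun a => Subtype.ext (hV2 a.1 a.2)) 2
    (by rw [hV4]; norm_num)
  let e : Fin 5 → G := fun i => (eb i).out
  have he : ∀ i, (QuotientGroup.mk (e i) : G ⧸ V) = eb i := fun i => QuotientGroup.out_eq' (eb i)
  let sqV : G → V := fun a => ⟨a * a, hsq a⟩
  let cmV : G → G → V := fun a b => ⟨a⁻¹ * b * a * b⁻¹, hcomm a b⟩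
  have hI1 : ∀ a b, sqV (a * b) = sqV a * sqV b * cmV a b := by
    intro a b
    apply Subtype.ext
    show a * b * (a * b) = a * a * (b * b) * (a⁻¹ * b * a * b⁻¹)
    rw [mul_assoc (a * a), hcen _ (hcomm a b) (b * b)]
    group
  have hI2 : ∀ a a' b, cmV (a * a') b = cmV a b * cmV a' b := by
    intro a a' b
    apply Subtype.ext
    show (a * a')⁻¹ * b * (a * a') * b⁻¹ = a⁻¹ * b * a * b⁻¹ * (a'⁻¹ * b * a' * b⁻¹)
    calc (a * a')⁻¹ * b * (a * a') * b⁻¹
        = a'⁻¹ * (a⁻¹ * b * a * b⁻¹) * (b * a' * b⁻¹) := by group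
      _ = a⁻¹ * b * a * b⁻¹ * (a'⁻¹ * b * a' * b⁻¹) := by
        rw [hcen _ (hcomm a b) a'⁻¹]; group
  have hI3 : ∀ a b b', cmV a (b * b') = cmV a b * cmV a b' := by
    intro a b b'
    apply Subtype.ext
    show a⁻¹ * (b * b') * a * (b * b')⁻¹ = a⁻¹ * b * a * b⁻¹ * (a⁻¹ * b' * a * b'⁻¹)
    calc a⁻¹ * (b * b') * a * (b * b')⁻¹
        = a⁻¹ * b * a * ((a⁻¹ * b' * a * b'⁻¹) * b⁻¹) := by group
      _ = a⁻¹ * b * a * b⁻¹ * (a⁻¹ * b' * a * b'⁻¹) := by
        rw [← hcen _ (hcomm a b') b⁻¹]; group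
  have hL1 : ∀ s, L s 1 = 0 := by
    intro s
    have := hLadd s 1 1
    rw [mul_one] at this
    exact left_eq_add.mp this
  have hq : ∀ s a b, L s (sqV (a * b)) = L s (sqV a) + L s (sqV b) + L s (cmV a b) := by
    intro s a b; rw [hI1, hLadd, hLadd]
  have hβ1 : ∀ s a a' b, L s (cmV (a * a') b) = L s (cmV a b) + L s (cmV a' b) := by
    intro s a a' b; rw [hI2, hLadd]
  have hβ2 : ∀ s a b b', L s (cmV a (b * b')) = L s (cmV a b) + L s (cmV a b') := by
    intro s a b b'; rw [hI3, hLadd]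
  have hq0 : ∀ s, L s (sqV 1) = 0 := by
    intro s
    have : sqV 1 = 1 := Subtype.ext (mul_one 1)
    rw [this, hL1]
  have hβ0l : ∀ s b, L s (cmV 1 b) = 0 := by
    intro s b
    have : cmV 1 b = 1 := Subtype.ext (by show (1 : G)⁻¹ * b * 1 * b⁻¹ = 1; group)
    rw [this, hL1]
  have hβ0r : ∀ s a, L s (cmV a 1) = 0 := by
    intro s a
    have : cmV a 1 = 1 := Subtype.ext (by show a⁻¹ * 1 * a * (1 : G)⁻¹ = 1; group)
    rw [this, hL1]
  have hqpow : ∀ s a (t : ZMod 2), L s (sqV (a ^ t.val)) = t * L s (sqV a) := by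
    intro s a t
    fin_cases t
    · show L s (sqV (a ^ 0)) = 0 * L s (sqV a)
      rw [pow_zero, hq0, zero_mul]
    · show L s (sqV (a ^ 1)) = 1 * L s (sqV a)
      rw [pow_one, one_mul]
  have hβpl : ∀ s a b (t : ZMod 2), L s (cmV (a ^ t.val) b) = t * L s (cmV a b) := by
    intro s a b t
    fin_cases t
    · show L s (cmV (a ^ 0) b) = 0 * L s (cmV a b)
      rw [pow_zero, hβ0l, zero_mul]
    · show L s (cmV (a ^ 1) b) = 1 * L s (cmV a b)
      rw [pow_one, one_mul]
  have hβpr : ∀ s a b (t : ZMod 2), L s (cmV a (b ^ t.val)) = t * L s (cmV a b) := by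
    intro s a b t
    fin_cases t
    · show L s (cmV a (b ^ 0)) = 0 * L s (cmV a b)
      rw [pow_zero, hβ0r, zero_mul]
    · show L s (cmV a (b ^ 1)) = 1 * L s (cmV a b)
      rw [pow_one, one_mul]
  let g : (Fin 5 → ZMod 2) → G := fun x =>
    e 0 ^ (x 0).val * e 1 ^ (x 1).val * e 2 ^ (x 2).val * e 3 ^ (x 3).val * e 4 ^ (x 4).val
  have hkey : ∀ s x, L s (sqV (g x)) = ∑ i, L s (sqV (e i)) * x i +
      ∑ i, ∑ j, (if i < j then L s (cmV (e i) (e j)) else 0) * (x i * x j) := by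
    intro s x
    simp only [g, hq, hβ1, hβ2, hqpow, hβpl, hβpr, Fin.sum_univ_five]
    simp
    ring
  obtain ⟨x, hx0, hx1, hx2⟩ := cw5 (fun i => L 0 (sqV (e i))) (fun i => L 1 (sqV (e i)))
    (fun i j => if i < j then L 0 (cmV (e i) (e j)) else 0)
    (fun i j => if i < j then L 1 (cmV (e i) (e j)) else 0)
  have h0 : L 0 (sqV (g x)) = 0 := by rw [hkey]; exact hx1
  have h1 : L 1 (sqV (g x)) = 0 := by rw [hkey]; exact hx2
  have hs1 : sqV (g x) = 1 := hLker _ (fun s => by
    fin_cases s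
    · exact h0
    · exact h1)
  have hgV : g x ∈ V := hanis _ (congrArg Subtype.val hs1)
  have hprod : ∏ i, eb i ^ (x i).val = 1 := by
    rw [Fin.prod_univ_five]
    simp only [← he, ← QuotientGroup.mk_pow, ← QuotientGroup.mk_mul]
    exact (QuotientGroup.eq_one_iff _).mpr hgV
  exact hx0 (heb x hprod)

end Cfsg.Agent.Lib.helper88.S1237
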