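import Mathlib
import Cfsg.Prelude.Def_LieExceptional

set_option autoImplicit false

namespace Cfsg.Agent.Lib.helper88.BrAl

open MulAction

variable {G : Type*} [Group G] [Finite G] {p : ℕ} [Fact p.Prime] (P : Sylow p G)

/-- ALPHA-F: some non-identity element fixes two points. -/
theorem al_exists (hP : Nat.card P = p) (e : ℕ)
    (he : Nat.card (Subgroup.normalizer ((P : Subgroup G) : Set G)) = e * p) (he2 : 2 ≤ e)
    (hn : Nat.card (Sylow p G) = 1 + p) :
    ∃ g : G, g ≠ 1 ∧ ∃ a b : Sylow p G, a ≠ b ∧ g • a = a ∧ g • b = b := by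
  classical
  have hp : 2 ≤ p := (Fact.out : p.Prime).two_le
  haveI : Nontrivial (Sylow p G) := by
    rw [← Finite.one_lt_card_iff_nontrivial, hn]; omega
  obtain ⟨Q, hQ⟩ := exists_ne P
  have hfix : ∀ g : G, g ∈ Subgroup.normalizer ((P : Subgroup G) : Set G) → g • P = P :=
    fun g hg => Sylow.smul_eq_iff_mem_normalizer.mpr hg
  let f : Subgroup.normalizer ((P : Subgroup G) : Set G) → {R : Sylow p G // R ≠ P} := fun g =>
    ⟨(g : G) • Q, fun h => hQ (by
      have h1 : (g : G)⁻¹ • ((g : G) • Q) = (g : G)⁻¹ • P := by rw [h]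
      rw [inv_smul_smul] at h1
      rw [h1, inv_smul_eq_iff, hfix g g.2])⟩
  have hcard : Nat.card {R : Sylow p G // R ≠ P} = p := by
    have := Nat.card_congr (Equiv.optionSubtypeNe P)
    rw [Finite.card_option, hn] at this
    omega
  have hlt : Nat.card {R : Sylow p G // R ≠ P} <
      Nat.card (Subgroup.normalizer ((P : Subgroup G) : Set G)) := by
    rw [hcard, he]; nlinarith
  have hninj : ¬ Function.Injective f := fun hinj => by
    have := Nat.card_le_card_of_injective f hinj
    omega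
  obtain ⟨g1, g2, heq, hne⟩ := Function.not_injective_iff.mp hninj
  refine ⟨(g2 : G)⁻¹ * g1, ?_, P, Q, hQ.symm, ?_, ?_⟩
  · intro h
    apply hne
    apply Subtype.ext
    have h2 := congrArg (fun t => (g2 : G) * t) h
    simpa using h2
  · rw [mul_smul, hfix g1 g1.2, inv_smul_eq_iff, hfix g2 g2.2]
  · have h1 : (g1 : G) • Q = (g2 : G) • Q := congrArg Subtype.val heq
    rw [mul_smul, h1, inv_smul_smul]

end Cfsg.Agent.Lib.helper88.BrAl
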