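import Mathlib
import Cfsg.Prelude.Def_LieExceptional
import Cfsg.Agent.Lib.helper7.CardSL

set_option autoImplicit false

namespace Cfsg.Agent.Lib.helper88.BrAl

open MulAction

variable {G : Type*} [Group G] [Finite G] {p : ℕ} [Fact p.Prime] (P : Sylow p G)

theorem helper88_cube (x : ℕ) (hx : 1 ≤ x) : x * (x ^ 2 - 1) + x = x ^ 3 := by
  have h1 : 1 ≤ x ^ 2 := Nat.one_le_pow _ _ hx
  obtain ⟨y, hy⟩ : ∃ y, x ^ 2 = y + 1 := ⟨x ^ 2 - 1, by omega⟩
  rw [hy, Nat.add_sub_cancel]
  calc x * y + x = x * (y + 1) := by ring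
    _ = x * x ^ 2 := by rw [hy]
    _ = x ^ 3 := by ring

theorem helper88_cube_inj (q p : ℕ) (hq : 1 ≤ q) (hp : 1 ≤ p)
    (h : q * (q ^ 2 - 1) = p * (p ^ 2 - 1)) : q = p := by
  have h1 := helper88_cube q hq
  have h2 := helper88_cube p hp
  have h3 : q ^ 3 + p = p ^ 3 + q := by omega
  rcases lt_trichotomy q p with hlt | heq | hgt
  · exfalso
    have : q + 1 ≤ p := hlt
    nlinarith [sq_nonneg (p : ℤ), sq_nonneg (q : ℤ), mul_pos (show 0 < p by omega) (show 0 < q by omega)]
  · exact heq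
  · exfalso
    have : p + 1 ≤ q := hgt
    nlinarith [sq_nonneg (p : ℤ), sq_nonneg (q : ℤ), mul_pos (show 0 < p by omega) (show 0 < q by omega)]

/-- ALPHA-H: the final step (orders). -/
theorem al_final (hP : Nat.card P = p) (e : ℕ)
    (he : Nat.card (Subgroup.normalizer ((P : Subgroup G) : Set G)) = e * p)
    (het : 2 * e = p - 1) (hn : Nat.card (Sylow p G) = 1 + p)
    (h : (IsMultiplyPretransitive G (Sylow p G) 3 ∧
        ∀ t : Fin 3 ↪ Sylow p G, stabilizer G t = ⊥) ∨
      ∃ (K : Type) (_ : Field K) (_ : Fintype K), ringChar K ≠ 2 ∧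
        Nonempty (G ≃* Matrix.ProjectiveSpecialLinearGroup (Fin 2) K)) :
    ∃ (F : Type) (_ : Field F) (_ : Fintype F), Fintype.card F = p ∧
      Nonempty (G ≃* Matrix.ProjectiveSpecialLinearGroup (Fin 2) F) := by
  classical
  have hp2 : 2 ≤ p := (Fact.out : p.Prime).two_le
  have hp3 : 3 ≤ p := by omega
  -- the order of G
  have hG : 2 * Nat.card G = (1 + p) * p * (p - 1) := by
    have h1 : Nat.card (Sylow p G) = (Subgroup.normalizer ((P : Subgroup G) : Set G)).index :=
      Sylow.card_eq_index_normalizer P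
    have h2 := Subgroup.card_mul_index (Subgroup.normalizer ((P : Subgroup G) : Set G))
    rw [← h1, hn, he] at h2
    rw [← h2, ← het]
    ring
  rcases h with ⟨h3, hstab⟩ | ⟨K, hK1, hK2, hchar, ⟨φ⟩⟩
  · exfalso
    haveI : Fintype (Sylow p G) := Fintype.ofFinite _
    have hcardΩ : Fintype.card (Sylow p G) = 1 + p := by
      rw [← Nat.card_eq_fintype_card, hn]
    have hne : Nonempty (Fin 3 ↪ Sylow p G) := by
      apply Function.Embedding.nonempty_of_card_le
      rw [Fintype.card_fin, hcardΩ]; omega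
    obtain ⟨t₀⟩ := hne
    haveI : IsPretransitive G (Fin 3 ↪ Sylow p G) := h3
    have horb : orbit G t₀ = Set.univ := orbit_eq_univ G t₀
    have h4 : Nat.card (orbit G t₀) = Nat.card G := by
      rw [Nat.card_congr (MulAction.orbitEquivQuotientStabilizer G t₀)]
      show (stabilizer G t₀).index = Nat.card G
      rw [hstab t₀, Subgroup.index_bot]
    have h5 : Nat.card (orbit G t₀) = Nat.card (Fin 3 ↪ Sylow p G) := by
      rw [horb]; exact Nat.card_congr (Equiv.Set.univ _)
    have h6 : Nat.card (Fin 3 ↪ Sylow p G) = (1 + p) * p * (p - 1) := by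
      rw [Nat.card_eq_fintype_card, Fintype.card_embedding_eq, Fintype.card_fin, hcardΩ]
      have e1 : 1 + p - 2 = p - 1 := by omega
      simp [Nat.descFactorial]
      rw [e1]
      ring
    have h7 : Nat.card G = (1 + p) * p * (p - 1) := by
      rw [← h4, h5, h6]
    have hpos : 0 < (1 + p) * p * (p - 1) := by
      apply Nat.mul_pos (Nat.mul_pos (by omega) (by omega)); omega
    omega
  · have h2K : (2 : K) ≠ 0 := Ring.two_ne_zero hchar
    have hc := Cfsg.Agent.Lib.helper7.two_mul_card_PSL2 (F := K) (q := Fintype.card K) rfl h2K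
    rw [← Nat.card_congr φ.toEquiv, hG] at hc
    have hq1 : 1 ≤ Fintype.card K := Fintype.card_pos
    have hpp : (1 + p) * p * (p - 1) = p * (p ^ 2 - 1) := by
      obtain ⟨r, rfl⟩ : ∃ r, p = r + 1 := ⟨p - 1, by omega⟩
      have : (r + 1) ^ 2 - 1 = r * (r + 2) := by
        have : (r + 1) ^ 2 = r * (r + 2) + 1 := by ring
        omega
      rw [this, Nat.add_sub_cancel]
      ring
    rw [hpp] at hc
    have hq := helper88_cube_inj (Fintype.card K) p hq1 (by omega) hc.symm
    exact ⟨K, hK1, hK2, hq, ⟨φ⟩⟩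

end Cfsg.Agent.Lib.helper88.BrAl
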