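import Cfsg.Agent.Lib.helper88.Hyperfocal
import Cfsg.Agent.Lib.helper87.Factor

set_option autoImplicit false

/-!
The inner fusion system is saturated; saturated systems over abelian `p`-groups (every map extends
to an automorphism of `S`, the inner system is normal); maps induced on a factor system; a
quasisimple system is not over an abelian group.
-/

namespace Cfsg.Agent.Lib.helper88

open Cfsg Cfsg.FusionSystem

variable {Ω : Type*} [Group Ω] {S : Subgroup Ω}

/-- The inner fusion system of a finite `p`-group is saturated. -/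
theorem innerFusionSystem_saturated [Finite S] {p : ℕ} [Fact p.Prime] (hS : IsPGroup p S) :
    (innerFusionSystem S).IsSaturated p := by
  intro P hP
  refine ⟨P, isConj_refl _ hP, ⟨hP, ?_⟩, hP, ?_⟩
  · have hle : (innerFusionSystem S).autGroup P ≤ autInducedBy S P := by
      unfold FusionSystem.autGroup
      rw [Subgroup.closure_le]
      rintro α ⟨-, g, hg, hα⟩
      rw [SetLike.mem_coe, mem_autInducedBy_iff]
      exact ⟨g, hg, fun x => hα x⟩
    have hp : IsPGroup p ((innerFusionSystem S).autGroup P) :=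
      (isPGroup_autInducedBy hS P).to_le hle
    obtain ⟨Q, hQ⟩ := (hp.to_subgroup ⊤).exists_le_sylow
    refine ⟨Q, ?_⟩
    rw [top_le_iff.mp hQ]
    exact (Subgroup.subgroupOf_eq_top.mpr hle).symm
  · intro P' φ hφ _
    obtain ⟨hP', g, hg, hφg⟩ := hφ
    refine ⟨conjHom (extender S P' φ) g,
      (innerFusionSystem S).conj_mem
        ((extender_le_normalizerIn S P' φ).trans (normalizerIn_le S P')) hg, fun x hP hN => ?_⟩
    rw [hφg]
    rfl

/-- In a saturated fusion system over an abelian `p`-group every map extends to an automorphism of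
`S` in the system. -/
theorem exists_aut_extending_of_abelian [Finite S] {p : ℕ} [Fact p.Prime] (hS : IsPGroup p S)
    (F : FusionSystem S) (hF : F.IsSaturated p) (hab : ∀ x ∈ S, ∀ y ∈ S, x * y = y * x)
    {P : Subgroup Ω} {φ : P →* Ω} (hφ : φ ∈ F.Hom P) :
    ∃ α ∈ F.autGroup S, ∀ (x : P), ((α ⟨x, (F.le_of_mem hφ).1 x.2⟩ : S) : Ω) = φ x := by
  have hPS := (F.le_of_mem hφ).1
  have hfinP : Finite P := finite_of_le hPS
  have hQS : φ.range ≤ S := by
    rintro _ ⟨x, rfl⟩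
    exact (F.le_of_mem hφ).2 x
  have hcent : ∀ Q : Subgroup Ω, Q ≤ S → centralizerIn S Q = S := by
    intro Q hQ
    apply le_antisymm inf_le_left
    intro s hs
    exact ⟨hs, fun q hq => hab q (hQ hq) s hs⟩
  have hfc : F.IsFullyCentralized φ.range := by
    refine ⟨hQS, fun Q' hQ' => ?_⟩
    rw [hcent _ hQS, hcent _ (isConj_le F hQ')]
  have hrec := receptive_of_fullyCentralized hS F hF hfc
  obtain ⟨ψ, hψ, hψφ⟩ := hrec.2 P φ hφ rfl
  have hSext : S ≤ extender S P φ := by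
    intro g hg
    rw [mem_extender_iff]
    have hgx : ∀ x : P, g * (x : Ω) * g⁻¹ = x := fun x => by
      rw [hab g hg x (hPS x.2)]
      group
    refine ⟨hg, mem_normalizer_of_conj_mem (fun x hx => ?_), 1, S.one_mem, fun x hx => ?_⟩
    · rw [hgx ⟨x, hx⟩]
      exact hx
    · have h1 : (⟨g * (x : Ω) * g⁻¹, hx⟩ : P) = x := Subtype.ext (hgx x)
      rw [h1]
      group
  have hψS : ψ.comp (Subgroup.inclusion hSext) ∈ F.Hom S := restrict_mem F hSext hψ
  have hval : ∀ s : S, (ψ.comp (Subgroup.inclusion hSext)) s ∈ S := (F.le_of_mem hψS).2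
  have hinj : Function.Injective
      (MonoidHom.codRestrict (ψ.comp (Subgroup.inclusion hSext)) S hval) := by
    intro s s' hss
    have h0 := congrArg Subtype.val hss
    exact F.injective_of_mem hψS h0
  obtain ⟨α, hα⟩ : ∃ α : MulAut S, ∀ s : S, ((α s : S) : Ω) = ψ (Subgroup.inclusion hSext s) :=
    ⟨MulEquiv.ofBijective _ ⟨hinj, Finite.injective_iff_surjective.mp hinj⟩, fun s => rfl⟩
  refine ⟨α, ?_, fun x => ?_⟩
  · rw [mem_autGroup_iff' F le_rfl]
    have h1 : S.subtype.comp α.toMonoidHom = ψ.comp (Subgroup.inclusion hSext) := by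
      ext s
      exact hα s
    rw [h1]
    exact hψS
  · rw [hα]
    exact hψφ x x.2 _

/-- The inner fusion system of an abelian `p`-group `S` is normal in every saturated fusion system
over `S`. -/
theorem innerFusionSystem_isNormalIn_of_abelian [Finite S] {p : ℕ} [Fact p.Prime]
    (hS : IsPGroup p S) (F : FusionSystem S) (hF : F.IsSaturated p)
    (hab : ∀ x ∈ S, ∀ y ∈ S, x * y = y * x) : (innerFusionSystem S).IsNormalIn F p := by
  have hsub : (innerFusionSystem S).IsSubsystemOf F := fun P =>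
    Cfsg.Agent.Lib.helper89.inner_hom_subset F P
  refine ⟨⟨innerFusionSystem_saturated hS, hF, hsub,
    ⟨le_rfl, fun R _ φ hφ x => (F.le_of_mem hφ).2 x⟩, ?_, ?_⟩, ?_⟩
  · intro P hPS φ hφ α hα
    obtain ⟨-, g, hg, hφg⟩ := hφ
    have hM : (P.subgroupOf S).map (S.subtype.comp α.toMonoidHom) ≤ S := by
      rintro _ ⟨s, -, rfl⟩
      exact (α s).2
    refine ⟨conjHom _ ((α ⟨g, hg⟩ : S) : Ω),
      (innerFusionSystem S).conj_mem hM (α ⟨g, hg⟩).2, fun x hφx hαx => ?_⟩
    show ((α ⟨g, hg⟩ : S) : Ω) * ((α ⟨x, hPS x.2⟩ : S) : Ω) * ((α ⟨g, hg⟩ : S) : Ω)⁻¹ =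
      ((α ⟨φ x, hφx⟩ : S) : Ω)
    have h1 : (⟨φ x, hφx⟩ : S) = ⟨g, hg⟩ * ⟨x, hPS x.2⟩ * (⟨g, hg⟩ : S)⁻¹ := Subtype.ext (hφg x)
    rw [h1, map_mul, map_mul, map_inv]
    rfl
  · intro P hPS φ hφ
    obtain ⟨α, hα, hαφ⟩ := exists_aut_extending_of_abelian hS F hF hab hφ
    refine ⟨α, hα, P.subtype, subtype_mem _ hPS, fun x hx => ?_⟩
    exact (hαφ x).symm
  · intro α hα
    have hα' := (mem_autGroup_iff' (innerFusionSystem S) le_rfl α).mp hα
    obtain ⟨-, g, hg, hαg⟩ := hα'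
    have hle : S ⊔ centralizerIn S S ≤ S := sup_le le_rfl inf_le_left
    have heq : S ⊔ centralizerIn S S = S := le_antisymm hle le_sup_left
    have hgN : g ∈ Subgroup.normalizer ((S ⊔ centralizerIn S S : Subgroup Ω) : Set Ω) := by
      rw [heq]
      exact Subgroup.le_normalizer hg
    refine ⟨conjAut _ g hgN, autInducedBy_le_autGroup F hle (conjAut_mem S _ g hgN hg),
      fun x => ?_, fun c hc => ?_⟩
    · exact (hαg x).symm
    · show (c : Ω)⁻¹ * (g * (c : Ω) * g⁻¹) ∈ _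
      have hcg : g * (c : Ω) = (c : Ω) * g := hc.2 g hg
      have h1 : (c : Ω)⁻¹ * (g * (c : Ω) * g⁻¹) = 1 := by
        rw [hcg]
        group
      rw [h1]
      exact Subgroup.one_mem _

/-- In a simple fusion system over an abelian `p`-group every map is an inclusion. -/
theorem hom_eq_subtype_of_simple_abelian [Finite S] {p : ℕ} [Fact p.Prime] (hS : IsPGroup p S)
    (F : FusionSystem S) (hF : F.IsSimple p) (hab : ∀ x ∈ S, ∀ y ∈ S, x * y = y * x)
    {P : Subgroup Ω} {φ : P →* Ω} (hφ : φ ∈ F.Hom P) (x : P) : φ x = x := by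
  obtain ⟨hsat, hne, hsimple⟩ := hF
  rcases hsimple S (innerFusionSystem S) (innerFusionSystem_isNormalIn_of_abelian hS F hsat hab)
    with h | ⟨-, h⟩
  · exact absurd h hne
  · rw [← h P] at hφ
    obtain ⟨hP, g, hg, hφg⟩ := hφ
    rw [hφg, hab g hg x (hP x.2)]
    group

/-- A map of `F` whose source contains `S₀` and which maps `S₀` into itself induces a map of any
factor system of `F` modulo `S₀`. -/
theorem exists_induced_of_factorSystem {Ω' : Type*} [Group Ω'] {S' : Subgroup Ω'}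
    (F : FusionSystem S) (S₀ : Subgroup Ω) (θ : S →* Ω') (E : FusionSystem S')
    (hE : F.IsFactorSystem S₀ θ E) {M : Subgroup Ω} {ψ : M →* Ω} (hψ : ψ ∈ F.Hom M)
    (hS₀M : S₀ ≤ M) (hψS₀ : ∀ z : M, (z : Ω) ∈ S₀ → ψ z ∈ S₀) :
    ∃ φ' ∈ E.Hom (imageAlong θ M), ∀ (m : M)
      (hm' : θ ⟨m, (F.le_of_mem hψ).1 m.2⟩ ∈ imageAlong θ M),
      φ' ⟨θ ⟨m, (F.le_of_mem hψ).1 m.2⟩, hm'⟩ = θ ⟨ψ m, (F.le_of_mem hψ).2 m⟩ := by
  classical
  obtain ⟨hS₀S, hker, hrange, hiff⟩ := hE
  have hMS : M ≤ S := (F.le_of_mem hψ).1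
  have hψSv : ∀ m : M, ψ m ∈ S := (F.le_of_mem hψ).2
  have hpre : preimageAlong θ (imageAlong θ M) = M := by
    ext x
    rw [Cfsg.Agent.Lib.helper87.mem_preimageAlong]
    constructor
    · rintro ⟨h, s, hs, hsx⟩
      have h1 : θ (⟨x, h⟩ * s⁻¹) = 1 := by
        rw [map_mul, map_inv, hsx, mul_inv_cancel]
      have h2 : x * (s : Ω)⁻¹ ∈ S₀ := (hker _).mp h1
      have h3 : x = x * (s : Ω)⁻¹ * (s : Ω) := by group
      rw [h3]
      exact M.mul_mem (hS₀M h2) (Subgroup.mem_subgroupOf.mp hs)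
    · intro hx
      exact ⟨hMS hx, ⟨x, hMS hx⟩, Subgroup.mem_subgroupOf.mpr hx, rfl⟩
  have hπmem : ∀ m : M, (θ.comp (Subgroup.inclusion hMS)) m ∈ imageAlong θ M := fun m =>
    ⟨Subgroup.inclusion hMS m, Subgroup.mem_subgroupOf.mpr m.2, rfl⟩
  have hπsurj : Function.Surjective
      (MonoidHom.codRestrict (θ.comp (Subgroup.inclusion hMS)) (imageAlong θ M) hπmem) := by
    rintro ⟨_, s, hs, rfl⟩
    exact ⟨⟨(s : Ω), Subgroup.mem_subgroupOf.mp hs⟩, Subtype.ext rfl⟩
  have hkf : (MonoidHom.codRestrict (θ.comp (Subgroup.inclusion hMS)) (imageAlong θ M) hπmem).ker ≤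
      (θ.comp (ψ.codRestrict S hψSv)).ker := by
    intro m hm
    rw [MonoidHom.mem_ker] at hm ⊢
    have h1 : θ (Subgroup.inclusion hMS m) = 1 := congrArg Subtype.val hm
    have h2 : (m : Ω) ∈ S₀ := (hker _).mp h1
    exact (hker _).mpr (hψS₀ m h2)
  refine ⟨(MonoidHom.codRestrict (θ.comp (Subgroup.inclusion hMS)) (imageAlong θ M)
      hπmem).liftOfSurjective hπsurj ⟨θ.comp (ψ.codRestrict S hψSv), hkf⟩, ?_, ?_⟩
  · rw [hiff]
    refine ⟨?_, ψ.comp (Subgroup.inclusion hpre.le), cast_mem F hpre hψ, ?_⟩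
    · rintro _ ⟨s, -, rfl⟩
      rw [← hrange]
      exact ⟨s, rfl⟩
    · refine ⟨hpre.le.trans hMS, fun x => hψSv _, fun x =>
        ⟨⟨x, hpre.le.trans hMS x.2⟩, Subgroup.mem_subgroupOf.mpr (hpre.le x.2), rfl⟩, fun x => ?_⟩
      exact MonoidHom.liftOfRightInverse_comp_apply _ _ _ _ (Subgroup.inclusion hpre.le x)
  · intro m hm'
    exact MonoidHom.liftOfRightInverse_comp_apply _ _ _ _ m

/-- A central subgroup is strongly closed. -/
theorem stronglyClosed_of_isCentral (F : FusionSystem S) {Z : Subgroup Ω} (hZ : F.IsCentral Z) :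
    F.StronglyClosed Z := by
  refine ⟨hZ.1, fun R hR φ hφ x => ?_⟩
  obtain ⟨ψ, -, hψR, hψZ⟩ := hZ.2 R φ hφ
  have h1 := hψR x
  have h2 := hψZ ⟨x, hR x.2⟩
  have e : Subgroup.inclusion (le_sup_right : Z ≤ R ⊔ Z) ⟨(x : Ω), hR x.2⟩ =
      Subgroup.inclusion (le_sup_left : R ≤ R ⊔ Z) x := Subtype.ext rfl
  rw [e, h1] at h2
  rw [h2]
  exact hR x.2

/-- A quasisimple fusion system over a finite `p`-group is not over an abelian group. -/
theorem not_isMulCommutative_of_quasisimple [Finite S] (p : ℕ) [Fact p.Prime] (hS : IsPGroup p S)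
    (F : FusionSystem S) (hq : F.Quasisimple p) : ¬ IsMulCommutative S := by
  intro hcomm
  obtain ⟨hsat, hhyp, hfac⟩ := hq
  have hZc : F.IsCentral F.center := isCentral_center F
  have hZS : F.center ≤ S := hZc.1
  have hZsc : F.StronglyClosed F.center := stronglyClosed_of_isCentral F hZc
  have hker : ∀ s : S, QuotientGroup.mk' ((F.center).subgroupOf S) s = 1 ↔ (s : Ω) ∈ F.center :=
    fun s => by
      rw [QuotientGroup.mk'_apply, QuotientGroup.eq_one_iff]
      exact Subgroup.mem_subgroupOf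
  have hrange : (QuotientGroup.mk' ((F.center).subgroupOf S)).range = ⊤ :=
    MonoidHom.range_eq_top.mpr (QuotientGroup.mk'_surjective _)
  obtain ⟨E, hE⟩ := Cfsg.Agent.Lib.helper87.exists_factorSystem F F.center hZsc
    (QuotientGroup.mk' ((F.center).subgroupOf S)) hker ⊤ hrange
  have hEs : E.IsSimple p := hfac E hE
  have hp' : IsPGroup p (⊤ : Subgroup (S ⧸ (F.center).subgroupOf S)) :=
    (hS.to_quotient _).to_subgroup ⊤
  have hab' : ∀ x ∈ (⊤ : Subgroup (S ⧸ (F.center).subgroupOf S)),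
      ∀ y ∈ (⊤ : Subgroup (S ⧸ (F.center).subgroupOf S)), x * y = y * x := by
    intro x _ y _
    obtain ⟨a, rfl⟩ := QuotientGroup.mk_surjective x
    obtain ⟨b, rfl⟩ := QuotientGroup.mk_surjective y
    rw [← QuotientGroup.mk_mul, ← QuotientGroup.mk_mul, mul_comm' a b]
  have key : ∀ (P : Subgroup Ω) (φ : P →* Ω), φ ∈ F.Hom P → ∀ x : P,
      (x : Ω)⁻¹ * φ x ∈ F.center := by
    intro P φ hφ x
    have hPS := (F.le_of_mem hφ).1
    have hφS := (F.le_of_mem hφ).2
    obtain ⟨ψ, hψ, hψP, hψZ⟩ := hZc.2 P φ hφ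
    have hψZ' : ∀ z : ↥(P ⊔ F.center), (z : Ω) ∈ F.center → ψ z ∈ F.center := by
      intro z hz
      have h0 := hψZ ⟨z, hz⟩
      have e : Subgroup.inclusion (le_sup_right : F.center ≤ P ⊔ F.center) ⟨(z : Ω), hz⟩ = z :=
        Subtype.ext rfl
      rw [e] at h0
      rw [h0]
      exact hz
    obtain ⟨φ', hφ', hind⟩ := exists_induced_of_factorSystem F F.center _ E hE hψ le_sup_right hψZ'
    have hm' : QuotientGroup.mk' ((F.center).subgroupOf S) ⟨(x : Ω), hPS x.2⟩ ∈
        imageAlong (QuotientGroup.mk' ((F.center).subgroupOf S)) (P ⊔ F.center) :=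
      ⟨⟨x, hPS x.2⟩, Subgroup.mem_subgroupOf.mpr ((le_sup_left : P ≤ P ⊔ F.center) x.2), rfl⟩
    have h1 := hind (Subgroup.inclusion le_sup_left x) hm'
    have h2 := hom_eq_subtype_of_simple_abelian hp' E hEs hab' hφ' ⟨_, hm'⟩
    have h1' := h2.symm.trans h1
    have h3 : QuotientGroup.mk' ((F.center).subgroupOf S) ⟨(x : Ω), hPS x.2⟩ =
        QuotientGroup.mk' ((F.center).subgroupOf S) ⟨φ x, hφS x⟩ := by
      refine h1'.trans ?_
      congr 1
      exact Subtype.ext (hψP x)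
    have h4 : QuotientGroup.mk' ((F.center).subgroupOf S)
        ((⟨(x : Ω), hPS x.2⟩ : S)⁻¹ * ⟨φ x, hφS x⟩) = 1 := by
      rw [map_mul, map_inv, h3, inv_mul_cancel]
    exact (hker _).mp h4
  have hhypZ : F.hyperfocalSubgroup p ≤ F.center := by
    unfold hyperfocalSubgroup
    rw [Subgroup.closure_le]
    rintro _ ⟨P, α, x, hP, -, rfl⟩
    exact key P _ ((mem_autGroup_iff' F hP α).mp α.2) x
  have hSZ : S ≤ F.center := le_of_eq_of_le hhyp.symm hhypZ
  apply hEs.2.1
  rw [eq_bot_iff]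
  intro q _
  obtain ⟨s, rfl⟩ := QuotientGroup.mk_surjective q
  rw [Subgroup.mem_bot]
  exact (hker s).mpr (hSZ s.2)

end Cfsg.Agent.Lib.helper88
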