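import Mathlib

set_option autoImplicit false

/-!
Coprime action of a single automorphism: for an automorphism `α` of a group `P` with `α ^ m = 1`
and `x ∈ P`, the `m`-th power of `x⁻¹ α(x)` lies in `[[P, α], α]`; hence `[P, α] = [[P, α], α]`
when the elements of `P` have order prime to `m`.
-/

namespace Cfsg.Agent.Lib.helper88

section coprime

variable {P : Type*} [Group P] (α : MulAut P)

/-- `[P, α]`: the subgroup generated by the `x⁻¹ α(x)`. -/
def commSub : Subgroup P := Subgroup.closure {w : P | ∃ x : P, w = x⁻¹ * α x}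

/-- `[[P, α], α]`: the subgroup generated by the `y⁻¹ α(y)` with `y ∈ [P, α]`. -/
def commSub₂ : Subgroup P := Subgroup.closure {w : P | ∃ y ∈ commSub α, w = y⁻¹ * α y}

theorem map_mem_commSub {y : P} (hy : y ∈ commSub α) : α y ∈ commSub α := by
  have h : α y = y * (y⁻¹ * α y) := by group
  rw [h]
  exact Subgroup.mul_mem _ hy (Subgroup.subset_closure ⟨y, rfl⟩)

theorem pow_map_mem_commSub {y : P} (hy : y ∈ commSub α) (k : ℕ) : (α ^ k) y ∈ commSub α := by
  induction k with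
  | zero => simpa using hy
  | succ k ih =>
    rw [pow_succ', MulAut.mul_apply]
    exact map_mem_commSub α ih

theorem commSub₂_le : commSub₂ α ≤ commSub α := by
  unfold commSub₂
  rw [Subgroup.closure_le]
  rintro _ ⟨y, hy, rfl⟩
  exact Subgroup.mul_mem _ (Subgroup.inv_mem _ hy) (map_mem_commSub α hy)

theorem conj_mem_commSub₂ {z w : P} (hz : z ∈ commSub α) (hw : w ∈ commSub₂ α) :
    z⁻¹ * w * z ∈ commSub₂ α := by
  unfold commSub₂ at hw
  induction hw using Subgroup.closure_induction with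
  | mem w hw =>
    obtain ⟨y, hy, rfl⟩ := hw
    have h : z⁻¹ * (y⁻¹ * α y) * z = ((y * z)⁻¹ * α (y * z)) * (z⁻¹ * α z)⁻¹ := by
      rw [map_mul]
      group
    rw [h]
    exact Subgroup.mul_mem _ (Subgroup.subset_closure ⟨y * z, Subgroup.mul_mem _ hy hz, rfl⟩)
      (Subgroup.inv_mem _ (Subgroup.subset_closure ⟨z, hz, rfl⟩))
  | one =>
    have h : z⁻¹ * 1 * z = 1 := by group
    rw [h]
    exact Subgroup.one_mem _
  | mul a b _ _ ha hb =>
    have h : z⁻¹ * (a * b) * z = (z⁻¹ * a * z) * (z⁻¹ * b * z) := by group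
    rw [h]
    exact Subgroup.mul_mem _ ha hb
  | inv a _ ha =>
    have h : z⁻¹ * a⁻¹ * z = (z⁻¹ * a * z)⁻¹ := by group
    rw [h]
    exact Subgroup.inv_mem _ ha

theorem inv_mul_pow_map_mem_commSub₂ {n : P} (hn : n ∈ commSub α) (k : ℕ) :
    n⁻¹ * (α ^ k) n ∈ commSub₂ α := by
  induction k with
  | zero =>
    have h : n⁻¹ * (α ^ 0) n = 1 := by simp
    rw [h]
    exact Subgroup.one_mem _
  | succ k ih =>
    have h : n⁻¹ * (α ^ (k + 1)) n = (n⁻¹ * (α ^ k) n) * (((α ^ k) n)⁻¹ * α ((α ^ k) n)) := by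
      rw [pow_succ', MulAut.mul_apply]
      group
    rw [h]
    exact Subgroup.mul_mem _ ih (Subgroup.subset_closure ⟨_, pow_map_mem_commSub α hn k, rfl⟩)

theorem pow_inv_mul_mem_commSub₂ (x : P) (k : ℕ) :
    ((x⁻¹ * α x) ^ k)⁻¹ * (x⁻¹ * (α ^ k) x) ∈ commSub₂ α := by
  have hn : x⁻¹ * α x ∈ commSub α := Subgroup.subset_closure ⟨x, rfl⟩
  induction k with
  | zero =>
    have h : ((x⁻¹ * α x) ^ 0)⁻¹ * (x⁻¹ * (α ^ 0) x) = 1 := by simp
    rw [h]
    exact Subgroup.one_mem _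
  | succ k ih =>
    have key : x⁻¹ * (α ^ (k + 1)) x = (x⁻¹ * (α ^ k) x) * (α ^ k) (x⁻¹ * α x) := by
      rw [pow_succ, MulAut.mul_apply, map_mul, map_inv]
      group
    have h : ((x⁻¹ * α x) ^ (k + 1))⁻¹ * (x⁻¹ * (α ^ (k + 1)) x) =
        ((x⁻¹ * α x)⁻¹ * (((x⁻¹ * α x) ^ k)⁻¹ * (x⁻¹ * (α ^ k) x)) * (x⁻¹ * α x)) *
          ((x⁻¹ * α x)⁻¹ * (α ^ k) (x⁻¹ * α x)) := by
      rw [key, pow_succ]
      generalize x⁻¹ * α x = n
      generalize x⁻¹ * (α ^ k) x = c
      generalize n ^ k = q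
      generalize (α ^ k) n = d
      group
    rw [h]
    exact Subgroup.mul_mem _ (conj_mem_commSub₂ α hn ih) (inv_mul_pow_map_mem_commSub₂ α hn k)

theorem commutator_pow_mem_commSub₂ {m : ℕ} (hm : α ^ m = 1) (x : P) :
    (x⁻¹ * α x) ^ m ∈ commSub₂ α := by
  have h := pow_inv_mul_mem_commSub₂ α x m
  rw [hm] at h
  simp only [MulAut.one_apply, inv_mul_cancel, mul_one] at h
  exact (Subgroup.inv_mem_iff _).mp h

/-- `x⁻¹ α(x) ∈ [[P, α], α]` when its order is prime to the order of `α`. -/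
theorem commutator_mem_commSub₂ {m : ℕ} (hm : α ^ m = 1) (x : P)
    (hcop : m.Coprime (orderOf (x⁻¹ * α x))) : x⁻¹ * α x ∈ commSub₂ α := by
  obtain ⟨j, hj⟩ := exists_pow_eq_self_of_coprime hcop
  rw [← hj]
  exact Subgroup.pow_mem _ (commutator_pow_mem_commSub₂ α hm x) j

end coprime

end Cfsg.Agent.Lib.helper88
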