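import Cfsg.Agent.Lib.helper88.Subsystem
import Cfsg.Agent.Lib.helper88.Coprime
import Cfsg.Prelude.Def_FusionReduction

set_option autoImplicit false

/-!
Residual subsystems: extensionality and transport of fusion systems with equal map sets, the
hyperfocal subgroup of a subsystem of `p`-power index, uniqueness of the `p`-residual and
`p'`-residual subsystems and of the residual limit.
-/

namespace Cfsg.Agent.Lib.helper88

open Cfsg Cfsg.FusionSystem

universe u

variable {Ω : Type u} [Group Ω] {S : Subgroup Ω}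

/-! ### Extensionality and transport -/

theorem fusionSystem_ext (X Y : FusionSystem S) (h : ∀ P, X.Hom P = Y.Hom P) : X = Y := by
  cases X
  cases Y
  simp only [FusionSystem.mk.injEq]
  exact funext h

theorem le_of_subsystem {T : Subgroup Ω} {E : FusionSystem T} {F : FusionSystem S}
    (h : E.IsSubsystemOf F) : T ≤ S :=
  (F.le_of_mem (h T (subtype_mem E le_rfl))).1

theorem base_eq_of_hom_eq {S₁ S₂ : Subgroup Ω} (X : FusionSystem S₁) (Y : FusionSystem S₂)
    (h : ∀ P, X.Hom P = Y.Hom P) : S₁ = S₂ :=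
  le_antisymm (le_of_subsystem (E := X) (F := Y) (fun P => (h P).le))
    (le_of_subsystem (E := Y) (F := X) (fun P => (h P).ge))

/-- Two fusion systems with the same maps (possibly written over different, hence equal, subgroups)
have the same properties. -/
theorem transport {S₁ S₂ : Subgroup Ω} (X : FusionSystem S₁) (Y : FusionSystem S₂)
    (h : ∀ P, X.Hom P = Y.Hom P) (C : ∀ S : Subgroup Ω, FusionSystem S → Prop) (hC : C S₁ X) :
    C S₂ Y := by
  have hS := base_eq_of_hom_eq X Y h
  subst hS
  have := fusionSystem_ext X Y h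
  subst this
  exact hC

/-! ### Hyperfocal subgroups -/

theorem hyperfocal_le (F : FusionSystem S) (p : ℕ) : F.hyperfocalSubgroup p ≤ S := by
  unfold hyperfocalSubgroup
  rw [Subgroup.closure_le]
  rintro _ ⟨P, α, x, hP, -, rfl⟩
  exact S.mul_mem (S.inv_mem (hP x.2)) (hP (((α : MulAut P) x : P)).2)

theorem hyperfocal_le_of_subsystem {T : Subgroup Ω} {E : FusionSystem T} {F : FusionSystem S}
    (h : E.IsSubsystemOf F) (p : ℕ) : E.hyperfocalSubgroup p ≤ F.hyperfocalSubgroup p := by
  have hTS := le_of_subsystem h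
  unfold hyperfocalSubgroup
  rw [Subgroup.closure_le]
  rintro _ ⟨P, α, x, hP, hα, rfl⟩
  apply Subgroup.subset_closure
  have hle := autGroup_le_of_subsystem h P
  refine ⟨P, Subgroup.inclusion hle α, x, hP.trans hTS, ?_, rfl⟩
  exact pResidual_map_le p (Subgroup.inclusion hle) ⟨α, hα, rfl⟩

/-- A subsystem of `p`-power index has the same hyperfocal subgroup. -/
theorem hyperfocal_le_of_pPowerIndex [Finite S] {p : ℕ} [Fact p.Prime] (hS : IsPGroup p S)
    {T : Subgroup Ω} {E : FusionSystem T} {F : FusionSystem S} (hidx : E.HasPPowerIndexIn F p) :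
    F.hyperfocalSubgroup p ≤ E.hyperfocalSubgroup p := by
  obtain ⟨hsub, hT, hres⟩ := hidx
  have key : ∀ (P : Subgroup Ω), P ≤ S → ∀ α : F.autGroup P, (orderOf α).Coprime p → ∀ x : P,
      ((x : Ω)⁻¹ * ((α : MulAut P) x : P)) ∈ E.hyperfocalSubgroup p := by
    intro P hPS α hα x
    have hfinP : Finite P := finite_of_le hPS
    have hα' : (orderOf (α : MulAut P)).Coprime p := by rwa [Subgroup.orderOf_coe]
    generalize hadef : (α : MulAut P) = a at hα'
    have haF : a ∈ F.autGroup P := hadef ▸ α.2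
    have hNP : (commSub a).map P.subtype ≤ P := by
      rintro _ ⟨y, -, rfl⟩
      exact y.2
    have hNhyp : (commSub a).map P.subtype ≤ F.hyperfocalSubgroup p := by
      rw [Subgroup.map_le_iff_le_comap]
      unfold commSub
      rw [Subgroup.closure_le]
      rintro _ ⟨y, rfl⟩
      show P.subtype (y⁻¹ * a y) ∈ F.hyperfocalSubgroup p
      apply Subgroup.subset_closure
      refine ⟨P, α, y, hPS, Subgroup.subset_closure hα, ?_⟩
      rw [hadef]
      rfl
    have hNT : (commSub a).map P.subtype ≤ T := hNhyp.trans hT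
    have hNS : (commSub a).map P.subtype ≤ S := hNP.trans hPS
    have hfinN : Finite ((commSub a).map P.subtype) := finite_of_le hNS
    have hmapN : ∀ y : ((commSub a).map P.subtype),
        ((P.subtype.comp a.toMonoidHom).comp (Subgroup.inclusion hNP)) y ∈
          (commSub a).map P.subtype := by
      rintro ⟨_, y, hy, rfl⟩
      exact ⟨a y, map_mem_commSub a hy, rfl⟩
    have hfinj : Function.Injective (MonoidHom.codRestrict
        ((P.subtype.comp a.toMonoidHom).comp (Subgroup.inclusion hNP)) _ hmapN) := by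
      intro y y' hyy
      have h1 : ((a (Subgroup.inclusion hNP y) : P) : Ω) = ((a (Subgroup.inclusion hNP y') : P) : Ω) := by
        have h0 := congrArg Subtype.val hyy
        exact h0
      have h2 := a.injective (Subtype.ext h1)
      exact Subgroup.inclusion_injective hNP h2
    obtain ⟨β, hβ⟩ : ∃ β : MulAut ((commSub a).map P.subtype), ∀ y,
        ((β y : ((commSub a).map P.subtype)) : Ω) = ((a (Subgroup.inclusion hNP y) : P) : Ω) :=
      ⟨MulEquiv.ofBijective _ ⟨hfinj, Finite.injective_iff_surjective.mp hfinj⟩, fun y => rfl⟩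
    have hβF : β ∈ F.autGroup ((commSub a).map P.subtype) := by
      rw [mem_autGroup_iff' F hNS]
      have h1 : P.subtype.comp a.toMonoidHom ∈ F.Hom P := (mem_autGroup_iff' F hPS a).mp haF
      have h2 := restrict_mem F hNP h1
      have h3 : ((commSub a).map P.subtype).subtype.comp β.toMonoidHom =
          (P.subtype.comp a.toMonoidHom).comp (Subgroup.inclusion hNP) := by
        ext y
        exact hβ y
      rw [h3]
      exact h2
    have hpow : ∀ (k : ℕ) (y : ((commSub a).map P.subtype)),
        (((β ^ k) y : ((commSub a).map P.subtype)) : Ω) =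
          (((a ^ k) (Subgroup.inclusion hNP y) : P) : Ω) := by
      intro k
      induction k with
      | zero => intro y; rfl
      | succ k ih =>
        intro y
        rw [pow_succ, MulAut.mul_apply, pow_succ, MulAut.mul_apply, ih]
        have h4 : Subgroup.inclusion hNP (β y) = a (Subgroup.inclusion hNP y) :=
          Subtype.ext (hβ y)
        rw [h4]
    have hβm : β ^ orderOf a = 1 := by
      apply MulEquiv.ext
      intro y
      apply Subtype.ext
      rw [hpow, pow_orderOf_eq_one]
      rfl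
    have hordβ : (orderOf β).Coprime p :=
      Nat.Coprime.coprime_dvd_left (orderOf_dvd_of_pow_eq_one hβm) hα'
    have hβres : (⟨β, hβF⟩ : F.autGroup ((commSub a).map P.subtype)) ∈
        pResidual p (F.autGroup ((commSub a).map P.subtype)) := by
      apply Subgroup.subset_closure
      show (orderOf (⟨β, hβF⟩ : F.autGroup ((commSub a).map P.subtype))).Coprime p
      rw [← Subgroup.orderOf_coe]
      exact hordβ
    have hβE : β ∈ E.autGroup ((commSub a).map P.subtype) :=
      hres _ hNT ⟨⟨β, hβF⟩, hβres, rfl⟩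
    have hβresE : (⟨β, hβE⟩ : E.autGroup ((commSub a).map P.subtype)) ∈
        pResidual p (E.autGroup ((commSub a).map P.subtype)) := by
      apply Subgroup.subset_closure
      show (orderOf (⟨β, hβE⟩ : E.autGroup ((commSub a).map P.subtype))).Coprime p
      rw [← Subgroup.orderOf_coe]
      exact hordβ
    have h2 : (commSub₂ a).map P.subtype ≤ E.hyperfocalSubgroup p := by
      rw [Subgroup.map_le_iff_le_comap]
      unfold commSub₂
      rw [Subgroup.closure_le]
      rintro _ ⟨y, hy, rfl⟩
      show P.subtype (y⁻¹ * a y) ∈ E.hyperfocalSubgroup p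
      apply Subgroup.subset_closure
      refine ⟨_, ⟨β, hβE⟩, ⟨(y : Ω), ⟨y, hy, rfl⟩⟩, hNT, hβresE, ?_⟩
      show ((y : Ω))⁻¹ * ((a y : P) : Ω) = (y : Ω)⁻¹ * ((β ⟨(y : Ω), ⟨y, hy, rfl⟩⟩ : _) : Ω)
      rw [hβ]
      rfl
    have hx : x⁻¹ * a x ∈ commSub₂ a := by
      apply commutator_mem_commSub₂ a (pow_orderOf_eq_one a) x
      have hPp : IsPGroup p P := hS.to_le hPS
      obtain ⟨j, hj⟩ := hPp (x⁻¹ * a x)
      exact Nat.Coprime.coprime_dvd_right (orderOf_dvd_of_pow_eq_one hj)
        (Nat.Coprime.pow_right j hα')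
    exact h2 ⟨_, hx, rfl⟩
  unfold hyperfocalSubgroup
  refine (Subgroup.closure_le _).mpr ?_
  rintro _ ⟨P, α, x, hP, hα, rfl⟩
  have gen : ∀ α : F.autGroup P, α ∈ pResidual p (F.autGroup P) → ∀ x : P,
      ((x : Ω)⁻¹ * ((α : MulAut P) x : P)) ∈ E.hyperfocalSubgroup p := by
    intro α hα
    unfold pResidual at hα
    induction hα using Subgroup.closure_induction with
    | mem α hα => exact key P hP α hα
    | one =>
      intro x
      have h : ((x : Ω)⁻¹ * ((((1 : F.autGroup P) : MulAut P) x : P) : Ω)) = 1 := by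
        show (x : Ω)⁻¹ * (x : Ω) = 1
        group
      rw [h]
      exact Subgroup.one_mem _
    | mul α β _ _ ha hb =>
      intro x
      have h : ((x : Ω)⁻¹ * ((((α * β : F.autGroup P) : MulAut P) x : P) : Ω)) =
          ((x : Ω)⁻¹ * (((β : MulAut P) x : P) : Ω)) *
            ((((β : MulAut P) x : P) : Ω)⁻¹ * (((α : MulAut P) ((β : MulAut P) x) : P) : Ω)) := by
        rw [Subgroup.coe_mul, MulAut.mul_apply]
        group
      rw [h]
      exact Subgroup.mul_mem _ (hb x) (ha _)
    | inv α _ ha =>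
      intro x
      have h := ha (((α : MulAut P)⁻¹) x)
      rw [MulAut.apply_inv_self] at h
      have h' : ((x : Ω)⁻¹ * ((((α⁻¹ : F.autGroup P) : MulAut P) x : P) : Ω)) =
          ((((α : MulAut P)⁻¹ x : P) : Ω)⁻¹ * (x : Ω))⁻¹ := by
        rw [Subgroup.coe_inv]
        group
      rw [h']
      exact Subgroup.inv_mem _ h
  exact gen α hα x

theorem hyperfocal_eq_of_pPowerIndex [Finite S] {p : ℕ} [Fact p.Prime] (hS : IsPGroup p S)
    {T : Subgroup Ω} {E : FusionSystem T} {F : FusionSystem S} (hidx : E.HasPPowerIndexIn F p) :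
    E.hyperfocalSubgroup p = F.hyperfocalSubgroup p :=
  le_antisymm (hyperfocal_le_of_subsystem hidx.1 p) (hyperfocal_le_of_pPowerIndex hS hidx)

/-! ### Subsystems of `p`-power index -/

/-- A saturated subsystem `D₁` of `F` over `H₁` lies in every subsystem `D₂` of `p`-power index in
`F` over a subgroup `H₂ ≥ H₁`. -/
theorem subsystem_of_pPowerIndex [Finite S] {p : ℕ} [Fact p.Prime] (hS : IsPGroup p S)
    {F : FusionSystem S} {H₁ H₂ : Subgroup Ω} (hH : H₁ ≤ H₂) {D₁ : FusionSystem H₁}
    {D₂ : FusionSystem H₂} (h₁ : D₁.IsSaturated p) (h₁' : D₁.IsSubsystemOf F)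
    (h₂ : D₂.HasPPowerIndexIn F p) : D₁.IsSubsystemOf D₂ := by
  have hH₁S : H₁ ≤ S := le_of_subsystem h₁'
  have hfin : Finite H₁ := finite_of_le hH₁S
  refine subsystem_of_pResidual_le (hS.to_le hH₁S) hH D₁ h₁ D₂ ?_
  intro R hR
  exact (pResidual_autGroup_le_of_subsystem h₁' p R).trans (h₂.2.2 R (hR.trans hH))

/-- If `E` has `p`-power index in `F` and `D` is a saturated subsystem of `p`-power index in `F`
over a subgroup of the base of `E`, then `D` has `p`-power index in `E`. -/
theorem pPowerIndex_of_pPowerIndex [Finite S] {p : ℕ} [Fact p.Prime] (hS : IsPGroup p S)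
    {F : FusionSystem S} {T H : Subgroup Ω} (hHT : H ≤ T) {E : FusionSystem T}
    {D : FusionSystem H} (hE : E.HasPPowerIndexIn F p) (hD : D.IsSaturated p)
    (hD' : D.HasPPowerIndexIn F p) : D.HasPPowerIndexIn E p := by
  refine ⟨subsystem_of_pPowerIndex hS hHT hD hD'.1 hE, ?_, ?_⟩
  · exact (hyperfocal_le_of_subsystem hE.1 p).trans hD'.2.1
  · intro P hP
    exact (pResidual_autGroup_le_of_subsystem hE.1 p P).trans (hD'.2.2 P hP)

/-- A saturated system whose hyperfocal subgroup is everything has no proper saturated subsystem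
of `p`-power index. -/
theorem hom_eq_of_pPowerIndex_of_hyperfocal_eq [Finite S] {p : ℕ} [Fact p.Prime]
    (hS : IsPGroup p S) {X : FusionSystem S} (hX : X.IsSaturated p)
    (hhyp : X.hyperfocalSubgroup p = S) {H : Subgroup Ω} {D : FusionSystem H}
    (hD : D.HasPPowerIndexIn X p) : ∀ P, D.Hom P = X.Hom P := by
  have hSH : S ≤ H := hhyp ▸ hD.2.1
  have h1 : X.IsSubsystemOf D := subsystem_of_pPowerIndex hS hSH hX (fun P => le_rfl) hD
  exact fun P => Set.Subset.antisymm (hD.1 P) (h1 P)

/-- Uniqueness of the `p`-residual subsystem. -/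
theorem pResidual_unique [Finite S] {p : ℕ} [Fact p.Prime] (hS : IsPGroup p S)
    {F : FusionSystem S} {D₁ D₂ : FusionSystem (F.hyperfocalSubgroup p)}
    (h₁ : F.IsPResidual p D₁) (h₂ : F.IsPResidual p D₂) : D₁ = D₂ := by
  apply fusionSystem_ext
  intro P
  exact Set.Subset.antisymm (subsystem_of_pPowerIndex hS le_rfl h₁.1 h₁.2.1 h₂.2 P)
    (subsystem_of_pPowerIndex hS le_rfl h₂.1 h₂.2.1 h₁.2 P)

/-- Uniqueness of the `p'`-residual subsystem. -/
theorem pPrimeResidual_unique {F : FusionSystem S} {p : ℕ} {D₁ D₂ : FusionSystem S}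
    (h₁ : F.IsPPrimeResidual p D₁) (h₂ : F.IsPPrimeResidual p D₂) : D₁ = D₂ := by
  apply fusionSystem_ext
  intro P
  exact Set.Subset.antisymm (h₁.2.2 D₂ h₂.1 h₂.2.1 P) (h₂.2.2 D₁ h₁.1 h₁.2.1 P)

/-! ### Residual limits -/

theorem residualLimit_step' {T S H : Subgroup Ω} {L : FusionSystem T} (F : FusionSystem S) (p : ℕ)
    (hH : F.hyperfocalSubgroup p = H) (D D' : FusionSystem H)
    (hD : D.IsSaturated p ∧ D.HasPPowerIndexIn F p) (hD' : D.IsPPrimeResidual p D')
    (h : IsResidualLimitOf L D' p) : IsResidualLimitOf L F p := by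
  subst hH
  exact IsResidualLimitOf.step F p D D' hD hD' h

/-- A residual limit of a system with the same maps as a stable system `X` has the maps of `X`. -/
theorem residualLimit_of_stable {T S' : Subgroup Ω} {L : FusionSystem T} {Y : FusionSystem S'}
    {p : ℕ} (h : IsResidualLimitOf L Y p) :
    ∀ (S₀ : Subgroup Ω), Finite S₀ → Fact p.Prime → IsPGroup p S₀ →
      ∀ {S : Subgroup Ω} (X : FusionSystem S), S ≤ S₀ → X.hyperfocalSubgroup p = S →
        X.IsPPrimeResidual p X → (∀ P, Y.Hom P = X.Hom P) → ∀ P, L.Hom P = X.Hom P := by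
  induction h with
  | stable Y p _ _ =>
    intro S₀ _ _ _ S X _ _ _ hYX
    exact hYX
  | step Y p D D' hD hD' hlim ih =>
    intro S₀ hfin hp hS₀ S X hS hhyp hres hYX
    apply ih S₀ hfin hp hS₀ X hS hhyp hres
    have hfinS : Finite S := finite_of_le hS
    have hpS : IsPGroup p S := hS₀.to_le hS
    have main := transport X Y (fun P => (hYX P).symm)
      (fun S Z => ∀ D : FusionSystem (Z.hyperfocalSubgroup p), Z.IsPResidual p D →
        ∀ D' : FusionSystem (Z.hyperfocalSubgroup p), D.IsPPrimeResidual p D' →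
          ∀ P, D'.Hom P = X.Hom P) ?_
    · exact main D hD D' hD'
    intro D hD D' hD'
    have hDX : ∀ P, D.Hom P = X.Hom P :=
      hom_eq_of_pPowerIndex_of_hyperfocal_eq hpS hres.1 hhyp hD.2
    have main2 := transport X D (fun P => (hDX P).symm)
      (fun S Z => ∀ D' : FusionSystem S, Z.IsPPrimeResidual p D' → ∀ P, D'.Hom P = X.Hom P) ?_
    · exact main2 D' hD'
    intro D' hD'
    rw [pPrimeResidual_unique hD' hres]
    exact fun P => rfl

/-- The residual limit of a system over a finite `p`-group is unique. -/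
theorem residualLimit_unique {T₁ S : Subgroup Ω} {L₁ : FusionSystem T₁} {X : FusionSystem S}
    {p : ℕ} (h₁ : IsResidualLimitOf L₁ X p) :
    ∀ (S₀ : Subgroup Ω), Finite S₀ → Fact p.Prime → IsPGroup p S₀ → S ≤ S₀ →
      ∀ {T₂ : Subgroup Ω} (L₂ : FusionSystem T₂), IsResidualLimitOf L₂ X p →
        ∀ P, L₁.Hom P = L₂.Hom P := by
  induction h₁ with
  | stable X p hhyp hres =>
    intro S₀ hfin hp hS₀ hS T₂ L₂ h₂ P
    exact (residualLimit_of_stable h₂ S₀ hfin hp hS₀ X hS hhyp hres (fun P => rfl) P).symm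
  | step X p D D' hD hD' hlim ih =>
    intro S₀ hfin hp hS₀ hS T₂ L₂ h₂
    have hfinS : Finite _ := finite_of_le hS
    have hpS := hS₀.to_le hS
    cases h₂ with
    | stable _ _ hhyp hres =>
      exact residualLimit_of_stable (IsResidualLimitOf.step X p D D' hD hD' hlim) S₀ hfin hp hS₀
        X hS hhyp hres (fun P => rfl)
    | step _ _ D₂ D₂' hD₂ hD₂' hlim₂ =>
      have e1 : D = D₂ := pResidual_unique hpS hD hD₂
      subst e1
      have e2 : D' = D₂' := pPrimeResidual_unique hD' hD₂'
      subst e2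
      exact ih S₀ hfin hp hS₀ ((hyperfocal_le X p).trans hS) L₂ hlim₂

/-- Residual limits of a saturated system and of a saturated subsystem of `p`-power index agree. -/
theorem residualLimit_eq_of_pPowerIndex [Finite S] {p : ℕ} [Fact p.Prime] (hS : IsPGroup p S)
    {F : FusionSystem S} (hF : F.IsSaturated p) {T : Subgroup Ω} {E : FusionSystem T}
    (hidx : E.HasPPowerIndexIn F p) {U V : Subgroup Ω}
    {Finf : FusionSystem U} (hFinf : Finf.IsResidualLimitOf F p) {Einf : FusionSystem V}
    (hEinf : Einf.IsResidualLimitOf E p) : ∀ P : Subgroup Ω, Finf.Hom P = Einf.Hom P := by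
  have hTS : T ≤ S := le_of_subsystem hidx.1
  cases hFinf with
  | stable _ _ hhyp hres =>
    intro P
    have hEF : ∀ P, E.Hom P = F.Hom P := hom_eq_of_pPowerIndex_of_hyperfocal_eq hS hF hhyp hidx
    exact (residualLimit_of_stable hEinf S ‹_› ‹_› hS F le_rfl hhyp hres hEF P).symm
  | step _ _ D D' hD hD' hlim =>
    have hH : E.hyperfocalSubgroup p = F.hyperfocalSubgroup p := hyperfocal_eq_of_pPowerIndex hS hidx
    have h1 : IsResidualLimitOf Finf E p :=
      residualLimit_step' E p hH D D' ⟨hD.1, pPowerIndex_of_pPowerIndex hS hidx.2.1 hidx hD.1 hD.2⟩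
        hD' hlim
    exact residualLimit_unique h1 S ‹_› ‹_› hS hTS Einf hEinf

end Cfsg.Agent.Lib.helper88
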