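import Cfsg.Agent.Lib.helper88.Residual
import Cfsg.Agent.Lib.helper89.FusionQuotient

set_option autoImplicit false

/-!
The hyperfocal subgroup acts on a strongly closed subgroup `T` through `O^p(Aut_F(T)) Inn(T)`.
-/

namespace Cfsg.Agent.Lib.helper88

open Cfsg Cfsg.FusionSystem

universe u

variable {Ω : Type u} [Group Ω] {S : Subgroup Ω}

theorem conjAut_inv_apply (P : Subgroup Ω) (g : Ω) (hg : g ∈ Subgroup.normalizer (P : Set Ω))
    (x : P) : (((conjAut P g hg)⁻¹ x : P) : Ω) = g⁻¹ * x * g := rfl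

/-- To show `hyp(F) ≤ K` it suffices to treat the automorphisms of order prime to `p`. -/
theorem hyperfocal_le_of_forall (F : FusionSystem S) (p : ℕ) (K : Subgroup Ω)
    (key : ∀ (P : Subgroup Ω), P ≤ S → ∀ α : F.autGroup P, (orderOf α).Coprime p → ∀ x : P,
      ((x : Ω)⁻¹ * ((α : MulAut P) x : P)) ∈ K) : F.hyperfocalSubgroup p ≤ K := by
  unfold hyperfocalSubgroup
  refine (Subgroup.closure_le _).mpr ?_
  rintro _ ⟨P, α, x, hP, hα, rfl⟩
  have gen : ∀ α : F.autGroup P, α ∈ pResidual p (F.autGroup P) → ∀ x : P,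
      ((x : Ω)⁻¹ * ((α : MulAut P) x : P)) ∈ K := by
    intro α hα
    unfold pResidual at hα
    induction hα using Subgroup.closure_induction with
    | mem α hα => exact key P hP α hα
    | one =>
      intro x
      have h : ((x : Ω)⁻¹ * ((((1 : F.autGroup P) : MulAut P) x : P) : Ω)) = 1 := by
        show (x : Ω)⁻¹ * (x : Ω) = 1
        group
      rw [h]
      exact Subgroup.one_mem _
    | mul α β _ _ ha hb =>
      intro x
      have h : ((x : Ω)⁻¹ * ((((α * β : F.autGroup P) : MulAut P) x : P) : Ω)) =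
          ((x : Ω)⁻¹ * (((β : MulAut P) x : P) : Ω)) *
            ((((β : MulAut P) x : P) : Ω)⁻¹ * (((α : MulAut P) ((β : MulAut P) x) : P) : Ω)) := by
        rw [Subgroup.coe_mul, MulAut.mul_apply]
        group
      rw [h]
      exact Subgroup.mul_mem _ (hb x) (ha _)
    | inv α _ ha =>
      intro x
      have h := ha (((α : MulAut P)⁻¹) x)
      rw [MulAut.apply_inv_self] at h
      have h' : ((x : Ω)⁻¹ * ((((α⁻¹ : F.autGroup P) : MulAut P) x : P) : Ω)) =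
          ((((α : MulAut P)⁻¹ x : P) : Ω)⁻¹ * (x : Ω))⁻¹ := by
        rw [Subgroup.coe_inv]
        group
      rw [h']
      exact Subgroup.inv_mem _ h
  exact gen α hα x

/-- Abstract core: `Γ/N` a `p`-group, `α` an automorphism of `P` of order prime to `p`,
`c : P → Γ` a map and `β ∈ Γ` with `β c(x) β⁻¹ ≡ c(α x)` modulo `N`. Then `c(x) ≡ c(α x)`
modulo `N`. -/
theorem coprime_twist_mem {Γ : Type*} [Group Γ] (N : Subgroup Γ) [N.Normal] {p : ℕ}
    (hN : ∀ g : Γ, ∃ k : ℕ, g ^ p ^ k ∈ N) {P : Type*} [Group P] (α : MulAut P) {m : ℕ}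
    (hm : α ^ m = 1) (hmp : m.Coprime p) (c : P → Γ) (β : Γ)
    (h : ∀ x : P, β * c x * β⁻¹ * (c (α x))⁻¹ ∈ N) (x : P) : (c x)⁻¹ * c (α x) ∈ N := by
  have h1 : ∀ x : P, (β : Γ ⧸ N) * (c x : Γ ⧸ N) * (β : Γ ⧸ N)⁻¹ = (c (α x) : Γ ⧸ N) := by
    intro x
    have h0 := (QuotientGroup.eq_one_iff _).mpr (h x)
    simp only [QuotientGroup.mk_mul, QuotientGroup.mk_inv] at h0
    exact mul_inv_eq_one.mp h0
  have h2 : ∀ (k : ℕ) (x : P), (β : Γ ⧸ N) ^ k * (c x : Γ ⧸ N) * ((β : Γ ⧸ N) ^ k)⁻¹ =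
      (c ((α ^ k) x) : Γ ⧸ N) := by
    intro k
    induction k with
    | zero => intro x; simp
    | succ k ih =>
      intro x
      have e1 : (β : Γ ⧸ N) ^ (k + 1) * (c x : Γ ⧸ N) * ((β : Γ ⧸ N) ^ (k + 1))⁻¹ =
          (β : Γ ⧸ N) * ((β : Γ ⧸ N) ^ k * (c x : Γ ⧸ N) * ((β : Γ ⧸ N) ^ k)⁻¹) *
            (β : Γ ⧸ N)⁻¹ := by
        rw [pow_succ']
        group
      rw [e1, ih, h1, pow_succ', MulAut.mul_apply]
  have h3 : Commute ((β : Γ ⧸ N) ^ m) (c x : Γ ⧸ N) := by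
    have h0 := h2 m x
    rw [hm] at h0
    simp only [MulAut.one_apply] at h0
    exact mul_inv_eq_iff_eq_mul.mp h0
  obtain ⟨k, hk⟩ := hN β
  have hord : orderOf (β : Γ ⧸ N) ∣ p ^ k := by
    apply orderOf_dvd_of_pow_eq_one
    rw [← QuotientGroup.mk_pow]
    exact (QuotientGroup.eq_one_iff _).mpr hk
  have hcop : m.Coprime (orderOf (β : Γ ⧸ N)) :=
    Nat.Coprime.coprime_dvd_right hord (Nat.Coprime.pow_right k hmp)
  obtain ⟨j, hj⟩ := exists_pow_eq_self_of_coprime hcop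
  have h4 : Commute (β : Γ ⧸ N) (c x : Γ ⧸ N) := by
    rw [← hj]
    exact h3.pow_left j
  have h5 : (c (α x) : Γ ⧸ N) = (c x : Γ ⧸ N) := by
    rw [← h1, h4.eq]
    group
  rw [← QuotientGroup.eq_one_iff, QuotientGroup.mk_mul, QuotientGroup.mk_inv, h5]
  group

/-- For `F` saturated over the finite `p`-group `S` and `T` strongly closed in `F`: every element
of the hyperfocal subgroup acts on `T` by conjugation as an element of `O^p(Aut_F(T)) Inn(T)`. -/
theorem conj_hyperfocal_mem [Finite S] {p : ℕ} [Fact p.Prime] (hS : IsPGroup p S)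
    (F : FusionSystem S) (hF : F.IsSaturated p) (T : Subgroup Ω) (hT : F.StronglyClosed T) :
    ∀ x ∈ F.hyperfocalSubgroup p,
      ∃ α ∈ ((pResidual p ↥(F.autGroup T)).map (F.autGroup T).subtype ⊔ Inn ↥T :
        Subgroup (MulAut ↥T)), ∀ t : ↥T, ((α t : ↥T) : Ω) = x * (t : Ω) * x⁻¹ := by
  classical
  have hTS : T ≤ S := hT.1
  have hfinT : Finite T := finite_of_le hTS
  have hTn : ∀ g ∈ S, g ∈ Subgroup.normalizer (T : Set Ω) := fun g hg =>
    mem_normalizer_of_conj_mem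
      (fun t ht => Cfsg.Agent.Lib.helper89.conj_mem_of_stronglyClosed F hT hg ht)
  have := Cfsg.Agent.Lib.helper40.pResidual_normal p (F.autGroup T)
  have hInnΓ : Inn T ≤ F.autGroup T := by
    rintro _ ⟨s, rfl⟩
    apply autInducedBy_le_autGroup F hTS
    rw [mem_autInducedBy_iff]
    exact ⟨(s : Ω), hTS s.2, fun x => rfl⟩
  have hNA : ∀ n : F.autGroup T,
      n ∈ pResidual p (F.autGroup T) ⊔ (Inn T).subgroupOf (F.autGroup T) →
      (n : MulAut T) ∈ ((pResidual p ↥(F.autGroup T)).map (F.autGroup T).subtype ⊔ Inn ↥T :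
        Subgroup (MulAut ↥T)) := by
    intro n hn
    have h0 : (pResidual p (F.autGroup T) ⊔ (Inn T).subgroupOf (F.autGroup T)).map
        (F.autGroup T).subtype =
        ((pResidual p ↥(F.autGroup T)).map (F.autGroup T).subtype ⊔ Inn ↥T :
          Subgroup (MulAut ↥T)) := by
      rw [Subgroup.map_sup, Subgroup.subgroupOf_map_subtype, inf_eq_left.mpr hInnΓ]
    rw [← h0]
    exact ⟨n, hn, rfl⟩
  have hNp : ∀ g : F.autGroup T, ∃ k : ℕ,
      g ^ p ^ k ∈ pResidual p (F.autGroup T) ⊔ (Inn T).subgroupOf (F.autGroup T) := by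
    intro g
    obtain ⟨k, hk⟩ := Cfsg.Agent.Lib.helper40.exists_pow_mem_pResidual (p := p) g
    exact ⟨k, Subgroup.mem_sup_left hk⟩
  -- the subgroup of elements of `S` acting on `T` through `A`
  let K : Subgroup Ω :=
    { carrier := {y | y ∈ S ∧ ∃ a ∈ ((pResidual p ↥(F.autGroup T)).map (F.autGroup T).subtype ⊔
        Inn ↥T : Subgroup (MulAut ↥T)), ∀ t : T, ((a t : T) : Ω) = y * t * y⁻¹}
      one_mem' := ⟨S.one_mem, 1, Subgroup.one_mem _, fun t => by simp⟩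
      mul_mem' := by
        rintro y z ⟨hy, a, ha, hay⟩ ⟨hz, b, hb, hbz⟩
        refine ⟨S.mul_mem hy hz, a * b, Subgroup.mul_mem _ ha hb, fun t => ?_⟩
        rw [MulAut.mul_apply, hay, hbz]
        group
      inv_mem' := by
        rintro y ⟨hy, a, ha, hay⟩
        refine ⟨S.inv_mem hy, a⁻¹, Subgroup.inv_mem _ ha, fun t => ?_⟩
        have h1 := hay (a⁻¹ t)
        rw [MulAut.apply_inv_self] at h1
        rw [h1]
        group }
  have hK : F.hyperfocalSubgroup p ≤ K := by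
    apply hyperfocal_le_of_forall
    intro P hPS α hα x
    have hα' : (orderOf (α : MulAut P)).Coprime p := by rwa [Subgroup.orderOf_coe]
    generalize hadef : (α : MulAut P) = a₀ at hα'
    have haF : a₀ ∈ F.autGroup P := hadef ▸ α.2
    have hφ : P.subtype.comp a₀.toMonoidHom ∈ F.Hom P := (mem_autGroup_iff' F hPS a₀).mp haF
    obtain ⟨M, ψ, hψ, hPM, hTM, hquot⟩ :=
      Cfsg.Agent.Lib.helper89.quotExt_of_saturated F hS hF T hT P _ hφ
    have hMS : M ≤ S := (F.le_of_mem hψ).1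
    -- `ψ` restricted to `T`
    have hψT : ∀ t : T, (ψ.comp (Subgroup.inclusion hTM)) t ∈ T := fun t =>
      hT.2 T le_rfl _ (restrict_mem F hTM hψ) t
    have hinj : Function.Injective (MonoidHom.codRestrict (ψ.comp (Subgroup.inclusion hTM)) T hψT) := by
      intro t t' htt
      have h0 := congrArg Subtype.val htt
      exact Subgroup.inclusion_injective hTM (F.injective_of_mem hψ h0)
    obtain ⟨β₀, hβ₀⟩ : ∃ β₀ : MulAut T, ∀ t : T, ((β₀ t : T) : Ω) = ψ (Subgroup.inclusion hTM t) :=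
      ⟨MulEquiv.ofBijective _ ⟨hinj, Finite.injective_iff_surjective.mp hinj⟩, fun t => rfl⟩
    have hβ₀F : β₀ ∈ F.autGroup T := by
      rw [mem_autGroup_iff' F hTS]
      have h3 : T.subtype.comp β₀.toMonoidHom = ψ.comp (Subgroup.inclusion hTM) := by
        ext t
        exact hβ₀ t
      rw [h3]
      exact restrict_mem F hTM hψ
    -- conjugation automorphisms
    have hcF : ∀ y : P, conjAut T (y : Ω) (hTn _ (hPS y.2)) ∈ F.autGroup T := fun y =>
      autInducedBy_le_autGroup F hTS (conjAut_mem S T _ _ (hPS y.2))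
    have hsT : ∀ y : P, ((a₀ y : P) : Ω) * (ψ (Subgroup.inclusion hPM y))⁻¹ ∈ T := fun y =>
      hquot (y : Ω) y.2 (hPM y.2)
    have hkey : ∀ y : P,
        (⟨β₀, hβ₀F⟩ : F.autGroup T) * ⟨conjAut T (y : Ω) (hTn _ (hPS y.2)), hcF y⟩ *
          (⟨β₀, hβ₀F⟩ : F.autGroup T)⁻¹ *
          (⟨conjAut T ((a₀ y : P) : Ω) (hTn _ (hPS (a₀ y).2)), hcF (a₀ y)⟩ : F.autGroup T)⁻¹ ∈
        pResidual p (F.autGroup T) ⊔ (Inn T).subgroupOf (F.autGroup T) := by
      intro y
      apply Subgroup.mem_sup_right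
      rw [Subgroup.mem_subgroupOf]
      refine ⟨(⟨((a₀ y : P) : Ω) * (ψ (Subgroup.inclusion hPM y))⁻¹, hsT y⟩ : T)⁻¹, ?_⟩
      have e : β₀ * conjAut T (y : Ω) (hTn _ (hPS y.2)) =
          MulAut.conj ((⟨((a₀ y : P) : Ω) * (ψ (Subgroup.inclusion hPM y))⁻¹, hsT y⟩ : T)⁻¹) *
            conjAut T ((a₀ y : P) : Ω) (hTn _ (hPS (a₀ y).2)) * β₀ := by
        apply MulEquiv.ext
        intro t
        apply Subtype.ext
        simp only [MulAut.mul_apply]
        rw [hβ₀]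
        have h1 : Subgroup.inclusion hTM (conjAut T (y : Ω) (hTn _ (hPS y.2)) t) =
            Subgroup.inclusion hPM y * Subgroup.inclusion hTM t * (Subgroup.inclusion hPM y)⁻¹ :=
          Subtype.ext rfl
        rw [h1, map_mul, map_mul, map_inv]
        show _ = ((((a₀ y : P) : Ω) * (ψ (Subgroup.inclusion hPM y))⁻¹)⁻¹) *
          (((a₀ y : P) : Ω) * ((β₀ t : T) : Ω) * ((a₀ y : P) : Ω)⁻¹) *
          ((((a₀ y : P) : Ω) * (ψ (Subgroup.inclusion hPM y))⁻¹)⁻¹)⁻¹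
        rw [hβ₀]
        group
      show MulAut.conj ((⟨((a₀ y : P) : Ω) * (ψ (Subgroup.inclusion hPM y))⁻¹, hsT y⟩ : T)⁻¹) =
        β₀ * conjAut T (y : Ω) (hTn _ (hPS y.2)) * β₀⁻¹ *
          (conjAut T ((a₀ y : P) : Ω) (hTn _ (hPS (a₀ y).2)))⁻¹
      rw [e]
      group
    have hres := coprime_twist_mem (pResidual p (F.autGroup T) ⊔ (Inn T).subgroupOf (F.autGroup T))
      hNp a₀ (pow_orderOf_eq_one a₀) hα'
      (fun y : P => (⟨conjAut T (y : Ω) (hTn _ (hPS y.2)), hcF y⟩ : F.autGroup T))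
      ⟨β₀, hβ₀F⟩ hkey x
    refine ⟨S.mul_mem (S.inv_mem (hPS x.2)) (hPS (a₀ x).2), _, hNA _ hres, fun t => ?_⟩
    show (((conjAut T (x : Ω) (hTn _ (hPS x.2)))⁻¹
      (conjAut T ((a₀ x : P) : Ω) (hTn _ (hPS (a₀ x).2)) t) : T) : Ω) = _
    rw [conjAut_inv_apply, conjAut_apply]
    group
  intro x hx
  exact (hK hx).2

end Cfsg.Agent.Lib.helper88
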