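import Mathlib
import Cfsg.Agent.Lib.helper88.GT1
import Cfsg.Agent.Lib.helper88.GT3

/-!
# Thompson's normal `p`-complement theorem for fusion systems, part 1 (helper88)

* `J(T)` (abelian version, `Cfsg.thompsonSubgroupAOf`) and `Z(T) = T ⊓ C(T)`: normalized by the
  normalizer of `T`, nontrivial for a nontrivial finite `p`-group.
* `CentNonInner p F U`: some automorphism of the centralizer system of `U` is not a `p`-element.
-/

set_option autoImplicit false

namespace Cfsg.Agent.Lib.helper88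

open Cfsg Cfsg.FusionSystem

section JZ

theorem thompsonSubgroupAOf_le {A : Type*} [Group A] (T : Subgroup A) :
    Cfsg.thompsonSubgroupAOf T ≤ T := by
  unfold Cfsg.thompsonSubgroupAOf
  exact Subgroup.map_subtype_le _

/-- The normalizer of `T` normalizes `J(T)`. -/
theorem normalizer_le_normalizer_thompsonSubgroupAOf {A : Type*} [Group A] (T : Subgroup A) :
    Subgroup.normalizer (T : Set A) ≤ Subgroup.normalizer (Cfsg.thompsonSubgroupAOf T : Set A) := by
  intro g hg
  have hT : T.map (MulAut.conj g).toMonoidHom = T := by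
    ext x
    constructor
    · rintro ⟨t, ht, rfl⟩
      exact (Subgroup.mem_normalizer_iff.mp hg t).mp ht
    · intro hx
      refine ⟨g⁻¹ * x * g, ?_, ?_⟩
      · have h1 := (Subgroup.mem_normalizer_iff.mp hg (g⁻¹ * x * g))
        rw [SetLike.mem_coe, h1]
        have h2 : g * (g⁻¹ * x * g) * g⁻¹ = x := by group
        rw [h2]
        exact hx
      · show g * (g⁻¹ * x * g) * g⁻¹ = x
        group
  have hW := thompsonSubgroupAOf_map (f := (MulAut.conj g).toMonoidHom) (MulAut.conj g).injective T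
  rw [hT] at hW
  rw [Subgroup.mem_normalizer_iff]
  intro h
  constructor
  · intro hh
    rw [hW]
    exact ⟨h, hh, rfl⟩
  · intro hh
    rw [hW] at hh
    obtain ⟨w, hw, hwh⟩ := hh
    have h1 : g * w * g⁻¹ = g * h * g⁻¹ := hwh
    have h2 : w = h := mul_left_cancel (mul_right_cancel h1)
    rw [← h2]
    exact hw

theorem thompsonSubgroupAOf_eq_map_top {A : Type*} [Group A] (T : Subgroup A) :
    Cfsg.thompsonSubgroupAOf T = (Cfsg.thompsonSubgroupAOf (⊤ : Subgroup T)).map T.subtype := by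
  rw [← thompsonSubgroupAOf_map T.subtype_injective]
  congr 1
  rw [← MonoidHom.range_eq_map, Subgroup.range_subtype]

theorem thompsonSubgroupAOf_ne_bot {A : Type*} [Group A] {p : ℕ} [Fact p.Prime] (T : Subgroup A)
    [Finite T] (hT : IsPGroup p T) (hne : T ≠ ⊥) : Cfsg.thompsonSubgroupAOf T ≠ ⊥ := by
  have h1 := centerThompsonAOf_ne_bot T hT hne
  intro h2
  apply h1
  unfold Cfsg.centerThompsonAOf
  rw [h2]
  exact bot_inf_eq _

/-- The centre of a subgroup, as a subgroup of the ambient group. -/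
def centerOf {A : Type*} [Group A] (T : Subgroup A) : Subgroup A :=
  T ⊓ Subgroup.centralizer (T : Set A)

theorem centerOf_le {A : Type*} [Group A] (T : Subgroup A) : centerOf T ≤ T := inf_le_left

theorem conj_mem_centerOf {A : Type*} [Group A] (T : Subgroup A) {g : A}
    (hg : g ∈ Subgroup.normalizer (T : Set A)) {z : A} (hz : z ∈ centerOf T) :
    g * z * g⁻¹ ∈ centerOf T := by
  obtain ⟨hzT, hzC⟩ := Subgroup.mem_inf.mp hz
  rw [Subgroup.mem_centralizer_iff] at hzC
  refine Subgroup.mem_inf.mpr ⟨(Subgroup.mem_normalizer_iff.mp hg z).mp hzT, ?_⟩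
  rw [Subgroup.mem_centralizer_iff]
  intro t ht
  have h1 : g⁻¹ * t * g ∈ T := by
    have h2 := Subgroup.mem_normalizer_iff.mp hg (g⁻¹ * t * g)
    rw [h2]
    have h3 : g * (g⁻¹ * t * g) * g⁻¹ = t := by group
    rw [h3]
    exact ht
  have h4 := hzC _ h1
  calc t * (g * z * g⁻¹) = g * ((g⁻¹ * t * g) * z) * g⁻¹ := by group
    _ = g * (z * (g⁻¹ * t * g)) * g⁻¹ := by rw [h4]
    _ = g * z * g⁻¹ * t := by group

/-- The normalizer of `T` normalizes `Z(T)`. -/
theorem normalizer_le_normalizer_centerOf {A : Type*} [Group A] (T : Subgroup A) :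
    Subgroup.normalizer (T : Set A) ≤ Subgroup.normalizer (centerOf T : Set A) := by
  intro g hg
  rw [Subgroup.mem_normalizer_iff]
  intro h
  constructor
  · intro hh
    exact conj_mem_centerOf T hg hh
  · intro hh
    have hg' : g⁻¹ ∈ Subgroup.normalizer (T : Set A) := Subgroup.inv_mem _ hg
    have h1 := conj_mem_centerOf T hg' hh
    have h2 : g⁻¹ * (g * h * g⁻¹) * g⁻¹⁻¹ = h := by group
    rw [h2] at h1
    exact h1

theorem centerOf_ne_bot {A : Type*} [Group A] {p : ℕ} [Fact p.Prime] (T : Subgroup A)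
    [Finite T] (hT : IsPGroup p T) (hne : T ≠ ⊥) : centerOf T ≠ ⊥ := by
  haveI hnt : Nontrivial ↥T := (Subgroup.nontrivial_iff_ne_bot T).mpr hne
  haveI := hT.center_nontrivial
  obtain ⟨⟨z, hz⟩, hz1⟩ := exists_ne (1 : Subgroup.center T)
  rw [Subgroup.mem_center_iff] at hz
  intro h
  apply hz1
  apply Subtype.ext
  apply Subtype.ext
  have h1 : (z : A) ∈ centerOf T := by
    refine Subgroup.mem_inf.mpr ⟨z.2, ?_⟩
    rw [Subgroup.mem_centralizer_iff]
    intro t ht
    exact congrArg Subtype.val (hz ⟨t, ht⟩)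
  rw [h] at h1
  exact Subgroup.mem_bot.mp h1

end JZ

variable {Ω : Type*} [Group Ω] {S : Subgroup Ω}

/-- Some automorphism of the centralizer system `C_F(U)` is not a `p`-element. -/
def CentNonInner (p : ℕ) (F : FusionSystem S) (U : Subgroup Ω) : Prop :=
  ∃ (P : Subgroup Ω) (α : MulAut P), P.subtype.comp α.toMonoidHom ∈ F.centralizerHom U P ∧
    ∀ k : ℕ, α ^ (p ^ k) ≠ 1

theorem centNonInner_iff_of_isCentralizerSystem {p : ℕ} (F : FusionSystem S) (U : Subgroup Ω)
    (E : FusionSystem (centralizerIn S U)) (hE : F.IsCentralizerSystem U E) :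
    NonInner p E ↔ CentNonInner p F U := by
  constructor
  · rintro ⟨P, α, hα, hk⟩
    rw [hE P] at hα
    exact ⟨P, α, hα, hk⟩
  · rintro ⟨P, α, hα, hk⟩
    rw [← hE P] at hα
    exact ⟨P, α, hα, hk⟩

/-- Maps of the centralizer system are maps of the normalizer system. -/
theorem CentNonInner.normNonInner {p : ℕ} {F : FusionSystem S} {U : Subgroup Ω}
    (h : CentNonInner p F U) : NormNonInner p F U := by
  obtain ⟨P, α, hα, hk⟩ := h
  obtain ⟨h1, h2, h3, ψ, hψ, hext, hfix⟩ := hα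
  have hmono : centralizerIn S U ≤ normalizerIn S U :=
    inf_le_inf_left _ (Subgroup.centralizer_le_normalizer _)
  refine ⟨P, α, ⟨h1, h2.trans hmono, fun x => hmono (h3 x), ψ, hψ, hext, ?_⟩, hk⟩
  ext y
  constructor
  · rintro ⟨x, hx, rfl⟩
    have hxU : (x : Ω) ∈ U := Subgroup.mem_subgroupOf.mp hx
    have h4 := hfix ⟨x, hxU⟩
    have h5 : Subgroup.inclusion (le_sup_right : U ≤ P ⊔ U) ⟨x, hxU⟩ = x := rfl
    rw [h5] at h4
    rw [h4]
    exact hxU
  · intro hy
    refine ⟨Subgroup.inclusion (le_sup_right : U ≤ P ⊔ U) ⟨y, hy⟩, ?_, hfix ⟨y, hy⟩⟩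
    exact Subgroup.mem_subgroupOf.mpr hy

theorem CentNonInner.of_le {p : ℕ} {T : Subgroup Ω} {E : FusionSystem T}
    {F : FusionSystem S} (hTS : T ≤ S) (hle : ∀ P : Subgroup Ω, E.Hom P ⊆ F.Hom P) {U : Subgroup Ω}
    (h : CentNonInner p E U) : CentNonInner p F U := by
  obtain ⟨P, α, hα, hk⟩ := h
  refine ⟨P, α, ?_, hk⟩
  obtain ⟨h1, h2, h3, ψ, hψ, h4, h5⟩ := hα
  have hmono : centralizerIn T U ≤ centralizerIn S U := fun x hx => ⟨hTS hx.1, hx.2⟩
  exact ⟨hle P h1, h2.trans hmono, fun x => hmono (h3 x), ψ, hle _ hψ, h4, h5⟩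

end Cfsg.Agent.Lib.helper88
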