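import Mathlib
import Cfsg.Agent.Lib.helper88.TH1
import Cfsg.Agent.Lib.helper88.GT2
import Cfsg.Agent.Lib.helper89.FusionSat
import Cfsg.Agent.S2800

/-!
# Thompson's normal `p`-complement theorem for fusion systems, part 2 (helper88): realized systems

If `F` is realized by a finite group `G` on a Sylow `p`-subgroup, `p` is odd or `S₄` is not involved
in `G`, and some automorphism of `F` is not a `p`-element, then some automorphism of `C_F(Z(S))` or
of `N_F(J(S))` is not a `p`-element (Frobenius' criterion, then Thompson's theorem for groups).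
-/

set_option autoImplicit false

namespace Cfsg.Agent.Lib.helper88

open Cfsg Cfsg.FusionSystem

variable {Ω : Type*} [Group Ω] {S : Subgroup Ω}

/-- If no automorphism of `N_F(W)` is a non-`p`-element and `G` realizes `F` on a Sylow
`p`-subgroup `T`, then `N_G(W')` has a normal `p`-complement, where `W'` is the image of `W`. -/
theorem hasNPC_normalizer_of_not_normNonInner' [Finite S] {p : ℕ} [Fact p.Prime]
    (F : FusionSystem S) {G : Type*} [Group G] [Finite G] {ι : S →* G} (hR : F.IsRealizedBy ι)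
    (T : Sylow p G) (hT : (T : Subgroup G) = ι.range) (W : Subgroup Ω) (W' : Subgroup G)
    (hZW : ∀ x : S, (x : Ω) ∈ W ↔ ι x ∈ W') (hWS : W ≤ S) (hW'T : W' ≤ T)
    (hTH : (T : Subgroup G) ≤ Subgroup.normalizer (W' : Set G))
    (hSN : S ≤ Subgroup.normalizer (W : Set Ω)) (h : ¬ NormNonInner p F W) :
    Cfsg.HasNormalPComplement p ↥(Subgroup.normalizer (W' : Set G)) := by
  have hinj := hR.1
  refine ⟨T.subtype hTH, ?_⟩
  rw [Cfsg.Agent.S0071.result (T.subtype hTH)]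
  intro Q hQ g hg hcop
  set R : Subgroup G := Q.map (Subgroup.normalizer
    (W' : Set G)).subtype with hRdef
  set P : Subgroup Ω := FusionSystem.preimageAlong ι R with hPdef
  have hPS : P ≤ S := Cfsg.Agent.Lib.helper87.preimageAlong_le ι R
  have hmemP : ∀ x : Ω, x ∈ P ↔ ∃ hx : x ∈ S, ι ⟨x, hx⟩ ∈ R :=
    fun x => Cfsg.Agent.Lib.helper87.mem_preimageAlong ι R x
  have hRT : R ≤ ι.range := by
    rintro _ ⟨q, hq, rfl⟩
    have h1 := hQ hq
    rw [Sylow.coe_subtype, Subgroup.mem_subgroupOf] at h1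
    rw [← hT]
    exact h1
  have hgR : ∀ r ∈ R, (g : G) * r * (g : G)⁻¹ ∈ R := by
    rintro _ ⟨q, hq, rfl⟩
    exact ⟨g * q * g⁻¹, (Subgroup.mem_normalizer_iff.mp hg q).mp hq, rfl⟩
  have hgZ : ∀ z ∈ W', (g : G) * z * (g : G)⁻¹ ∈ W' := fun z hz =>
    (Subgroup.mem_normalizer_iff.mp g.2 z).mp hz
  have hZT : W' ≤ ι.range := by
    rw [← hT]
    exact hW'T
  have hPW : P ⊔ W ≤ S := sup_le hPS hWS
  have hconj : ∀ x : ↥(P ⊔ W), (g : G) * ι ⟨x, hPW x.2⟩ * (g : G)⁻¹ ∈ ι.range := by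
    have hM : P ⊔ W ≤ FusionSystem.preimageAlong ι
        (ι.range.comap (MulAut.conj (g : G)).toMonoidHom) := by
      apply sup_le
      · intro x hx
        obtain ⟨hxS, hxR⟩ := (hmemP x).mp hx
        rw [Cfsg.Agent.Lib.helper87.mem_preimageAlong]
        exact ⟨hxS, hRT (hgR _ hxR)⟩
      · intro x hx
        rw [Cfsg.Agent.Lib.helper87.mem_preimageAlong]
        exact ⟨hWS hx, hZT (hgZ _ ((hZW ⟨x, hWS hx⟩).mp hx))⟩
    intro x
    obtain ⟨hxS, hx⟩ := (Cfsg.Agent.Lib.helper87.mem_preimageAlong ι _ x).mp (hM x.2)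
    exact hx
  obtain ⟨ψ, hψ, hψι⟩ := Cfsg.Agent.Lib.helper87.exists_mem_hom_of_conj hR hPW (g : G) hconj
  have hψS := (F.le_of_mem hψ).2
  have hψP : ∀ (x : Ω) (hx : x ∈ P), ψ ⟨x, (le_sup_left : P ≤ P ⊔ W) hx⟩ ∈ P := by
    intro x hx
    rw [hmemP]
    refine ⟨hψS _, ?_⟩
    rw [hψι]
    exact hgR _ ((hmemP x).mp hx).2
  have hψW : ∀ (x : Ω) (hx : x ∈ W), ψ ⟨x, (le_sup_right : W ≤ P ⊔ W) hx⟩ ∈ W := by
    intro x hx
    have h1 := (hZW ⟨ψ ⟨x, (le_sup_right : W ≤ P ⊔ W) hx⟩, hψS _⟩)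
    rw [h1, hψι]
    exact hgZ _ ((hZW ⟨x, hWS hx⟩).mp hx)
  have ha : ψ.comp (Subgroup.inclusion (le_sup_left : P ≤ P ⊔ W)) ∈ F.Hom P :=
    restrict_mem F le_sup_left hψ
  obtain ⟨α, hα⟩ := Cfsg.Agent.Lib.helper89.exists_aut_of_mem F ha (fun x => hψP x x.2)
  have hαa : P.subtype.comp α.toMonoidHom =
      ψ.comp (Subgroup.inclusion (le_sup_left : P ≤ P ⊔ W)) := by
    ext x
    exact hα x
  have hαN : P.subtype.comp α.toMonoidHom ∈ F.normalizerHom W P := by
    rw [Cfsg.Agent.Lib.helper89.mem_normalizerHom_iff]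
    refine ⟨hαa ▸ ha, fun x hx => ⟨hPS hx, hSN (hPS hx)⟩,
      fun x => ⟨hPS (α x).2, hSN (hPS (α x).2)⟩, P ⊔ W, ψ, hψ, le_sup_left, le_sup_right,
      fun x hx hR' => (hα ⟨x, hx⟩).symm, fun q hq hR' => hψW q hq⟩
  have hpk : ∃ k : ℕ, α ^ (p ^ k) = 1 := by
    by_contra hk
    push Not at hk
    exact h ⟨P, α, hαN, hk⟩
  obtain ⟨k, hk⟩ := hpk
  have hsemi : ∀ x : P, (ι.comp (Subgroup.inclusion hPS)) (α x) =
      (MulAut.conj (g : G)) ((ι.comp (Subgroup.inclusion hPS)) x) := by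
    intro x
    have h1 := hψι ⟨x, (le_sup_left : P ≤ P ⊔ W) x.2⟩ (hψS _)
    have h2 : (⟨ψ ⟨x, (le_sup_left : P ≤ P ⊔ W) x.2⟩, hψS _⟩ : S) =
        Subgroup.inclusion hPS (α x) := Subtype.ext (hα x).symm
    rw [h2] at h1
    exact h1
  have hord : α ^ orderOf g = 1 := by
    apply pow_eq_one_of_semiconj_inj (ι.comp (Subgroup.inclusion hPS))
      (hinj.comp (Subgroup.inclusion_injective hPS)) α (MulAut.conj (g : G)) hsemi
    rw [← map_pow]
    have h1 : (g : G) ^ orderOf g = 1 := by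
      rw [← Subgroup.coe_pow, pow_orderOf_eq_one]
      rfl
    rw [h1, map_one]
  have hα1 : α = 1 := eq_one_of_pow_eq_one_of_coprime hord hk (Nat.Coprime.pow_right k hcop)
  rw [Subgroup.mem_centralizer_iff]
  intro q hq
  have hqR : (q : G) ∈ R := ⟨q, hq, rfl⟩
  obtain ⟨s, hs⟩ := hRT hqR
  have hsP : (s : Ω) ∈ P := (hmemP s).mpr ⟨s.2, by rw [hs]; exact hqR⟩
  have h1 := hsemi ⟨s, hsP⟩
  rw [hα1] at h1
  have h2 : (ι.comp (Subgroup.inclusion hPS)) ⟨s, hsP⟩ = (q : G) := hs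
  rw [MulAut.one_apply, h2] at h1
  apply Subtype.ext
  have h3 : (q : G) = (g : G) * (q : G) * (g : G)⁻¹ := h1
  show (q : G) * (g : G) = (g : G) * (q : G)
  exact eq_mul_of_mul_inv_eq h3.symm ▸ rfl

/-- If no automorphism of `C_F(Z)` is a non-`p`-element and `G` realizes `F` on a Sylow
`p`-subgroup `T`, then `C_G(Z')` has a normal `p`-complement, where `Z'` is the image of `Z`. -/
theorem hasNPC_centralizer_of_not_centNonInner [Finite S] {p : ℕ} [Fact p.Prime]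
    (F : FusionSystem S) {G : Type*} [Group G] [Finite G] {ι : S →* G} (hR : F.IsRealizedBy ι)
    (T : Sylow p G) (hT : (T : Subgroup G) = ι.range) (Z : Subgroup Ω) (Z' : Subgroup G)
    (hZZ : ∀ x : S, (x : Ω) ∈ Z ↔ ι x ∈ Z') (hZS : Z ≤ S) (hZ'T : Z' ≤ T)
    (hTC : (T : Subgroup G) ≤ Subgroup.centralizer (Z' : Set G))
    (hSC : S ≤ Subgroup.centralizer (Z : Set Ω)) (h : ¬ CentNonInner p F Z) :
    Cfsg.HasNormalPComplement p ↥(Subgroup.centralizer (Z' : Set G)) := by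
  have hinj := hR.1
  refine ⟨T.subtype hTC, ?_⟩
  rw [Cfsg.Agent.S0071.result (T.subtype hTC)]
  intro Q hQ g hg hcop
  set R : Subgroup G := Q.map (Subgroup.centralizer (Z' : Set G)).subtype with hRdef
  set P : Subgroup Ω := FusionSystem.preimageAlong ι R with hPdef
  have hPS : P ≤ S := Cfsg.Agent.Lib.helper87.preimageAlong_le ι R
  have hmemP : ∀ x : Ω, x ∈ P ↔ ∃ hx : x ∈ S, ι ⟨x, hx⟩ ∈ R :=
    fun x => Cfsg.Agent.Lib.helper87.mem_preimageAlong ι R x
  have hRT : R ≤ ι.range := by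
    rintro _ ⟨q, hq, rfl⟩
    have h1 := hQ hq
    rw [Sylow.coe_subtype, Subgroup.mem_subgroupOf] at h1
    rw [← hT]
    exact h1
  have hgR : ∀ r ∈ R, (g : G) * r * (g : G)⁻¹ ∈ R := by
    rintro _ ⟨q, hq, rfl⟩
    exact ⟨g * q * g⁻¹, (Subgroup.mem_normalizer_iff.mp hg q).mp hq, rfl⟩
  have hgZ : ∀ z ∈ Z', (g : G) * z * (g : G)⁻¹ = z := by
    intro z hz
    have h1 := Subgroup.mem_centralizer_iff.mp g.2 z hz
    rw [← h1]
    group
  have hZT : Z' ≤ ι.range := by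
    rw [← hT]
    exact hZ'T
  have hPW : P ⊔ Z ≤ S := sup_le hPS hZS
  have hconj : ∀ x : ↥(P ⊔ Z), (g : G) * ι ⟨x, hPW x.2⟩ * (g : G)⁻¹ ∈ ι.range := by
    have hM : P ⊔ Z ≤ FusionSystem.preimageAlong ι
        (ι.range.comap (MulAut.conj (g : G)).toMonoidHom) := by
      apply sup_le
      · intro x hx
        obtain ⟨hxS, hxR⟩ := (hmemP x).mp hx
        rw [Cfsg.Agent.Lib.helper87.mem_preimageAlong]
        exact ⟨hxS, hRT (hgR _ hxR)⟩
      · intro x hx
        rw [Cfsg.Agent.Lib.helper87.mem_preimageAlong]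
        refine ⟨hZS hx, ?_⟩
        show (g : G) * ι ⟨x, hZS hx⟩ * (g : G)⁻¹ ∈ ι.range
        rw [hgZ _ ((hZZ ⟨x, hZS hx⟩).mp hx)]
        exact ⟨_, rfl⟩
    intro x
    obtain ⟨hxS, hx⟩ := (Cfsg.Agent.Lib.helper87.mem_preimageAlong ι _ x).mp (hM x.2)
    exact hx
  obtain ⟨ψ, hψ, hψι⟩ := Cfsg.Agent.Lib.helper87.exists_mem_hom_of_conj hR hPW (g : G) hconj
  have hψS := (F.le_of_mem hψ).2
  have hψP : ∀ (x : Ω) (hx : x ∈ P), ψ ⟨x, (le_sup_left : P ≤ P ⊔ Z) hx⟩ ∈ P := by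
    intro x hx
    rw [hmemP]
    refine ⟨hψS _, ?_⟩
    rw [hψι]
    exact hgR _ ((hmemP x).mp hx).2
  have hψZ : ∀ x : Z, ψ (Subgroup.inclusion (le_sup_right : Z ≤ P ⊔ Z) x) = x := by
    intro x
    have h1 := hψι (Subgroup.inclusion (le_sup_right : Z ≤ P ⊔ Z) x) (hψS _)
    have h2 : (g : G) * ι ⟨((Subgroup.inclusion (le_sup_right : Z ≤ P ⊔ Z) x : ↥(P ⊔ Z)) : Ω),
        hPW (Subgroup.inclusion (le_sup_right : Z ≤ P ⊔ Z) x).2⟩ * (g : G)⁻¹ = ι ⟨x, hZS x.2⟩ :=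
      hgZ _ ((hZZ ⟨x, hZS x.2⟩).mp x.2)
    rw [h2] at h1
    exact congrArg Subtype.val (hinj h1)
  have ha : ψ.comp (Subgroup.inclusion (le_sup_left : P ≤ P ⊔ Z)) ∈ F.Hom P :=
    restrict_mem F le_sup_left hψ
  obtain ⟨α, hα⟩ := Cfsg.Agent.Lib.helper89.exists_aut_of_mem F ha (fun x => hψP x x.2)
  have hαa : P.subtype.comp α.toMonoidHom =
      ψ.comp (Subgroup.inclusion (le_sup_left : P ≤ P ⊔ Z)) := by
    ext x
    exact hα x
  have hαC : P.subtype.comp α.toMonoidHom ∈ F.centralizerHom Z P :=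
    ⟨hαa ▸ ha, fun x hx => ⟨hPS hx, hSC (hPS hx)⟩,
      fun x => ⟨hPS (α x).2, hSC (hPS (α x).2)⟩, ψ, hψ, fun x => (hα x).symm, hψZ⟩
  have hpk : ∃ k : ℕ, α ^ (p ^ k) = 1 := by
    by_contra hk
    push Not at hk
    exact h ⟨P, α, hαC, hk⟩
  obtain ⟨k, hk⟩ := hpk
  have hsemi : ∀ x : P, (ι.comp (Subgroup.inclusion hPS)) (α x) =
      (MulAut.conj (g : G)) ((ι.comp (Subgroup.inclusion hPS)) x) := by
    intro x
    have h1 := hψι ⟨x, (le_sup_left : P ≤ P ⊔ Z) x.2⟩ (hψS _)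
    have h2 : (⟨ψ ⟨x, (le_sup_left : P ≤ P ⊔ Z) x.2⟩, hψS _⟩ : S) =
        Subgroup.inclusion hPS (α x) := Subtype.ext (hα x).symm
    rw [h2] at h1
    exact h1
  have hord : α ^ orderOf g = 1 := by
    apply pow_eq_one_of_semiconj_inj (ι.comp (Subgroup.inclusion hPS))
      (hinj.comp (Subgroup.inclusion_injective hPS)) α (MulAut.conj (g : G)) hsemi
    rw [← map_pow]
    have h1 : (g : G) ^ orderOf g = 1 := by
      rw [← Subgroup.coe_pow, pow_orderOf_eq_one]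
      rfl
    rw [h1, map_one]
  have hα1 : α = 1 := eq_one_of_pow_eq_one_of_coprime hord hk (Nat.Coprime.pow_right k hcop)
  rw [Subgroup.mem_centralizer_iff]
  intro q hq
  have hqR : (q : G) ∈ R := ⟨q, hq, rfl⟩
  obtain ⟨s, hs⟩ := hRT hqR
  have hsP : (s : Ω) ∈ P := (hmemP s).mpr ⟨s.2, by rw [hs]; exact hqR⟩
  have h1 := hsemi ⟨s, hsP⟩
  rw [hα1] at h1
  have h2 : (ι.comp (Subgroup.inclusion hPS)) ⟨s, hsP⟩ = (q : G) := hs
  rw [MulAut.one_apply, h2] at h1
  apply Subtype.ext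
  have h3 : (q : G) = (g : G) * (q : G) * (g : G)⁻¹ := h1
  show (q : G) * (g : G) = (g : G) * (q : G)
  exact eq_mul_of_mul_inv_eq h3.symm ▸ rfl

/-- **Thompson's theorem for realized fusion systems**: if `F` is realized by a finite group `G` on
a Sylow `p`-subgroup, `p` is odd or `S₄` is not involved in `G`, and some automorphism of `F` is
not a `p`-element, then some automorphism of `C_F(Z(S))` or of `N_F(J(S))` is not a `p`-element. -/
theorem thNonInner_of_realized [Finite S] {p : ℕ} [Fact p.Prime] (F : FusionSystem S)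
    {G : Type*} [Group G] [Finite G] {ι : S →* G} (hR : F.IsRealizedBy ι) (T : Sylow p G)
    (hT : (T : Subgroup G) = ι.range)
    (hp : p ≠ 2 ∨ ¬ Cfsg.Involves (Equiv.Perm (Fin 4)) G) (h : NonInner p F) :
    CentNonInner p F (centerOf S) ∨ NormNonInner p F (Cfsg.thompsonSubgroupAOf S) := by
  by_contra hcon
  push Not at hcon
  obtain ⟨hc, hn⟩ := hcon
  have hinj := hR.1
  have hZZ : ∀ x : S, (x : Ω) ∈ centerOf S ↔ ι x ∈ centerOf (T : Subgroup G) := by
    intro x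
    constructor
    · intro hx
      obtain ⟨-, hxC⟩ := Subgroup.mem_inf.mp hx
      rw [Subgroup.mem_centralizer_iff] at hxC
      refine Subgroup.mem_inf.mpr ⟨by rw [hT]; exact ⟨x, rfl⟩, ?_⟩
      rw [Subgroup.mem_centralizer_iff]
      intro t ht
      rw [SetLike.mem_coe, hT] at ht
      obtain ⟨y, rfl⟩ := ht
      rw [← map_mul, ← map_mul]
      congr 1
      exact Subtype.ext (hxC y y.2)
    · intro hx
      obtain ⟨-, hxC⟩ := Subgroup.mem_inf.mp hx
      rw [Subgroup.mem_centralizer_iff] at hxC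
      refine Subgroup.mem_inf.mpr ⟨x.2, ?_⟩
      rw [Subgroup.mem_centralizer_iff]
      intro y hy
      have h1 := hxC (ι ⟨y, hy⟩) (by rw [SetLike.mem_coe, hT]; exact ⟨_, rfl⟩)
      rw [← map_mul, ← map_mul] at h1
      exact congrArg Subtype.val (hinj h1)
  have hTC : (T : Subgroup G) ≤ Subgroup.centralizer (centerOf (T : Subgroup G) : Set G) := by
    intro t ht
    rw [Subgroup.mem_centralizer_iff]
    intro z hz
    exact (Subgroup.mem_centralizer_iff.mp (Subgroup.mem_inf.mp hz).2 t ht).symm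
  have hSC : S ≤ Subgroup.centralizer (centerOf S : Set Ω) := by
    intro t ht
    rw [Subgroup.mem_centralizer_iff]
    intro z hz
    exact (Subgroup.mem_centralizer_iff.mp (Subgroup.mem_inf.mp hz).2 t ht).symm
  have hJJ : ∀ x : S, (x : Ω) ∈ Cfsg.thompsonSubgroupAOf S ↔
      ι x ∈ Cfsg.thompsonSubgroupAOf (T : Subgroup G) := by
    have h1 : Cfsg.thompsonSubgroupAOf S =
        (Cfsg.thompsonSubgroupAOf (⊤ : Subgroup S)).map S.subtype :=
      thompsonSubgroupAOf_eq_map_top S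
    have h2 : Cfsg.thompsonSubgroupAOf (T : Subgroup G) =
        (Cfsg.thompsonSubgroupAOf (⊤ : Subgroup S)).map ι := by
      rw [hT, MonoidHom.range_eq_map, thompsonSubgroupAOf_map hinj]
    intro x
    rw [h1, h2]
    constructor
    · rintro ⟨y, hy, hyx⟩
      have h3 : y = x := Subtype.ext hyx
      exact ⟨y, hy, by rw [h3]⟩
    · rintro ⟨y, hy, hyx⟩
      have h3 : y = x := hinj hyx
      exact ⟨y, hy, by rw [h3]; rfl⟩
  have hTH : (T : Subgroup G) ≤
      Subgroup.normalizer (Cfsg.thompsonSubgroupAOf (T : Subgroup G) : Set G) :=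
    Subgroup.le_normalizer.trans (normalizer_le_normalizer_thompsonSubgroupAOf _)
  have hSN : S ≤ Subgroup.normalizer (Cfsg.thompsonSubgroupAOf S : Set Ω) :=
    Subgroup.le_normalizer.trans (normalizer_le_normalizer_thompsonSubgroupAOf S)
  have h1 := hasNPC_centralizer_of_not_centNonInner F hR T hT (centerOf S)
    (centerOf (T : Subgroup G)) hZZ (centerOf_le S) (centerOf_le _) hTC hSC hc
  have h2 := hasNPC_normalizer_of_not_normNonInner' F hR T hT (Cfsg.thompsonSubgroupAOf S)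
    (Cfsg.thompsonSubgroupAOf (T : Subgroup G)) hJJ (thompsonSubgroupAOf_le S)
    (thompsonSubgroupAOf_le _) hTH hSN hn
  have h3 := Cfsg.Agent.S2800.result T hp h1 h2
  exact not_nonInner_of_hasNPC F hR T hT h3 h

/-- A model of a system is a model of the normalizer system of any subgroup normal in the
system. -/
theorem model_normalizerSystem_of_isNormal [Finite S] {p : ℕ} [Fact p.Prime] {F : FusionSystem S}
    {G : Type*} [Group G] {ι : S →* G} (hM : F.IsModel p G ι) {Q : Subgroup Ω}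
    (hQ : F.IsNormal Q) (N : FusionSystem (normalizerIn S Q)) (hN : F.IsNormalizerSystem Q N) :
    N.IsModel p G (ι.comp (Subgroup.inclusion (normalizerIn_le S Q))) := by
  obtain ⟨hfin, hR, ⟨T, hT⟩, hcent⟩ := hM
  have hQS : Q ≤ S := hQ.1
  haveI : Finite Q := finite_of_le hQS
  have hsc : F.StronglyClosed Q := Cfsg.Agent.Lib.helper87.stronglyClosed_of_isNormal' F hQ
  have hSN : S ≤ normalizerIn S Q := fun s hs =>
    Subgroup.mem_inf.mpr ⟨hs, mem_normalizer_of_conj_mem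
      (fun x hx => Cfsg.Agent.Lib.helper89.conj_mem_of_stronglyClosed F hsc hs hx)⟩
  refine ⟨hfin, ⟨hR.1.comp (Subgroup.inclusion_injective _), ?_⟩, ⟨T, ?_⟩, hcent⟩
  · intro P hP φ hφ
    rw [hN P, Cfsg.Agent.Lib.helper89.mem_normalizerHom_iff]
    constructor
    · rintro ⟨h1, -, -, -⟩
      exact (hR.2 P (hP.trans (normalizerIn_le S Q)) φ
        (fun x => normalizerIn_le S Q (hφ x))).mp h1
    · intro hg
      have h1 : φ ∈ F.Hom P := (hR.2 P (hP.trans (normalizerIn_le S Q)) φ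
        (fun x => normalizerIn_le S Q (hφ x))).mpr hg
      exact ⟨h1, hP, hφ,
        ((Cfsg.Agent.Lib.helper89.isNormal_iff_forall_normExt F Q).mp hQ).2 P φ h1⟩
  · rw [hT]
    ext y
    constructor
    · rintro ⟨s, rfl⟩
      exact ⟨⟨s, hSN s.2⟩, rfl⟩
    · rintro ⟨s, rfl⟩
      exact ⟨Subgroup.inclusion (normalizerIn_le S Q) s, rfl⟩

end Cfsg.Agent.Lib.helper88
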