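import Mathlib
import Cfsg.Agent.S1350
import Cfsg.Agent.S1423
import Cfsg.Agent.S1432
import Cfsg.Agent.Lib.helper27.BGKTI
import Cfsg.Agent.Lib.helper1.Fpf
import Cfsg.Agent.Lib.helper75.FpfRank
import Cfsg.Agent.Lib.helper71.BGTenA
import Cfsg.Agent.Lib.helper71.BGTwelveFour
import Cfsg.Agent.Lib.helper87.BG1425Main

/-!
# S1376, clause 2 (helper88): the complement `E` of `M_σ` in `M` is a cyclic Frobenius complement

Setting: `M` a maximal subgroup, `E` a complement of `M_σ` in `M`, `M_σ` nilpotent,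
`κ(M) = τ₂(M) = ∅`, and `x ∈ M_σ^#` with `C_G(x) ⊄ M`.

* `compl_prime_not_sigma` : no prime divisor of the order of an element of `E` lies in `σ(M)`.
* `fpf_of_tau2_empty` : every `e ∈ E^#` acts fixed-point-freely on `M_σ` (S1432).
* `E_abelian` : `E` is abelian (S1423: a prime `p ∣ o(x)` is not in `β(M)`, so the normal Sylow
  `p`-subgroup of `M` is narrow and `[E, E]` centralizes it).
* `E_cyclic` : `E` abelian and f.p.f. on `M_σ ≠ 1` nilpotent, hence cyclic.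
* `E_frob` : `E.subgroupOf M` is a Frobenius complement of `↥M`.
* `s1376_cl2` : the packaged clause 2 of S1376.
-/

set_option autoImplicit false

namespace Cfsg.Agent.Lib.helper88.BG1376

open Cfsg Subgroup

variable {G : Type*} [Group G]

/-- No prime divisor of the order of an element of a complement `E` of `M_σ` in `M` lies in
`σ(M)`. -/
theorem compl_prime_not_sigma [Finite G] (hG : IsMinSimpleOddOrder G) (M : Subgroup G)
    (hM : IsCoatom M) (E : Subgroup G) (hE : IsComplIn E (sigmaCore M) M) (e : G) (he : e ∈ E)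
    (p : ℕ) (hp : p.Prime) (hpe : p ∣ orderOf e) : p ∉ sigma M := by
  intro hσ
  have hfin : orderOf e ≠ 0 := (orderOf_pos e).ne'
  obtain ⟨e₀, he₀⟩ : ∃ e₀ : G, e₀ = e ^ (orderOf e / p) := ⟨_, rfl⟩
  have he₀o : orderOf e₀ = p := by rw [he₀]; exact orderOf_pow_orderOf_div hfin hpe
  have he₀E : e₀ ∈ E := by rw [he₀]; exact E.pow_mem he _
  have hle : Subgroup.zpowers e₀ ≤ sigmaCore M := by
    apply Cfsg.Agent.Lib.helper87.BG133.le_sigmaCore_of_pi hG M hM _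
      (Subgroup.zpowers_le.mpr (hE.1 he₀E))
    intro q hq hqd
    rw [Nat.card_zpowers, he₀o] at hqd
    rw [(Nat.prime_dvd_prime_iff_eq hq hp).mp hqd]
    exact hσ
  have hmem : e₀ ∈ E ⊓ sigmaCore M := ⟨he₀E, hle (Subgroup.mem_zpowers e₀)⟩
  rw [hE.2.2.1, Subgroup.mem_bot] at hmem
  rw [hmem, orderOf_one] at he₀o
  exact hp.one_lt.ne he₀o

/-- With `κ(M) = τ₂(M) = ∅`, every non-identity element of a complement `E` of `M_σ` in `M`
acts fixed-point-freely on `M_σ`. -/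
theorem fpf_of_tau2_empty [Finite G] (hG : IsMinSimpleOddOrder G) (M : Subgroup G)
    (hM : IsCoatom M) (E : Subgroup G) (hE : IsComplIn E (sigmaCore M) M)
    (hκ : kappa M = ∅) (hτ : tau2 M = ∅) :
    ∀ e ∈ E, e ≠ 1 → ∀ y ∈ sigmaCore M, e * y = y * e → y = 1 := by
  intro e he he1 y hy hey
  by_contra hy1
  have hmem : e ∈ M ⊓ centralizer ({y} : Set G) := by
    refine ⟨hE.1 he, ?_⟩
    show e ∈ centralizer ({y} : Set G)
    rw [Subgroup.mem_centralizer_iff]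
    intro z hz
    rw [Set.mem_singleton_iff] at hz
    subst hz
    exact hey.symm
  have h := Cfsg.Agent.S1432.result hG M hM y hy hy1 e hmem he1
    (fun p hp hpe => compl_prime_not_sigma hG M hM E hE e he p hp hpe)
  have ho : orderOf e ≠ 1 := fun h => he1 (orderOf_eq_one_iff.mp h)
  obtain ⟨p, hp, hpe⟩ := Nat.exists_prime_and_dvd ho
  rcases h with ⟨h1, -⟩ | ⟨h1, -⟩
  · have h2 := h1 p hp hpe
    rw [hκ] at h2
    exact h2
  · have h2 := h1 p hp hpe
    rw [hτ] at h2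
    exact h2

/-- `E` is abelian. -/
theorem E_abelian [Finite G] (hG : IsMinSimpleOddOrder G) (M : Subgroup G) (hM : IsCoatom M)
    (E : Subgroup G) (hE : IsComplIn E (sigmaCore M) M)
    (hnil : Group.IsNilpotent ↥(sigmaCore M))
    (hfpf : ∀ e ∈ E, e ≠ 1 → ∀ y ∈ sigmaCore M, e * y = y * e → y = 1)
    (x : G) (hx : x ∈ sigmaCore M) (hx1 : x ≠ 1) (hxM : ¬ centralizer ({x} : Set G) ≤ M) :
    ∀ a ∈ E, ∀ b ∈ E, a * b = b * a := by
  obtain ⟨hodd, hsimple, -, hsolv⟩ := id hG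
  have hMσM : sigmaCore M ≤ M := Cfsg.Agent.Lib.helper71.BGA.sigmaCore_le M
  have hMs : Group.IsSolvable M := hsolv M hM.1
  have hMo : Odd (Nat.card M) := Odd.of_dvd_nat hodd (Subgroup.card_subgroup_dvd_card M)
  have hxo : orderOf x ≠ 1 := fun h => hx1 (orderOf_eq_one_iff.mp h)
  obtain ⟨p, hp, hpx⟩ := Nat.exists_prime_and_dvd hxo
  have : Fact p.Prime := ⟨hp⟩
  have hxfin : orderOf x ≠ 0 := (orderOf_pos x).ne'
  obtain ⟨x₀, hx₀⟩ : ∃ x₀ : G, x₀ = x ^ (orderOf x / p) := ⟨_, rfl⟩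
  have hx₀o : orderOf x₀ = p := by rw [hx₀]; exact orderOf_pow_orderOf_div hxfin hpx
  have hx₀σ : x₀ ∈ sigmaCore M := by rw [hx₀]; exact (sigmaCore M).pow_mem hx _
  have hx₀1 : x₀ ≠ 1 := by
    intro h
    rw [h, orderOf_one] at hx₀o
    exact hp.one_lt.ne hx₀o
  have hpσ : p ∈ sigma M := by
    apply Cfsg.Agent.Lib.helper71.BG12.mem_sigma_of_dvd_card_sigmaCore M hp
    rw [← hx₀o]
    exact Subgroup.orderOf_dvd_natCard _ hx₀σ
  have hXM : Subgroup.zpowers x₀ ≤ M := Subgroup.zpowers_le.mpr (hMσM hx₀σ)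
  have hpβ : p ∉ beta M := by
    intro hβ
    obtain ⟨Q⟩ : Nonempty (Sylow p ↥(sigmaCore M)) := inferInstance
    have h14 := (Cfsg.Agent.S1423.result hG M hM p hpσ (Subgroup.zpowers x₀) hXM
      (by rw [Nat.card_zpowers, hx₀o]) Q (Or.inl hβ)).1.1
    apply hxM
    refine le_trans ?_ h14
    intro c hc
    rw [Subgroup.mem_centralizer_iff] at hc ⊢
    intro z hz
    obtain ⟨k, rfl⟩ := Subgroup.mem_zpowers_iff.mp hz
    have hcx : Commute x c := hc x (Set.mem_singleton x)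
    rw [hx₀]
    exact ((hcx.pow_left _).zpow_left k).eq
  -- the normal Sylow `p`-subgroup `P` of `M`
  have := hnil
  obtain ⟨Q⟩ : Nonempty (Sylow p ↥(sigmaCore M)) := inferInstance
  have hQn : (Q : Subgroup ↥(sigmaCore M)).Normal :=
    Sylow.normal_of_normalizerCondition Group.normalizerCondition_of_isNilpotent Q
  obtain ⟨P, hPdef⟩ : ∃ P : Subgroup G,
      P = (Q : Subgroup ↥(sigmaCore M)).map (sigmaCore M).subtype := ⟨_, rfl⟩
  have hPp : IsPGroup p P := by rw [hPdef]; exact Q.isPGroup'.map _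
  have hPσ : P ≤ sigmaCore M := by rw [hPdef]; exact Subgroup.map_subtype_le _
  have hPall : ∀ z ∈ M, (∃ j : ℕ, z ^ p ^ j = 1) → z ∈ P := by
    rintro z hzM ⟨j, hj⟩
    have hzσ : z ∈ sigmaCore M := by
      have hle : Subgroup.zpowers z ≤ sigmaCore M := by
        apply Cfsg.Agent.Lib.helper87.BG133.le_sigmaCore_of_pi hG M hM _
          (Subgroup.zpowers_le.mpr hzM)
        intro q hq hqd
        rw [Nat.card_zpowers] at hqd
        have h1 : q ∣ p ^ j := hqd.trans (orderOf_dvd_of_pow_eq_one hj)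
        rw [(Nat.prime_dvd_prime_iff_eq hq hp).mp (hq.dvd_of_dvd_pow h1)]
        exact hpσ
      exact hle (Subgroup.mem_zpowers z)
    have hzpg' : IsPGroup p (Subgroup.zpowers (⟨z, hzσ⟩ : ↥(sigmaCore M))) :=
      Cfsg.Agent.Lib.helper27.BGKP.isPGroup_zpowers_of_pow p _ j
        (Subtype.ext (by rw [Subgroup.coe_pow]; exact hj))
    obtain ⟨Q', hQ'⟩ := hzpg'.exists_le_sylow
    obtain ⟨t, ht⟩ := MulAction.exists_smul_eq ↥(sigmaCore M) Q Q'
    have hQQ : Q' = Q := by rw [← ht]; exact Sylow.smul_eq_of_normal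
    rw [hPdef]
    exact ⟨⟨z, hzσ⟩, hQQ ▸ hQ' (Subgroup.mem_zpowers _), rfl⟩
  have hMP : M ≤ normalizer (P : Set G) := by
    rw [Subgroup.le_normalizer_iff]
    intro m hm y hy
    apply hPall _ (M.mul_mem (M.mul_mem hm (hMσM (hPσ hy))) (M.inv_mem hm))
    obtain ⟨j, hj⟩ := hPp ⟨y, hy⟩
    refine ⟨j, ?_⟩
    have hj' : y ^ p ^ j = 1 := by
      have h1 := congrArg Subtype.val hj
      rwa [Subgroup.coe_pow] at h1
    rw [conj_pow, hj', mul_one, mul_inv_cancel]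
  have hP' : IsPGroup p (P.subgroupOf M) :=
    hPp.comap_of_injective M.subtype (Subgroup.subtype_injective M)
  obtain ⟨S, hS⟩ := hP'.exists_le_sylow
  have hSP : (S : Subgroup M).map M.subtype = P := by
    apply le_antisymm
    · rintro _ ⟨s, hs, rfl⟩
      obtain ⟨j, hj⟩ := S.isPGroup' ⟨s, hs⟩
      refine hPall s s.2 ⟨j, ?_⟩
      have h1 := congrArg Subtype.val (congrArg Subtype.val hj)
      simpa using h1
    · intro y hy
      have hyM : y ∈ M := hMσM (hPσ hy)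
      exact ⟨⟨y, hyM⟩, hS (Subgroup.mem_subgroupOf.mpr hy), rfl⟩
  have hNS := Cfsg.Agent.Lib.helper27.BGKP.narrow_sylow hG M p hpσ hpβ S
  have e : ↥(S : Subgroup M) ≃* ↥P :=
    ((S : Subgroup M).equivMapOfInjective M.subtype M.subtype_injective).trans
      (MulEquiv.subgroupCongr hSP)
  have hPn : IsNarrow p ↥P := Cfsg.Agent.Lib.helper30.isNarrow_of_mulEquiv p e hNS
  have hp2 : p ≠ 2 := by
    intro h
    have hpM : p ∣ Nat.card M := hpσ.2.1
    rw [h] at hpM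
    exact (Nat.not_even_iff_odd.mpr hMo) (even_iff_two_dvd.mpr hpM)
  have hx₀P : x₀ ∈ P :=
    hPall x₀ (hMσM hx₀σ) ⟨1, by rw [pow_one, ← hx₀o]; exact pow_orderOf_eq_one x₀⟩
  have hcop : (Nat.card E).Coprime p := by
    rw [Nat.coprime_comm, Nat.Prime.coprime_iff_not_dvd hp]
    intro hdvd
    obtain ⟨e', he'⟩ := exists_prime_orderOf_dvd_card' (G := ↥E) p hdvd
    exact compl_prime_not_sigma hG M hM E hE (e' : G) e'.2 p hp
      (by rw [Subgroup.orderOf_coe, he']) hpσ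
  intro a ha b hb
  by_contra hab
  have hcE : a * b * a⁻¹ * b⁻¹ ∈ E :=
    E.mul_mem (E.mul_mem (E.mul_mem ha hb) (E.inv_mem ha)) (E.inv_mem hb)
  have hc1 : a * b * a⁻¹ * b⁻¹ ≠ 1 := by
    intro h
    apply hab
    have h2 : a * b = (a * b * a⁻¹ * b⁻¹) * (b * a) := by group
    rw [h2, h, one_mul]
  have hcn : (a * b * a⁻¹ * b⁻¹) ^ Nat.card E = 1 := by
    have h1 : (⟨a * b * a⁻¹ * b⁻¹, hcE⟩ : ↥E) ^ Nat.card ↥E = 1 := pow_card_eq_one'
    have h2 := congrArg Subtype.val h1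
    rwa [Subgroup.coe_pow] at h2
  have h := Cfsg.Agent.Lib.helper27.BGKP.narrow_comm_centralizes p hp2 P M hMP hPp hPn hMs hMo
    a b (hE.1 ha) (hE.1 hb) (Nat.card E) hcop hcn x₀ hx₀P
  exact hx₀1 (hfpf _ hcE hc1 x₀ hx₀σ h)

/-- `E` abelian and fixed-point-free on the nilpotent `M_σ ≠ 1` is cyclic. -/
theorem E_cyclic [Finite G] (M E : Subgroup G) (hE : IsComplIn E (sigmaCore M) M)
    (hnil : Group.IsNilpotent ↥(sigmaCore M)) (hσ1 : sigmaCore M ≠ ⊥)
    (hfpf : ∀ e ∈ E, e ≠ 1 → ∀ y ∈ sigmaCore M, e * y = y * e → y = 1)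
    (hab : ∀ a ∈ E, ∀ b ∈ E, a * b = b * a) : IsCyclic ↥E := by
  have := hnil
  have hnt : Nontrivial ↥(sigmaCore M) := (Subgroup.nontrivial_iff_ne_bot _).mpr hσ1
  have hZ : center ↥(sigmaCore M) ≠ ⊥ := Group.IsNilpotent.center_ne_bot _
  obtain ⟨V, hV⟩ : ∃ V : Subgroup G,
      V = (center ↥(sigmaCore M)).map (sigmaCore M).subtype := ⟨_, rfl⟩
  have hVσ : V ≤ sigmaCore M := by rw [hV]; exact Subgroup.map_subtype_le _
  have hVmem : ∀ v : G, v ∈ V ↔ v ∈ sigmaCore M ∧ ∀ s ∈ sigmaCore M, s * v = v * s := by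
    intro v
    rw [hV]
    constructor
    · rintro ⟨z, hz, rfl⟩
      refine ⟨z.2, fun s hs => ?_⟩
      have h1 := Subgroup.mem_center_iff.mp hz ⟨s, hs⟩
      exact congrArg Subtype.val h1
    · rintro ⟨hv, hc⟩
      refine ⟨⟨v, hv⟩, ?_, rfl⟩
      show (⟨v, hv⟩ : ↥(sigmaCore M)) ∈ center ↥(sigmaCore M)
      rw [Subgroup.mem_center_iff]
      intro s
      exact Subtype.ext (hc s s.2)
  have hMσn : ∀ m ∈ M, ∀ y ∈ sigmaCore M, m * y * m⁻¹ ∈ sigmaCore M :=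
    Subgroup.le_normalizer_iff.mp (Cfsg.Agent.Lib.helper71.BGA.le_normalizer_sigmaCore M)
  apply Cfsg.Agent.Lib.helper1.fpf_abelian_cyclic E V
  · intro a ha b hb
    exact (((hVmem b).mp hb).2 a (hVσ ha))
  · intro h
    apply hZ
    rw [eq_bot_iff]
    intro z hz
    have h1 : (z : G) ∈ V := by rw [hV]; exact ⟨z, hz, rfl⟩
    rw [h, Subgroup.mem_bot] at h1
    rw [Subgroup.mem_bot]
    exact Subtype.ext h1
  · rw [Subgroup.le_normalizer_iff]
    intro m hm v hv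
    have hmM : m ∈ M := hE.1 hm
    obtain ⟨hvσ, hvc⟩ := (hVmem v).mp hv
    rw [hVmem]
    refine ⟨hMσn m hmM v hvσ, fun s hs => ?_⟩
    have h1 := hMσn m⁻¹ (M.inv_mem hmM) s hs
    rw [inv_inv] at h1
    have h2 := hvc _ h1
    have e1 : s * (m * v * m⁻¹) = m * ((m⁻¹ * s * m) * v) * m⁻¹ := by group
    have e2 : m * v * m⁻¹ * s = m * (v * (m⁻¹ * s * m)) * m⁻¹ := by group
    rw [e1, e2, h2]
  · intro a ha ha1 w hw h
    apply hfpf a ha ha1 w (hVσ hw)
    have e1 : a * w = (a * w * a⁻¹) * a := by group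
    rw [e1, h]
  · exact hab

/-- `E.subgroupOf M` is a Frobenius complement of `↥M`. -/
theorem E_frob (M E : Subgroup G) (hE : IsComplIn E (sigmaCore M) M) (hE1 : E ≠ ⊥)
    (hσ1 : sigmaCore M ≠ ⊥)
    (hfpf : ∀ e ∈ E, e ≠ 1 → ∀ y ∈ sigmaCore M, e * y = y * e → y = 1) :
    IsFrobeniusComplement (E.subgroupOf M) := by
  have : ((sigmaCore M).subgroupOf M).Normal :=
    Subgroup.normal_subgroupOf_of_le_normalizer
      (Cfsg.Agent.Lib.helper71.BGA.le_normalizer_sigmaCore M)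
  apply Cfsg.Agent.Lib.helper75.isFrobeniusComplement_of_fpf_complement
    ((sigmaCore M).subgroupOf M) (E.subgroupOf M)
  · apply Subgroup.isComplement'_of_disjoint_and_mul_eq_univ
    · rw [Subgroup.disjoint_def]
      intro m hm1 hm2
      have h : (m : G) ∈ E ⊓ sigmaCore M :=
        ⟨Subgroup.mem_subgroupOf.mp hm2, Subgroup.mem_subgroupOf.mp hm1⟩
      rw [hE.2.2.1, Subgroup.mem_bot] at h
      exact Subtype.ext h
    · rw [Set.eq_univ_iff_forall]
      intro m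
      obtain ⟨a, ha, b, hb, hab⟩ := hE.2.2.2 (m : G)⁻¹ (M.inv_mem m.2)
      refine Set.mem_mul.mpr ⟨⟨b⁻¹, M.inv_mem (hE.2.1 hb)⟩, ?_, ⟨a⁻¹, M.inv_mem (hE.1 ha)⟩, ?_, ?_⟩
      · exact Subgroup.mem_subgroupOf.mpr ((sigmaCore M).inv_mem hb)
      · exact Subgroup.mem_subgroupOf.mpr (E.inv_mem ha)
      · apply Subtype.ext
        show b⁻¹ * a⁻¹ = (m : G)
        rw [← mul_inv_rev, ← hab, inv_inv]
  · intro h
    apply hσ1
    rw [eq_bot_iff]
    intro y hy
    have h1 : (⟨y, hE.2.1 hy⟩ : ↥M) ∈ (sigmaCore M).subgroupOf M := Subgroup.mem_subgroupOf.mpr hy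
    rw [h, Subgroup.mem_bot] at h1
    rw [Subgroup.mem_bot]
    exact congrArg Subtype.val h1
  · intro h
    apply hE1
    rw [eq_bot_iff]
    intro y hy
    have h1 : (⟨y, hE.1 hy⟩ : ↥M) ∈ E.subgroupOf M := Subgroup.mem_subgroupOf.mpr hy
    rw [h, Subgroup.mem_bot] at h1
    rw [Subgroup.mem_bot]
    exact congrArg Subtype.val h1
  · intro h hh hh1
    rw [eq_bot_iff]
    rintro y ⟨hy1, hy2⟩
    rw [Subgroup.mem_bot]
    apply Subtype.ext
    have hhE : (h : G) ∈ E := Subgroup.mem_subgroupOf.mp hh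
    have hh1' : (h : G) ≠ 1 := fun h2 => hh1 (Subtype.ext h2)
    have hyσ : (y : G) ∈ sigmaCore M := Subgroup.mem_subgroupOf.mp hy1
    have hc := Subgroup.mem_centralizer_iff.mp hy2 h (Set.mem_singleton h)
    have hc' : (h : G) * (y : G) = (y : G) * (h : G) := by
      have := congrArg Subtype.val hc
      simpa using this
    exact hfpf (h : G) hhE hh1' (y : G) hyσ hc'

/-- **Clause 2 of S1376**, packaged: in the setting (`E` a complement of the nilpotent `M_σ` in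
`M`, `E ≠ 1`, `κ(M) = τ₂(M) = ∅`, `x ∈ M_σ^#` with `C_G(x) ⊄ M`), `E` is a cyclic Frobenius
complement of `M`. -/
theorem s1376_cl2 [Finite G] (hG : IsMinSimpleOddOrder G) (M : Subgroup G) (hM : IsCoatom M)
    (E : Subgroup G) (hE : IsComplIn E (sigmaCore M) M) (hE1 : E ≠ ⊥)
    (hnil : Group.IsNilpotent ↥(sigmaCore M)) (hκ : kappa M = ∅) (hτ : tau2 M = ∅)
    (x : G) (hx : x ∈ sigmaCore M) (hx1 : x ≠ 1) (hxM : ¬ centralizer ({x} : Set G) ≤ M) :
    ∃ E' : Subgroup ↥M, IsFrobeniusComplement E' ∧ IsCyclic E' := by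
  have hfpf := fpf_of_tau2_empty hG M hM E hE hκ hτ
  have hσ1 : sigmaCore M ≠ ⊥ := by
    intro h
    rw [h, Subgroup.mem_bot] at hx
    exact hx1 hx
  refine ⟨E.subgroupOf M, E_frob M E hE hE1 hσ1 hfpf, ?_⟩
  have hab := E_abelian hG M hM E hE hnil hfpf x hx hx1 hxM
  have hcyc : IsCyclic ↥E := E_cyclic M E hE hnil hσ1 hfpf hab
  exact (Subgroup.subgroupOfEquivOfLe hE.1).isCyclic.mpr hcyc

end Cfsg.Agent.Lib.helper88.BG1376
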