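import Cfsg.Agent.Lib.helper88.NormalSub

set_option autoImplicit false

/-!
Saturation criterion: a fusion system over a finite `p`-group `S` is saturated as soon as `S` is
fully automized and every fully normalized subgroup is receptive.
-/

namespace Cfsg.Agent.Lib.helper88

open Cfsg Cfsg.FusionSystem

variable {Ω : Type*} [Group Ω] {S : Subgroup Ω}

/-- If `S` is fully automized and every fully normalized subgroup is receptive, then every fully
normalized subgroup is fully automized. -/
theorem fullyAutomized_of_fullyNormalized_of_receptive [Finite S] {p : ℕ} [Fact p.Prime]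
    (hS : IsPGroup p S) (F : FusionSystem S) (hSfa : F.IsFullyAutomized p S)
    (hrec : ∀ P : Subgroup Ω, F.IsFullyNormalized P → F.IsReceptive P) :
    ∀ (n : ℕ) (Q : Subgroup Ω), Nat.card S - Nat.card Q = n → F.IsFullyNormalized Q →
      F.IsFullyAutomized p Q := by
  classical
  intro n
  induction n using Nat.strong_induction_on with
  | _ n ih =>
    intro Q hn hQ
    have hQS := hQ.1
    by_cases hQS' : Q = S
    · rw [hQS']
      exact hSfa
    refine ⟨hQS, ?_⟩
    have hfinQ : Finite Q := finite_of_le hQS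
    have hAp : IsPGroup p ((autInducedBy S Q).subgroupOf (F.autGroup Q)) :=
      (isPGroup_autInducedBy hS Q).comap_subtype
    obtain ⟨R, hAR⟩ := hAp.exists_le_sylow
    by_contra hne
    have hlt : (autInducedBy S Q).subgroupOf (F.autGroup Q) < (R : Subgroup (F.autGroup Q)) :=
      lt_of_le_of_ne hAR (fun h => hne ⟨R, h.symm⟩)
    have hRnil : Group.IsNilpotent (R : Subgroup (F.autGroup Q)) := R.isPGroup'.isNilpotent
    have hlt' : ((autInducedBy S Q).subgroupOf (F.autGroup Q)).subgroupOf
        (R : Subgroup (F.autGroup Q)) < ⊤ := by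
      rw [lt_top_iff_ne_top]
      intro h
      rw [Subgroup.subgroupOf_eq_top] at h
      exact hlt.not_ge h
    have hnc := Group.normalizerCondition_of_isNilpotent _ hlt'
    obtain ⟨a, haN, haA⟩ := SetLike.exists_of_lt hnc
    have hαF : ((a : F.autGroup Q) : MulAut Q) ∈ F.autGroup Q := (a : F.autGroup Q).2
    have hαS : ((a : F.autGroup Q) : MulAut Q) ∉ autInducedBy S Q := by
      intro h
      apply haA
      rw [Subgroup.mem_subgroupOf, Subgroup.mem_subgroupOf]
      exact h
    have hαnorm : ∀ c ∈ autInducedBy S Q,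
        ((a : F.autGroup Q) : MulAut Q) * c * ((a : F.autGroup Q) : MulAut Q)⁻¹ ∈
          autInducedBy S Q := by
      intro c hc
      have hcF : c ∈ F.autGroup Q := autInducedBy_le_autGroup F hQS hc
      have hcA : (⟨c, hcF⟩ : F.autGroup Q) ∈ (autInducedBy S Q).subgroupOf (F.autGroup Q) :=
        Subgroup.mem_subgroupOf.mpr hc
      have hcR : (⟨c, hcF⟩ : F.autGroup Q) ∈ (R : Subgroup (F.autGroup Q)) := hAR hcA
      have h1 := (Subgroup.mem_normalizer_iff.mp haN ⟨⟨c, hcF⟩, hcR⟩).mp
        (Subgroup.mem_subgroupOf.mpr hcA)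
      rw [Subgroup.mem_subgroupOf, Subgroup.mem_subgroupOf] at h1
      exact h1
    obtain ⟨j, hj⟩ : ∃ j : ℕ, ((a : F.autGroup Q) : MulAut Q) ^ p ^ j = 1 := by
      obtain ⟨j, hj⟩ := R.isPGroup' a
      refine ⟨j, ?_⟩
      have h0 := congrArg (fun x : (R : Subgroup (F.autGroup Q)) => ((x : F.autGroup Q) : MulAut Q)) hj
      simpa using h0
    generalize ((a : F.autGroup Q) : MulAut Q) = α at hαF hαS hαnorm hj
    -- extend `α` to the normalizer
    have hφ : Q.subtype.comp α.toMonoidHom ∈ F.Hom Q := (mem_autGroup_iff' F hQS α).mp hαF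
    have hrange : (Q.subtype.comp α.toMonoidHom).range = Q := by
      ext y
      constructor
      · rintro ⟨x, rfl⟩
        exact (α x).2
      · intro hy
        exact ⟨α⁻¹ ⟨y, hy⟩, by simp⟩
    obtain ⟨ψ, hψ, hψφ⟩ := (hrec Q hQ).2 Q _ hφ hrange
    have hNext : normalizerIn S Q ≤ extender S Q (Q.subtype.comp α.toMonoidHom) := by
      intro g hg
      obtain ⟨hgS, hgN⟩ := Subgroup.mem_inf.mp hg
      rw [mem_extender_iff]
      have h1 := hαnorm (conjAut Q g hgN) (conjAut_mem S Q g hgN hgS)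
      obtain ⟨h, hhS, hh⟩ := (mem_autInducedBy_iff S Q _).mp h1
      refine ⟨hgS, hgN, h, hhS, fun x hx => ?_⟩
      have h2 := hh (α x)
      simp only [MulAut.mul_apply, MulAut.inv_apply_self] at h2
      exact h2
    have hNS : normalizerIn S Q ≤ S := inf_le_left
    have hQN : Q ≤ normalizerIn S Q := le_normalizerIn hQS
    have hfinN : Finite (normalizerIn S Q) := finite_of_le hNS
    have hψ₁ : ψ.comp (Subgroup.inclusion hNext) ∈ F.Hom (normalizerIn S Q) :=
      restrict_mem F hNext hψ
    have hψ₁Q : ∀ x : Q, ψ (Subgroup.inclusion hNext (Subgroup.inclusion hQN x)) =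
        ((α x : Q) : Ω) := fun x => hψφ x x.2 _
    have hψ₁N : ∀ g : normalizerIn S Q,
        (ψ.comp (Subgroup.inclusion hNext)) g ∈ normalizerIn S Q := by
      intro g
      refine Subgroup.mem_inf.mpr ⟨(F.le_of_mem hψ₁).2 g, mem_normalizer_of_conj_mem (fun y hy => ?_)⟩
      have hgx : (g : Ω) * ((α⁻¹ ⟨y, hy⟩ : Q) : Ω) * (g : Ω)⁻¹ ∈ Q :=
        (Subgroup.mem_normalizer_iff.mp (Subgroup.mem_inf.mp g.2).2 _).mp (α⁻¹ ⟨y, hy⟩).2
      have h3 := hψ₁Q ⟨_, hgx⟩
      have h4 : Subgroup.inclusion hNext (Subgroup.inclusion hQN ⟨_, hgx⟩) =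
          Subgroup.inclusion hNext g *
            Subgroup.inclusion hNext (Subgroup.inclusion hQN (α⁻¹ ⟨y, hy⟩)) *
            (Subgroup.inclusion hNext g)⁻¹ := Subtype.ext rfl
      rw [h4, map_mul, map_mul, map_inv, hψ₁Q, MulAut.apply_inv_self] at h3
      show ψ (Subgroup.inclusion hNext g) * y * (ψ (Subgroup.inclusion hNext g))⁻¹ ∈ Q
      rw [h3]
      exact (α ⟨_, hgx⟩).2
    have hinjN : Function.Injective
        (MonoidHom.codRestrict (ψ.comp (Subgroup.inclusion hNext)) (normalizerIn S Q) hψ₁N) := by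
      intro s s' hss
      have h0 := congrArg Subtype.val hss
      exact F.injective_of_mem hψ₁ h0
    obtain ⟨αN, hαN⟩ : ∃ αN : MulAut (normalizerIn S Q), ∀ g : normalizerIn S Q,
        ((αN g : normalizerIn S Q) : Ω) = ψ (Subgroup.inclusion hNext g) :=
      ⟨MulEquiv.ofBijective _ ⟨hinjN, Finite.injective_iff_surjective.mp hinjN⟩, fun g => rfl⟩
    have hαNF : αN ∈ F.autGroup (normalizerIn S Q) := by
      rw [mem_autGroup_iff' F hNS]
      have h1 : (normalizerIn S Q).subtype.comp αN.toMonoidHom =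
          ψ.comp (Subgroup.inclusion hNext) := by
        ext g
        exact hαN g
      rw [h1]
      exact hψ₁
    have hαNQ : ∀ x : Q, αN (Subgroup.inclusion hQN x) = Subgroup.inclusion hQN (α x) := fun x =>
      Subtype.ext (by rw [hαN]; exact hψ₁Q x)
    have hpowQ : ∀ (i : ℕ) (x : Q),
        (αN ^ i) (Subgroup.inclusion hQN x) = Subgroup.inclusion hQN ((α ^ i) x) := by
      intro i
      induction i with
      | zero => intro x; rfl
      | succ i ihi =>
        intro x
        rw [pow_succ, MulAut.mul_apply, pow_succ, MulAut.mul_apply, hαNQ, ihi]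
    -- pass to a `p`-element
    obtain ⟨k, m, hm, hkm⟩ := Nat.exists_eq_pow_mul_and_not_dvd (orderOf_pos αN).ne' p
      (Nat.Prime.one_lt (Fact.out)).ne'
    have hβpow : (αN ^ m) ^ p ^ k = 1 := by
      rw [← pow_mul, mul_comm, ← hkm, pow_orderOf_eq_one]
    have hβF : αN ^ m ∈ F.autGroup (normalizerIn S Q) := Subgroup.pow_mem _ hαNF m
    have hαm : α ^ m ∉ autInducedBy S Q := by
      intro h
      apply hαS
      have hcop : m.Coprime (orderOf α) := by
        have hdvd : orderOf α ∣ p ^ j := orderOf_dvd_of_pow_eq_one hj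
        exact Nat.Coprime.coprime_dvd_right hdvd
          (Nat.Coprime.pow_right j ((Nat.Prime.coprime_iff_not_dvd Fact.out).mpr hm).symm)
      obtain ⟨i, hi⟩ := exists_pow_eq_self_of_coprime hcop
      rw [← hi]
      exact Subgroup.pow_mem _ h i
    -- a fully normalized conjugate of the normalizer
    obtain ⟨N', hconj, hN'fn⟩ := exists_fullyNormalized_conj F hNS
    have hN'S := hN'fn.1
    have hfinN' : Finite N' := finite_of_le hN'S
    obtain ⟨φ₀, hφ₀, hφ₀r⟩ := hconj
    obtain ⟨e, he, -⟩ := exists_isoEquiv F hφ₀ hφ₀r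
    have hcardN : Nat.card N' = Nat.card (normalizerIn S Q) := (Nat.card_congr e.toEquiv).symm
    obtain ⟨g₀, hg₀N, hg₀Q⟩ := exists_mem_normalizerIn_not_mem hS hQS hQS'
    have hcardlt : Nat.card Q < Nat.card (normalizerIn S Q) := by
      by_contra hcon
      have h0 := Subgroup.eq_of_le_of_card_ge hQN (not_lt.mp hcon)
      rw [h0] at hg₀Q
      exact hg₀Q hg₀N
    have hcardle : Nat.card (normalizerIn S Q) ≤ Nat.card S :=
      Nat.card_le_card_of_injective _ (Subgroup.inclusion_injective hNS)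
    have hfaN' : F.IsFullyAutomized p N' :=
      ih (Nat.card S - Nat.card N') (by rw [hcardN, ← hn]; omega) N' rfl hN'fn
    have hβ' : MulAut.congr e (αN ^ m) ∈ F.autGroup N' := he.congr_mem hβF
    have hβ'pow : (MulAut.congr e (αN ^ m)) ^ p ^ k = 1 := by
      rw [← map_pow, hβpow, map_one]
    obtain ⟨a', ha', hconj'⟩ := exists_conj_into_autInducedBy F hfaN'
      (Subgroup.zpowers (MulAut.congr e (αN ^ m))) (isPGroup_zpowers_of_pow_eq_one hβ'pow)
      (by rw [Subgroup.zpowers_le]; exact hβ')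
    have h1 := hconj' _ (Subgroup.mem_zpowers _)
    obtain ⟨g, hgS, hg⟩ := (mem_autInducedBy_iff S N' _).mp h1
    have hψ'F : IsoEquiv F (e.trans (a'⁻¹ : MulAut N')) :=
      he.trans ((mem_autGroup_iff F hN'S _).mp (Subgroup.inv_mem _ ha'))
    have hψ'β : ∀ y : normalizerIn S Q,
        (((e.trans (a'⁻¹ : MulAut N')) ((αN ^ m) y) : N') : Ω) =
          g * (((e.trans (a'⁻¹ : MulAut N')) y : N') : Ω) * g⁻¹ := by
      intro y
      have h2 := hg ((e.trans (a'⁻¹ : MulAut N')) y)
      rw [← h2]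
      simp [MulAut.congr]
    -- the image of `Q`
    have hQ'conj : F.IsConj Q ((Q.subgroupOf (normalizerIn S Q)).map
        (N'.subtype.comp (e.trans (a'⁻¹ : MulAut N')).toMonoidHom)) :=
      ⟨_, restrict_mem F hQN hψ'F.1, range_restrict_eq hQN _⟩
    have hQ'S := isConj_le F hQ'conj
    have hfinQ' : Finite ((Q.subgroupOf (normalizerIn S Q)).map
        (N'.subtype.comp (e.trans (a'⁻¹ : MulAut N')).toMonoidHom)) := finite_of_le hQ'S
    have hN'le : N' ≤ normalizerIn S ((Q.subgroupOf (normalizerIn S Q)).map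
        (N'.subtype.comp (e.trans (a'⁻¹ : MulAut N')).toMonoidHom)) := by
      intro z hz
      refine Subgroup.mem_inf.mpr ⟨hN'S hz, mem_normalizer_of_conj_mem ?_⟩
      rintro _ ⟨x, hx, rfl⟩
      obtain ⟨y, hy⟩ := (e.trans (a'⁻¹ : MulAut N')).surjective ⟨z, hz⟩
      refine ⟨y * x * y⁻¹, ?_, ?_⟩
      · rw [SetLike.mem_coe, Subgroup.mem_subgroupOf] at hx ⊢
        exact (Subgroup.mem_normalizer_iff.mp (Subgroup.mem_inf.mp y.2).2 _).mp hx
      · simp only [MonoidHom.comp_apply, MulEquiv.coe_toMonoidHom, Subgroup.subtype_apply,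
          map_mul, map_inv, hy]
    have hN'eq : N' = normalizerIn S ((Q.subgroupOf (normalizerIn S Q)).map
        (N'.subtype.comp (e.trans (a'⁻¹ : MulAut N')).toMonoidHom)) := by
      have hfin'' : Finite (normalizerIn S ((Q.subgroupOf (normalizerIn S Q)).map
        (N'.subtype.comp (e.trans (a'⁻¹ : MulAut N')).toMonoidHom))) := finite_of_le inf_le_left
      refine Subgroup.eq_of_le_of_card_ge hN'le ?_
      rw [hcardN]
      exact hQ.2 _ hQ'conj
    have hgN' : g ∈ N' := by
      rw [hN'eq]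
      refine Subgroup.mem_inf.mpr ⟨hgS, mem_normalizer_of_conj_mem ?_⟩
      rintro _ ⟨x, hx, rfl⟩
      rw [SetLike.mem_coe, Subgroup.mem_subgroupOf] at hx
      refine ⟨(αN ^ m) x, ?_, ?_⟩
      · rw [SetLike.mem_coe, Subgroup.mem_subgroupOf]
        have h5 := hpowQ m ⟨(x : Ω), hx⟩
        have h6 : Subgroup.inclusion hQN ⟨(x : Ω), hx⟩ = x := Subtype.ext rfl
        rw [h6] at h5
        rw [h5]
        exact ((α ^ m) ⟨(x : Ω), hx⟩).2
      · exact hψ'β x
    obtain ⟨y₀, hy₀⟩ := (e.trans (a'⁻¹ : MulAut N')).surjective ⟨g, hgN'⟩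
    apply hαm
    rw [mem_autInducedBy_iff]
    refine ⟨(y₀ : Ω), hNS y₀.2, fun x => ?_⟩
    have h7 := hψ'β (Subgroup.inclusion hQN x)
    have h8 : (e.trans (a'⁻¹ : MulAut N')) ((αN ^ m) (Subgroup.inclusion hQN x)) =
        (e.trans (a'⁻¹ : MulAut N')) (y₀ * Subgroup.inclusion hQN x * y₀⁻¹) := by
      apply Subtype.ext
      rw [h7, map_mul, map_mul, map_inv, hy₀]
      rfl
    have h9 := (e.trans (a'⁻¹ : MulAut N')).injective h8
    rw [hpowQ] at h9
    have h10 := congrArg (fun z : normalizerIn S Q => (z : Ω)) h9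
    exact h10

/-- **Saturation criterion.** A fusion system over a finite `p`-group `S` is saturated if and only
if `S` is fully automized and every fully normalized subgroup is receptive. -/
theorem isSaturated_iff_fullyAutomized_top_and_receptive [Finite S] {p : ℕ} [Fact p.Prime]
    (hS : IsPGroup p S) (F : FusionSystem S) :
    F.IsSaturated p ↔
      (F.IsFullyAutomized p S ∧ ∀ P : Subgroup Ω, F.IsFullyNormalized P → F.IsReceptive P) := by
  constructor
  · intro hF
    have hSfn : F.IsFullyNormalized S := by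
      refine ⟨le_rfl, fun Q hQ => ?_⟩
      have hle : normalizerIn S Q ≤ normalizerIn S S := inf_le_left.trans (le_normalizerIn le_rfl)
      have hfin : Finite (normalizerIn S S) := finite_of_le inf_le_left
      exact Nat.card_le_card_of_injective _ (Subgroup.inclusion_injective hle)
    exact ⟨(fullyAutomized_receptive_of_fullyNormalized hS F hF hSfn).1, fun P hP =>
      (fullyAutomized_receptive_of_fullyNormalized hS F hF hP).2⟩
  · rintro ⟨hSfa, hrec⟩ P hP
    obtain ⟨Q, hconj, hQ⟩ := exists_fullyNormalized_conj F hP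
    exact ⟨Q, hconj, fullyAutomized_of_fullyNormalized_of_receptive hS F hSfa hrec _ Q rfl hQ,
      hrec Q hQ⟩

end Cfsg.Agent.Lib.helper88
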