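import Cfsg.Agent.Lib.helper84.Def1Defs
import Cfsg.Agent.Lib.helper4.RepEquiv
import Cfsg.Agent.Lib.helper79.GaloisChar

/-!
# S4441 / S0960 piece Y4: Galois-equivariance of characteristic polynomials (helper88)
-/

set_option autoImplicit false

namespace Cfsg.Agent.Lib.helper88

open Cfsg Cfsg.Agent.Lib.helper84

variable {G : Type*} [Group G] [Fintype G]

/-- An equivalence of representations intertwines the actions of the group algebra. -/
theorem d1y4_equiv_asAlgebraHom {V W : Type*} [AddCommGroup V] [Module ℂ V] [AddCommGroup W]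
    [Module ℂ W] (ρ : Representation ℂ G V) (τ : Representation ℂ G W)
    (e : Representation.Equiv ρ τ) (b : MonoidAlgebra ℂ G) :
    τ.asAlgebraHom b = e.toLinearEquiv.conj (ρ.asAlgebraHom b) := by
  induction b using MonoidAlgebra.induction_on with
  | of g =>
    rw [Representation.asAlgebraHom_of, Representation.asAlgebraHom_of]
    apply LinearMap.ext
    intro w
    rw [LinearEquiv.conj_apply_apply]
    have h1 := e.toIntertwiningMap.isIntertwining' g
    have h2 := LinearMap.congr_fun h1 (e.toLinearEquiv.symm w)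
    simp only [LinearMap.comp_apply] at h2
    have h3 : e.toIntertwiningMap.toLinearMap (e.toLinearEquiv.symm w) = w :=
      e.toLinearEquiv.apply_symm_apply w
    rw [h3] at h2
    exact h2.symm
  | add a b ha hb => rw [map_add, map_add, ha, hb, map_add]
  | smul r a ha => rw [map_smul, map_smul, ha, map_smul]

/-- The matrix of the conjugate representation at a rational multiple of an integral element. -/
theorem d1y4_conjRep_matrix (σ : ℂ ≃+* ℂ) (n : ℕ) (ρ : Representation ℂ G (Fin n → ℂ))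
    (u : MonoidAlgebra ℤ G) (c : ℚ) :
    LinearMap.toMatrix' ((Cfsg.Agent.Lib.helper79.conjRep (σ : ℂ →+* ℂ) ρ).asAlgebraHom
        ((c : ℂ) • d1Iota u))
      = (LinearMap.toMatrix' (ρ.asAlgebraHom ((c : ℂ) • d1Iota u))).map (σ : ℂ →+* ℂ) := by
  induction u using MonoidAlgebra.induction_on with
  | of g =>
    have h1 : d1Iota (MonoidAlgebra.of ℤ G g) = MonoidAlgebra.of ℂ G g := by
      unfold d1Iota
      simp [MonoidAlgebra.of_apply]
    have e1 : ∀ τ : Representation ℂ G (Fin n → ℂ),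
        τ.asAlgebraHom ((c : ℂ) • MonoidAlgebra.of ℂ G g) = (c : ℂ) • τ g := by
      intro τ
      rw [map_smul, Representation.asAlgebraHom_of]
    have h2 : (Cfsg.Agent.Lib.helper79.conjRep (σ : ℂ →+* ℂ) ρ) g
        = Matrix.toLin' ((LinearMap.toMatrix' (ρ g)).map (σ : ℂ →+* ℂ)) := rfl
    rw [h1, e1, e1, map_smul, map_smul, h2, LinearMap.toMatrix'_toLin']
    ext i j
    simp [Matrix.map_apply, Matrix.smul_apply]
  | add a b ha hb =>
    rw [map_add, smul_add, map_add, map_add, map_add, map_add, ha, hb]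
    ext i j
    simp [Matrix.map_apply, Matrix.add_apply]
  | smul r a ha =>
    have e1 : ∀ τ : Representation ℂ G (Fin n → ℂ),
        τ.asAlgebraHom ((c : ℂ) • d1Iota (r • a))
          = r • τ.asAlgebraHom ((c : ℂ) • d1Iota a) := by
      intro τ
      rw [map_zsmul, smul_comm, map_zsmul]
    rw [e1, e1, map_zsmul, map_zsmul, ha]
    ext i j
    rw [Matrix.smul_apply, Matrix.map_apply, Matrix.map_apply, Matrix.smul_apply, zsmul_eq_mul,
      zsmul_eq_mul, map_mul, map_intCast]

theorem d1_charpoly_galois (σ : ℂ ≃+* ℂ) (n n' : ℕ)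
    (ρ : Representation ℂ G (Fin n → ℂ)) (hρ : ρ.IsIrreducible)
    (ρ' : Representation ℂ G (Fin n' → ℂ)) (hρ' : ρ'.IsIrreducible)
    (h : ρ'.character = fun g => σ (ρ.character g)) (u : MonoidAlgebra ℤ G) (c : ℚ) :
    LinearMap.charpoly (ρ'.asAlgebraHom ((c : ℂ) • d1Iota u))
      = (LinearMap.charpoly (ρ.asAlgebraHom ((c : ℂ) • d1Iota u))).map (σ : ℂ →+* ℂ) := by
  classical
  have hchar : ρ'.character
      = (Cfsg.Agent.Lib.helper79.conjRep (σ : ℂ →+* ℂ) ρ).character := by
    funext g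
    rw [h, Cfsg.Agent.Lib.helper79.conjRep_character]
    rfl
  obtain ⟨e⟩ := Cfsg.Agent.Lib.helper4.nonempty_equiv_of_character_eq ρ'
    (Cfsg.Agent.Lib.helper79.conjRep (σ : ℂ →+* ℂ) ρ) hchar
  have h1 := d1y4_equiv_asAlgebraHom ρ' (Cfsg.Agent.Lib.helper79.conjRep (σ : ℂ →+* ℂ) ρ) e
    ((c : ℂ) • d1Iota u)
  have h2 : LinearMap.charpoly (ρ'.asAlgebraHom ((c : ℂ) • d1Iota u))
      = LinearMap.charpoly ((Cfsg.Agent.Lib.helper79.conjRep (σ : ℂ →+* ℂ) ρ).asAlgebraHom
          ((c : ℂ) • d1Iota u)) := by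
    rw [h1, LinearEquiv.charpoly_conj]
  rw [h2]
  have h3 := d1y4_conjRep_matrix σ n ρ u c
  have h4 : ∀ f : (Fin n → ℂ) →ₗ[ℂ] (Fin n → ℂ),
      LinearMap.charpoly f = (LinearMap.toMatrix' f).charpoly := by
    intro f
    rw [← Matrix.charpoly_toLin' (LinearMap.toMatrix' f), Matrix.toLin'_toMatrix']
  rw [h4, h4, h3, Matrix.charpoly_map]

end Cfsg.Agent.Lib.helper88
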