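import Cfsg.Agent.Lib.helper88.D1Y5a
import Cfsg.Agent.Lib.helper17.D1C2aCore
import Cfsg.Agent.Lib.helper17.D1C3Core
import Cfsg.Agent.Lib.helper19.D1C1

/-!
# S4441 / S0960 piece Y5: integrality of the characteristic polynomial (helper88)
-/

set_option autoImplicit false

namespace Cfsg.Agent.Lib.helper88

open Cfsg Cfsg.Agent.Lib.helper84

variable {G : Type*} [Group G] [Fintype G]

/-- PIECE Y5 (exact statement of `tools/S4441_Skel2.lean.txt`). -/
theorem d1_charpoly_integral (S : Finset (IrrCharacter G)) (hS : d1GalStable S)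
    (δ : d1L S →ₗ[ℤ] d1L S) (u : MonoidAlgebra ℤ G)
    (hu : ∀ (k : ℕ) (a : d1L S),
      (Fintype.card G : ℤ) ^ k • (((δ ^ k) a : d1L S) : MonoidAlgebra ℤ G)
        = (a : MonoidAlgebra ℤ G) * u ^ k)
    (n : ℕ) (ρ : Representation ℂ G (Fin n → ℂ)) (hρ : ρ.IsIrreducible)
    (hρS : ∃ χ ∈ S, ρ.character = (χ : G → ℂ)) (k : ℕ) :
    IsIntegral ℤ ((LinearMap.charpoly
      (ρ.asAlgebraHom ((((Fintype.card G : ℚ)⁻¹ : ℚ) : ℂ) • d1Iota u))).coeff k) :=
  d1_charpoly_integral_of S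
    (Cfsg.Agent.Lib.helper17.d1E_mem_of S (fun g => Cfsg.Agent.Lib.helper19.d1Eps_cast S hS g))
    δ u hu n ρ
    ((Cfsg.Agent.Lib.helper17.d1_rep_d1E_of S
      (fun g => Cfsg.Agent.Lib.helper19.d1Eps_cast S hS g) n ρ hρ).1 hρS) k

end Cfsg.Agent.Lib.helper88
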