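import Cfsg.Agent.Lib.helper88.Invariant
import Cfsg.Agent.Lib.helper40.PResidual

/-!
Saturated subsystems of `p`-power index over a normal subgroup `T ≥ hyp(F)` are normal subsystems:
strong closure of `T`, transport of a fusion system over `T` by an automorphism of `T`, invariance,
the Frattini condition and the extension condition.
-/

set_option autoImplicit false

namespace Cfsg.Agent.Lib.helper88

open Cfsg Cfsg.FusionSystem

variable {Ω : Type*} [Group Ω] {S : Subgroup Ω}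

/-- For a fully automized `U`: `Aut_F(U) = Aut_S(U) · O^p(Aut_F(U))`. -/
theorem exists_mul_pResidual_of_fullyAutomized [Finite S] {p : ℕ} [Fact p.Prime]
    (F : FusionSystem S) {U : Subgroup Ω} (hfa : F.IsFullyAutomized p U) {α : MulAut U}
    (hα : α ∈ F.autGroup U) :
    ∃ s ∈ autInducedBy S U, ∃ u ∈ (pResidual p (F.autGroup U)).map (F.autGroup U).subtype,
      α = s * u := by
  obtain ⟨hUS, R, hR⟩ := hfa
  haveI : Finite ↥(F.autGroup U) := helper89.finite_autGroup F hUS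
  have hidx : ¬ p ∣ ((autInducedBy S U).subgroupOf (F.autGroup U)).index := by
    rw [← hR]
    exact R.not_dvd_index
  obtain ⟨s, hs, u, hu, hsu⟩ := helper40.exists_mul_pResidual
    ((autInducedBy S U).subgroupOf (F.autGroup U)) hidx ⟨α, hα⟩
  rw [Subgroup.mem_subgroupOf] at hs
  exact ⟨s, hs, u, ⟨u, hu, rfl⟩, congrArg Subtype.val hsu⟩

/-- The defining generators of the hyperfocal subgroup. -/
theorem pResidual_gen_mem (F : FusionSystem S) (p : ℕ) {U : Subgroup Ω} (hUS : U ≤ S)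
    {u : MulAut U} (hu : u ∈ (pResidual p (F.autGroup U)).map (F.autGroup U).subtype) (x : U) :
    (x : Ω)⁻¹ * ((u x : U) : Ω) ∈ F.hyperfocalSubgroup p := by
  obtain ⟨u₀, hu₀, rfl⟩ := hu
  exact Subgroup.subset_closure ⟨U, u₀, x, hUS, hu₀, rfl⟩

/-- `O^p(Aut_F(U))`, viewed in `Aut(U)`, is normalized by `Aut_F(U)`. -/
theorem pResidual_conj_mem (F : FusionSystem S) (p : ℕ) {U : Subgroup Ω} {a u : MulAut U}
    (ha : a ∈ F.autGroup U)
    (hu : u ∈ (pResidual p (F.autGroup U)).map (F.autGroup U).subtype) :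
    a * u * a⁻¹ ∈ (pResidual p (F.autGroup U)).map (F.autGroup U).subtype := by
  obtain ⟨u₀, hu₀, rfl⟩ := hu
  have hn := helper40.pResidual_normal p ↥(F.autGroup U)
  exact ⟨⟨a, ha⟩ * u₀ * ⟨a, ha⟩⁻¹, hn.conj_mem u₀ hu₀ ⟨a, ha⟩, rfl⟩

/-- A subgroup `T` of `S` normal in `S` and containing the hyperfocal subgroup of a saturated
fusion system is strongly closed. -/
theorem stronglyClosed_of_hyperfocal_le [Finite S] {p : ℕ} [Fact p.Prime] (hS : IsPGroup p S)
    (F : FusionSystem S) (hF : F.IsSaturated p) {T : Subgroup Ω} (hTS : T ≤ S)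
    (hTn : ∀ g ∈ S, ∀ t ∈ T, g * t * g⁻¹ ∈ T) (hT : F.hyperfocalSubgroup p ≤ T) :
    F.StronglyClosed T := by
  have hX : ∀ g ∈ S, ∀ x : Ω, x ∈ (T : Set Ω) ↔ g * x * g⁻¹ ∈ (T : Set Ω) := by
    intro g hg x
    refine ⟨fun hx => hTn g hg x hx, fun hx => ?_⟩
    have h1 := hTn g⁻¹ (S.inv_mem hg) _ hx
    have h2 : g⁻¹ * (g * x * g⁻¹) * g⁻¹⁻¹ = x := by group
    rw [h2] at h1
    exact h1
  have key : ∀ P : Subgroup Ω, F.Hom P ⊆
      (helper89.preservingSystem F (T : Set Ω) hX).Hom P := by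
    refine helper89.saturated_induction F _ hS hF ?_
    intro U hfa hrec _ α hα
    have hUS : U ≤ S := hfa.1
    refine ⟨(mem_autGroup_iff' F hUS α).mp hα, fun x => ?_⟩
    obtain ⟨s, hs, u, hu, hsu⟩ := exists_mul_pResidual_of_fullyAutomized F hfa hα
    obtain ⟨g, hg, hgs⟩ := (mem_autInducedBy_iff S U s).mp hs
    have h1 : (x : Ω)⁻¹ * ((u x : U) : Ω) ∈ T := hT (pResidual_gen_mem F p hUS hu x)
    have h2 : (x : Ω) ∈ T ↔ ((u x : U) : Ω) ∈ T := by
      constructor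
      · intro hx
        have h3 : ((u x : U) : Ω) = (x : Ω) * ((x : Ω)⁻¹ * ((u x : U) : Ω)) := by group
        rw [h3]
        exact T.mul_mem hx h1
      · intro hx
        have h3 : (x : Ω) = ((u x : U) : Ω) * ((x : Ω)⁻¹ * ((u x : U) : Ω))⁻¹ := by group
        rw [h3]
        exact T.mul_mem hx (T.inv_mem h1)
    show (x : Ω) ∈ (T : Set Ω) ↔ ((α x : U) : Ω) ∈ (T : Set Ω)
    rw [SetLike.mem_coe, SetLike.mem_coe, h2, hsu, MulAut.mul_apply, hgs]
    exact hX g hg _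
  refine ⟨hTS, ?_⟩
  intro R hR φ hφ x
  exact ((key R hφ).2 x).mp (hR x.2)

/-! ### Transport by an automorphism of `T` -/

/-- The transport of a fusion system `E` over `T` by an automorphism `α` of `T`: a map `φ` belongs
to it iff `α φ α⁻¹` (on `α(P)`) is a map of `E`. -/
def transportAut {T : Subgroup Ω} (E : FusionSystem T) (α : MulAut T) : FusionSystem T where
  Hom P := {φ | ∃ hPT : P ≤ T, (∀ x : P, φ x ∈ T) ∧
    ∃ χ ∈ E.Hom ((P.subgroupOf T).map (T.subtype.comp α.toMonoidHom)),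
      ∀ (x : P) (y : ↥((P.subgroupOf T).map (T.subtype.comp α.toMonoidHom))) (t : T),
        (y : Ω) = ((α ⟨x, hPT x.2⟩ : T) : Ω) → (t : Ω) = φ x → χ y = ((α t : T) : Ω)}
  le_of_mem := fun ⟨hPT, hφT, _⟩ => ⟨hPT, hφT⟩
  injective_of_mem := by
    rintro P φ ⟨hPT, hφT, χ, hχ, hχeq⟩ x x' hxx'
    have hy : ∀ z : P, ((α ⟨z, hPT z.2⟩ : T) : Ω) ∈
        (P.subgroupOf T).map (T.subtype.comp α.toMonoidHom) :=
      fun z => ⟨⟨z, hPT z.2⟩, z.2, rfl⟩
    have h1 := hχeq x ⟨_, hy x⟩ ⟨φ x, hφT x⟩ rfl rfl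
    have h2 := hχeq x' ⟨_, hy x'⟩ ⟨φ x, hφT x⟩ rfl hxx'
    have h3 := E.injective_of_mem hχ (h1.trans h2.symm)
    have h4 := congrArg Subtype.val h3
    have h5 := α.injective (Subtype.ext h4)
    have h6 := congrArg Subtype.val h5
    exact Subtype.ext h6
  conj_mem := by
    intro P g hPT hg
    have hMT : (P.subgroupOf T).map (T.subtype.comp α.toMonoidHom) ≤ T := by
      rintro _ ⟨t, -, rfl⟩
      exact (α t).2
    refine ⟨hPT, fun x => T.mul_mem (T.mul_mem hg (hPT x.2)) (T.inv_mem hg),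
      conjHom _ ((α ⟨g, hg⟩ : T) : Ω), E.conj_mem hMT (α ⟨g, hg⟩).2, ?_⟩
    intro x y t hy ht
    have h1 : t = ⟨g, hg⟩ * ⟨x, hPT x.2⟩ * ⟨g, hg⟩⁻¹ := Subtype.ext ht
    rw [h1, map_mul, map_mul, map_inv]
    show ((α ⟨g, hg⟩ : T) : Ω) * (y : Ω) * ((α ⟨g, hg⟩ : T) : Ω)⁻¹ = _
    rw [hy]
    rfl
  comp_mem := by
    rintro P Q φ ψ ⟨hPT, hφT, χ, hχ, hχeq⟩ ⟨hQT, hψT, χ', hχ', hχ'eq⟩ h
    have h' : ∀ y : ↥((P.subgroupOf T).map (T.subtype.comp α.toMonoidHom)),
        χ y ∈ (Q.subgroupOf T).map (T.subtype.comp α.toMonoidHom) := by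
      rintro ⟨_, t, ht, rfl⟩
      have h1 := hχeq ⟨t, ht⟩ ⟨_, ⟨t, ht, rfl⟩⟩ ⟨φ ⟨t, ht⟩, hφT _⟩ rfl rfl
      rw [h1]
      exact ⟨⟨φ ⟨t, ht⟩, hφT _⟩, h _, rfl⟩
    refine ⟨hPT, fun x => hψT _, _, E.comp_mem hχ hχ' h', ?_⟩
    intro x y t hy ht
    have h1 := hχeq x y ⟨φ x, hφT x⟩ hy rfl
    exact hχ'eq ⟨φ x, h x⟩ ⟨χ y, h' y⟩ t h1 ht
  inv_mem := by
    rintro P φ ⟨hPT, hφT, χ, hχ, hχeq⟩
    have hy : ∀ z : P, ((α ⟨z, hPT z.2⟩ : T) : Ω) ∈
        (P.subgroupOf T).map (T.subtype.comp α.toMonoidHom) :=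
      fun z => ⟨⟨z, hPT z.2⟩, z.2, rfl⟩
    have hχα : ∀ z : P, χ ⟨_, hy z⟩ = ((α ⟨φ z, hφT z⟩ : T) : Ω) :=
      fun z => hχeq z ⟨_, hy z⟩ ⟨φ z, hφT z⟩ rfl rfl
    have hinj : Function.Injective φ := by
      intro x x' hxx'
      have h1 := hχα x
      have h2 := hχeq x' ⟨_, hy x'⟩ ⟨φ x, hφT x⟩ rfl hxx'
      have h3 := E.injective_of_mem hχ (h1.trans h2.symm)
      have h4 := congrArg Subtype.val h3
      have h5 := α.injective (Subtype.ext h4)
      have h6 := congrArg Subtype.val h5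
      exact Subtype.ext h6
    have hrT : φ.range ≤ T := by
      rintro _ ⟨x, rfl⟩
      exact hφT x
    have hψx : ∀ x : P, (P.subtype.comp (MonoidHom.ofInjective hinj).symm.toMonoidHom)
        ⟨φ x, ⟨x, rfl⟩⟩ = (x : Ω) := by
      intro x
      have h1 : (MonoidHom.ofInjective hinj).symm ⟨φ x, ⟨x, rfl⟩⟩ = x :=
        (MonoidHom.ofInjective hinj).symm_apply_apply x
      simp only [MonoidHom.comp_apply, MulEquiv.coe_toMonoidHom, Subgroup.subtype_apply]
      rw [h1]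
    refine ⟨P.subtype.comp (MonoidHom.ofInjective hinj).symm.toMonoidHom, ?_, hψx⟩
    obtain ⟨ρ, hρ, hρeq⟩ := E.inv_mem hχ
    have hM : (φ.range.subgroupOf T).map (T.subtype.comp α.toMonoidHom) = χ.range := by
      ext y
      constructor
      · rintro ⟨t, ⟨x, hx⟩, rfl⟩
        refine ⟨⟨_, hy x⟩, ?_⟩
        rw [hχα x]
        show ((α ⟨φ x, hφT x⟩ : T) : Ω) = ((α t : T) : Ω)
        congr 2
        exact Subtype.ext hx
      · rintro ⟨⟨_, t, ht, rfl⟩, rfl⟩
        have h1 := hχα ⟨t, ht⟩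
        refine ⟨⟨φ ⟨t, ht⟩, hφT _⟩, ⟨⟨t, ht⟩, rfl⟩, ?_⟩
        exact h1.symm
    refine ⟨hrT, fun y => hPT (Subtype.property _), ρ.comp (Subgroup.inclusion hM.le),
      cast_mem E hM hρ, ?_⟩
    rintro ⟨_, x, rfl⟩ y t hyy ht
    have h1 := hρeq ⟨_, hy x⟩
    have h2 : (Subgroup.inclusion hM.le y : χ.range) = ⟨χ ⟨_, hy x⟩, ⟨_, rfl⟩⟩ := by
      apply Subtype.ext
      show (y : Ω) = χ ⟨_, hy x⟩
      rw [hyy, hχα x]
    rw [MonoidHom.comp_apply, h2, h1]
    have h3 : t = ⟨x, hPT x.2⟩ := Subtype.ext (ht.trans (hψx x))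
    rw [h3]

/-- `O^p` of the automorphism groups is transported by isomorphisms of the system. -/
theorem IsoEquiv.congr_mem_pResidual {F : FusionSystem S} (p : ℕ) {P Q : Subgroup Ω} {e : P ≃* Q}
    (he : IsoEquiv F e) {γ : MulAut P}
    (hγ : γ ∈ (pResidual p (F.autGroup P)).map (F.autGroup P).subtype) :
    MulAut.congr e γ ∈ (pResidual p (F.autGroup Q)).map (F.autGroup Q).subtype := by
  obtain ⟨γ₀, hγ₀, rfl⟩ := hγ
  have h1 := pResidual_map_le p (((MulAut.congr e).toMonoidHom.comp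
    (F.autGroup P).subtype).codRestrict (F.autGroup Q) (fun a => he.congr_mem a.2)) ⟨γ₀, hγ₀, rfl⟩
  exact ⟨_, h1, rfl⟩

/-- A saturated subsystem `E` over `T` of a fusion system `F`, with `Aut_E(P) ≥ O^p(Aut_F(P))`
for all `P ≤ T`, is invariant under `Aut_F(T)`. -/
theorem autInvariant_of_pPowerIndex {T : Subgroup Ω} [Finite T] {p : ℕ} [Fact p.Prime]
    (hTp : IsPGroup p T) (F : FusionSystem S) (E : FusionSystem T) (hEs : E.IsSaturated p)
    (hE : E.IsSubsystemOf F) (hTS : T ≤ S)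
    (hidx : ∀ P : Subgroup Ω, P ≤ T →
      (pResidual p (F.autGroup P)).map (F.autGroup P).subtype ≤ E.autGroup P) :
    AutInvariant E F := by
  intro P hPT φ hφ α hα
  have hsub : E.IsSubsystemOf (transportAut E α) := by
    refine subsystem_of_pResidual_le hTp le_rfl E hEs (transportAut E α) ?_
    intro R hRT γ hγ
    have hγF := pResidual_autGroup_le_of_subsystem hE p R hγ
    have hαF := (mem_autGroup_iff' F hTS α).mp hα
    have hαR := restrict_mem F hRT hαF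
    obtain ⟨e, he, heq⟩ := exists_isoEquiv F hαR (range_restrict_eq hRT _)
    have hMT : (R.subgroupOf T).map (T.subtype.comp α.toMonoidHom) ≤ T := by
      rintro _ ⟨t, -, rfl⟩
      exact (α t).2
    have hγ' := hidx _ hMT (he.congr_mem_pResidual p hγF)
    have hγ'E := (mem_autGroup_iff' E hMT _).mp hγ'
    rw [mem_autGroup_iff' (transportAut E α) hRT]
    refine ⟨hRT, fun x => hRT (γ x).2, _, hγ'E, ?_⟩
    intro x y t hy ht
    have h1 : y = e x := Subtype.ext (hy.trans (heq x).symm)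
    have h2 : t = ⟨γ x, hRT (γ x).2⟩ := Subtype.ext ht
    rw [h1, h2]
    have h3 : (MulAut.congr e γ) (e x) = e (γ x) := by
      show e (γ (e.symm (e x))) = e (γ x)
      rw [MulEquiv.symm_apply_apply]
    simp only [MonoidHom.comp_apply, MulEquiv.coe_toMonoidHom, Subgroup.subtype_apply]
    rw [h3]
    exact heq (γ x)
  obtain ⟨_, _, χ, hχ, hχeq⟩ := hsub P hφ
  exact ⟨χ, hχ, fun x hφx hαx => hχeq x ⟨_, hαx⟩ ⟨φ x, hφx⟩ rfl rfl⟩

/-- The Frattini condition for a subsystem over a strongly closed `T` with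
`Aut_E(P) ≥ O^p(Aut_F(P))` for all `P ≤ T`. -/
theorem frattini_of_pPowerIndex [Finite S] {p : ℕ} [Fact p.Prime] (hS : IsPGroup p S)
    (F : FusionSystem S) (hF : F.IsSaturated p) {T : Subgroup Ω} (hT : F.StronglyClosed T)
    (E : FusionSystem T) (hE : E.IsSubsystemOf F) (hinv : AutInvariant E F)
    (hidx : ∀ P : Subgroup Ω, P ≤ T →
      (pResidual p (F.autGroup P)).map (F.autGroup P).subtype ≤ E.autGroup P) :
    ∀ (P : Subgroup Ω), P ≤ T → ∀ (φ : P →* Ω), φ ∈ F.Hom P →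
      ∃ α ∈ F.autGroup T, ∃ φ₀ ∈ E.Hom P,
        ∀ (x : P) (hx : φ₀ x ∈ T), φ x = ((α ⟨φ₀ x, hx⟩ : T) : Ω) := by
  refine frattini_of_normal_family hS F hF hT E hE hinv ?_
  intro R hRT hRfn
  have hRS := hRT.trans hT.1
  obtain ⟨hfa, -⟩ := fullyAutomized_receptive_of_fullyNormalized hS F hF hRfn
  refine ⟨(pResidual p (F.autGroup R)).map (F.autGroup R).subtype ⊔ autInducedBy T R,
    sup_le (hidx R hRT) (autInducedBy_le_autGroup E hRT), le_sup_right, ?_⟩
  intro a ha k hk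
  have hmap : ((pResidual p (F.autGroup R)).map (F.autGroup R).subtype ⊔ autInducedBy T R).map
      (MulAut.conj a).toMonoidHom ≤
      (pResidual p (F.autGroup R)).map (F.autGroup R).subtype ⊔ autInducedBy T R := by
    rw [Subgroup.map_sup]
    refine sup_le ?_ ?_
    · rintro _ ⟨u, hu, rfl⟩
      exact Subgroup.mem_sup_left (pResidual_conj_mem F p ha hu)
    · rintro _ ⟨c, hc, rfl⟩
      obtain ⟨s, hs, u, hu, hsu⟩ := exists_mul_pResidual_of_fullyAutomized F hfa (inv_mem ha)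
      have ha' : a = u⁻¹ * s⁻¹ := by
        rw [← mul_inv_rev, ← hsu, inv_inv]
      have hc' : s⁻¹ * c * s ∈ autInducedBy T R := by
        obtain ⟨g, hg, hgs⟩ := (mem_autInducedBy_iff S R s).mp hs
        obtain ⟨t, ht, htc⟩ := (mem_autInducedBy_iff T R c).mp hc
        rw [mem_autInducedBy_iff]
        refine ⟨g⁻¹ * t * g, ?_, ?_⟩
        · have h1 := helper89.conj_mem_of_stronglyClosed F hT (S.inv_mem hg) ht
          simpa using h1
        · intro x
          have hsinv : ∀ y : R, ((s⁻¹ y : R) : Ω) = g⁻¹ * y * g := by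
            intro y
            have h1 := hgs (s⁻¹ y)
            rw [MulAut.apply_inv_self] at h1
            rw [h1]
            group
          rw [MulAut.mul_apply, MulAut.mul_apply, hsinv, htc, hgs]
          group
      have hc'F : s⁻¹ * c * s ∈ F.autGroup R :=
        autInducedBy_le_autGroup F hRS (autInducedBy_mono hT.1 R hc')
      have h1 : (MulAut.conj a).toMonoidHom c =
          (u⁻¹ * ((s⁻¹ * c * s) * u * (s⁻¹ * c * s)⁻¹)) * (s⁻¹ * c * s) := by
        show a * c * a⁻¹ = _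
        rw [ha']
        group
      rw [h1]
      exact mul_mem (Subgroup.mem_sup_left (mul_mem (inv_mem hu) (pResidual_conj_mem F p hc'F hu)))
        (Subgroup.mem_sup_right hc')
  exact hmap ⟨k, hk, rfl⟩

/-! ### The extension condition -/

/-- The extension condition for an automorphism `α` of `T`: it extends to an `F`-automorphism
`β` of `T C_S(T)` with `[β, C_S(T)] ≤ Z(T)`. -/
def ExtCond (F : FusionSystem S) (T : Subgroup Ω) (α : MulAut T) : Prop :=
  ∃ β ∈ F.autGroup (T ⊔ centralizerIn S T),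
    (∀ x : T, ((β (Subgroup.inclusion le_sup_left x) : ↥(T ⊔ centralizerIn S T)) : Ω)
      = ((α x : T) : Ω)) ∧
    ∀ c : ↥(T ⊔ centralizerIn S T), (c : Ω) ∈ centralizerIn S T →
      (c : Ω)⁻¹ * ((β c : ↥(T ⊔ centralizerIn S T)) : Ω) ∈ T ⊓ Subgroup.centralizer (T : Set Ω)

theorem extCond_one (F : FusionSystem S) (T : Subgroup Ω) : ExtCond F T 1 := by
  refine ⟨1, one_mem _, fun x => rfl, fun c _ => ?_⟩
  simp

theorem extCond_mul {F : FusionSystem S} {T : Subgroup Ω} {α₁ α₂ : MulAut T}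
    (h₁ : ExtCond F T α₁) (h₂ : ExtCond F T α₂) : ExtCond F T (α₁ * α₂) := by
  obtain ⟨β₁, hβ₁, hext₁, hc₁⟩ := h₁
  obtain ⟨β₂, hβ₂, hext₂, hc₂⟩ := h₂
  refine ⟨β₁ * β₂, mul_mem hβ₁ hβ₂, ?_, ?_⟩
  · intro x
    have h1 : β₂ (Subgroup.inclusion le_sup_left x) = Subgroup.inclusion le_sup_left (α₂ x) :=
      Subtype.ext (hext₂ x)
    rw [MulAut.mul_apply, h1, hext₁]
    rfl
  · intro c hc
    have hz₂ := hc₂ c hc
    obtain ⟨z, hz⟩ : ∃ z : T, (z : Ω) = (c : Ω)⁻¹ * ((β₂ c : ↥(T ⊔ centralizerIn S T)) : Ω) :=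
      ⟨⟨_, hz₂.1⟩, rfl⟩
    have hzc : (z : Ω) ∈ Subgroup.centralizer (T : Set Ω) := by
      rw [hz]
      exact hz₂.2
    have h1 : β₂ c = c * Subgroup.inclusion le_sup_left z := by
      apply Subtype.ext
      show _ = (c : Ω) * (z : Ω)
      rw [hz]
      group
    have h2 : (((β₁ * β₂) c : ↥(T ⊔ centralizerIn S T)) : Ω) =
        ((β₁ c : ↥(T ⊔ centralizerIn S T)) : Ω) * ((α₁ z : T) : Ω) := by
      rw [MulAut.mul_apply, h1, map_mul, Subgroup.coe_mul, hext₁]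
    rw [h2, ← mul_assoc]
    refine mul_mem (hc₁ c hc) (Subgroup.mem_inf.mpr ⟨(α₁ z).2, ?_⟩)
    rw [Subgroup.mem_centralizer_iff]
    intro t ht
    have h5 : (α₁⁻¹ ⟨t, ht⟩) * z = z * (α₁⁻¹ ⟨t, ht⟩) := by
      apply Subtype.ext
      exact Subgroup.mem_centralizer_iff.mp hzc _ (α₁⁻¹ ⟨t, ht⟩).2
    have h6 := congrArg (fun w => ((α₁ w : T) : Ω)) h5
    simp only [map_mul, Subgroup.coe_mul, MulAut.apply_inv_self] at h6
    exact h6

theorem extCond_pow {F : FusionSystem S} {T : Subgroup Ω} {α : MulAut T}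
    (h : ExtCond F T α) (n : ℕ) : ExtCond F T (α ^ n) := by
  induction n with
  | zero => rw [pow_zero]; exact extCond_one F T
  | succ n ih => rw [pow_succ]; exact extCond_mul ih h

theorem extCond_conj (F : FusionSystem S) {T : Subgroup Ω} (hTS : T ≤ S) {t : Ω} (ht : t ∈ T)
    {α : MulAut T} (hα : ∀ x : T, ((α x : T) : Ω) = t * x * t⁻¹) : ExtCond F T α := by
  have hNS : T ⊔ centralizerIn S T ≤ S := sup_le hTS inf_le_left
  have htN : t ∈ Subgroup.normalizer ((T ⊔ centralizerIn S T : Subgroup Ω) : Set Ω) :=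
    Subgroup.le_normalizer (Subgroup.mem_sup_left ht)
  refine ⟨conjAut _ t htN, autInducedBy_le_autGroup F hNS (conjAut_mem S _ t htN (hTS ht)), ?_, ?_⟩
  · intro x
    rw [hα x]
    rfl
  · intro c hc
    have hc2 : (c : Ω) ∈ Subgroup.centralizer (T : Set Ω) := hc.2
    have h1 : t * (c : Ω) = (c : Ω) * t := Subgroup.mem_centralizer_iff.mp hc2 t ht
    have h2 : (c : Ω)⁻¹ * ((conjAut _ t htN c : ↥(T ⊔ centralizerIn S T)) : Ω) = 1 := by
      show (c : Ω)⁻¹ * (t * (c : Ω) * t⁻¹) = 1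
      rw [h1]
      group
    rw [h2]
    exact one_mem _

/-- An `F`-automorphism of a strongly closed `T ≥ hyp(F)` of order prime to `p` satisfies the
extension condition. -/
theorem extCond_of_coprime [Finite S] {p : ℕ} [Fact p.Prime] (hS : IsPGroup p S)
    (F : FusionSystem S) (hF : F.IsSaturated p) {T : Subgroup Ω} (hT : F.StronglyClosed T)
    (hhyp : F.hyperfocalSubgroup p ≤ T) {α : MulAut T} (hα : α ∈ F.autGroup T)
    (hcop : (orderOf α).Coprime p) : ExtCond F T α := by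
  have hTS := hT.1
  have hNS : T ⊔ centralizerIn S T ≤ S := sup_le hTS inf_le_left
  have hfinN : Finite ↥(T ⊔ centralizerIn S T) := finite_of_le hNS
  obtain ⟨-, hrec⟩ := fullyAutomized_receptive_of_fullyNormalized hS F hF
    (fullyNormalized_of_stronglyClosed F hT)
  have hαF := (mem_autGroup_iff' F hTS α).mp hα
  have hrange : (T.subtype.comp α.toMonoidHom).range = T := by
    ext y
    constructor
    · rintro ⟨x, rfl⟩
      exact (α x).2
    · intro hy
      exact ⟨α⁻¹ ⟨y, hy⟩, by simp⟩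
  obtain ⟨ψ, hψ, hψeq⟩ := hrec.2 T _ hαF hrange
  have hNext : T ⊔ centralizerIn S T ≤ extender S T (T.subtype.comp α.toMonoidHom) := by
    refine sup_le (le_extender F hαF) ?_
    intro g hg
    have hg2 : g ∈ Subgroup.centralizer (T : Set Ω) := hg.2
    rw [mem_extender_iff]
    refine ⟨hg.1, Subgroup.centralizer_le_normalizer _ hg2, 1, S.one_mem, ?_⟩
    intro x hx
    have h1 : (⟨g * x * g⁻¹, hx⟩ : T) = x := by
      apply Subtype.ext
      have h2 : (x : Ω) * g = g * x := Subgroup.mem_centralizer_iff.mp hg2 x x.2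
      show g * x * g⁻¹ = x
      rw [← h2]
      group
    rw [h1]
    simp
  have hβ₀ := restrict_mem F hNext hψ
  have hβ₀T : ∀ x : T, (ψ.comp (Subgroup.inclusion hNext)) (Subgroup.inclusion le_sup_left x)
      = ((α x : T) : Ω) := by
    intro x
    exact hψeq x x.2 _
  have hcent : ∀ r : ↥(T ⊔ centralizerIn S T), (r : Ω) ∈ centralizerIn S T →
      (ψ.comp (Subgroup.inclusion hNext)) r ∈ centralizerIn S T := by
    intro r hr
    have hr2 : (r : Ω) ∈ Subgroup.centralizer (T : Set Ω) := hr.2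
    show _ ∈ S ⊓ Subgroup.centralizer (T : Set Ω)
    refine Subgroup.mem_inf.mpr ⟨(F.le_of_mem hβ₀).2 r, ?_⟩
    rw [Subgroup.mem_centralizer_iff]
    intro t ht
    have h3 : Subgroup.inclusion le_sup_left (α⁻¹ ⟨t, ht⟩) * r
        = r * Subgroup.inclusion le_sup_left (α⁻¹ ⟨t, ht⟩) := by
      apply Subtype.ext
      exact Subgroup.mem_centralizer_iff.mp hr2 _ (α⁻¹ ⟨t, ht⟩).2
    have h4 := congrArg (ψ.comp (Subgroup.inclusion hNext)) h3
    rw [map_mul, map_mul, hβ₀T] at h4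
    simpa using h4
  have hβ₀N : ∀ y : ↥(T ⊔ centralizerIn S T),
      (ψ.comp (Subgroup.inclusion hNext)) y ∈ T ⊔ centralizerIn S T := by
    have hle : T ⊔ centralizerIn S T ≤
        ((T ⊔ centralizerIn S T).comap (ψ.comp (Subgroup.inclusion hNext))).map
          (T ⊔ centralizerIn S T).subtype := by
      refine sup_le ?_ ?_
      · intro t ht
        refine ⟨Subgroup.inclusion le_sup_left ⟨t, ht⟩, ?_, rfl⟩
        rw [SetLike.mem_coe, Subgroup.mem_comap, hβ₀T]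
        exact Subgroup.mem_sup_left (α ⟨t, ht⟩).2
      · intro c hc
        refine ⟨⟨c, Subgroup.mem_sup_right hc⟩, ?_, rfl⟩
        rw [SetLike.mem_coe, Subgroup.mem_comap]
        exact Subgroup.mem_sup_right (hcent _ hc)
    intro y
    obtain ⟨y', hy', hyy'⟩ := hle y.2
    have h1 : y' = y := Subtype.ext hyy'
    rw [← h1]
    exact hy'
  obtain ⟨β₁, hβ₁eq⟩ := helper89.exists_aut_of_mem F hβ₀ hβ₀N
  have hβ₁F : β₁ ∈ F.autGroup (T ⊔ centralizerIn S T) := by
    rw [mem_autGroup_iff' F hNS]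
    have h1 : (T ⊔ centralizerIn S T).subtype.comp β₁.toMonoidHom
        = ψ.comp (Subgroup.inclusion hNext) := by
      ext x
      exact hβ₁eq x
    rw [h1]
    exact hβ₀
  have hext₁ : ∀ x : T, ((β₁ (Subgroup.inclusion le_sup_left x) : ↥(T ⊔ centralizerIn S T)) : Ω)
      = ((α x : T) : Ω) := fun x => (hβ₁eq _).trans (hβ₀T x)
  have hpow : ∀ (j : ℕ) (x : T),
      (((β₁ ^ j) (Subgroup.inclusion le_sup_left x) : ↥(T ⊔ centralizerIn S T)) : Ω)
        = (((α ^ j) x : T) : Ω) := by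
    intro j
    induction j with
    | zero => intro x; simp
    | succ j ih =>
      intro x
      have h1 : β₁ (Subgroup.inclusion le_sup_left x) = Subgroup.inclusion le_sup_left (α x) :=
        Subtype.ext (hext₁ x)
      rw [pow_succ, pow_succ, MulAut.mul_apply, MulAut.mul_apply, h1, ih]
  obtain ⟨k, m₀, hm₀, hkm⟩ := Nat.exists_eq_pow_mul_and_not_dvd (orderOf_pos β₁).ne' p
    (Nat.Prime.one_lt Fact.out).ne'
  obtain ⟨m, hm⟩ := exists_pow_eq_self_of_coprime (x := α) (n := p ^ k)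
    (Nat.Coprime.pow_left k hcop.symm)
  have hβF : (β₁ ^ p ^ k) ^ m ∈ F.autGroup (T ⊔ centralizerIn S T) :=
    pow_mem (pow_mem hβ₁F _) _
  have hβext : ∀ x : T,
      ((((β₁ ^ p ^ k) ^ m) (Subgroup.inclusion le_sup_left x) : ↥(T ⊔ centralizerIn S T)) : Ω)
        = ((α x : T) : Ω) := by
    intro x
    rw [← pow_mul, hpow, pow_mul, hm]
  have hβcop : (orderOf ((β₁ ^ p ^ k) ^ m)).Coprime p := by
    have h1 : orderOf (β₁ ^ p ^ k) ∣ m₀ := by
      apply orderOf_dvd_of_pow_eq_one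
      rw [← pow_mul, ← hkm]
      exact pow_orderOf_eq_one β₁
    have h2 : orderOf ((β₁ ^ p ^ k) ^ m) ∣ orderOf (β₁ ^ p ^ k) := orderOf_pow_dvd m
    exact Nat.Coprime.coprime_dvd_left (h2.trans h1)
      ((Nat.Prime.coprime_iff_not_dvd Fact.out).mpr hm₀).symm
  refine ⟨(β₁ ^ p ^ k) ^ m, hβF, hβext, ?_⟩
  intro c hc
  have hmem : (⟨(β₁ ^ p ^ k) ^ m, hβF⟩ : F.autGroup (T ⊔ centralizerIn S T)) ∈
      pResidual p (F.autGroup (T ⊔ centralizerIn S T)) := by
    apply Subgroup.subset_closure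
    show (orderOf (⟨(β₁ ^ p ^ k) ^ m, hβF⟩ : F.autGroup (T ⊔ centralizerIn S T))).Coprime p
    rw [← Subgroup.orderOf_coe]
    exact hβcop
  have h1 : (c : Ω)⁻¹ * ((((β₁ ^ p ^ k) ^ m) c : ↥(T ⊔ centralizerIn S T)) : Ω) ∈
      F.hyperfocalSubgroup p :=
    Subgroup.subset_closure ⟨_, ⟨(β₁ ^ p ^ k) ^ m, hβF⟩, c, hNS, hmem, rfl⟩
  have hc2 : (c : Ω) ∈ Subgroup.centralizer (T : Set Ω) := hc.2
  refine Subgroup.mem_inf.mpr ⟨hhyp h1, ?_⟩
  refine mul_mem (inv_mem hc2) ?_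
  rw [Subgroup.mem_centralizer_iff]
  intro t ht
  have h2 : ((((β₁ ^ p ^ k) ^ m) (Subgroup.inclusion le_sup_left (α⁻¹ ⟨t, ht⟩)) :
      ↥(T ⊔ centralizerIn S T)) : Ω) = t := by
    rw [hβext]
    simp
  have h3 : Subgroup.inclusion le_sup_left (α⁻¹ ⟨t, ht⟩) * c
      = c * Subgroup.inclusion le_sup_left (α⁻¹ ⟨t, ht⟩) := by
    apply Subtype.ext
    exact Subgroup.mem_centralizer_iff.mp hc2 _ (α⁻¹ ⟨t, ht⟩).2
  have h4 := congrArg (fun w => ((((β₁ ^ p ^ k) ^ m) w : ↥(T ⊔ centralizerIn S T)) : Ω)) h3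
  simp only [map_mul, Subgroup.coe_mul, h2] at h4
  exact h4

/-- The extension condition for a saturated subsystem over a strongly closed `T ≥ hyp(F)`. -/
theorem extension_of_saturated [Finite S] {p : ℕ} [Fact p.Prime] (hS : IsPGroup p S)
    (F : FusionSystem S) (hF : F.IsSaturated p) {T : Subgroup Ω} (hT : F.StronglyClosed T)
    (hhyp : F.hyperfocalSubgroup p ≤ T) (E : FusionSystem T) (hEs : E.IsSaturated p)
    (hE : E.IsSubsystemOf F) : ∀ α ∈ E.autGroup T, ExtCond F T α := by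
  intro α hα
  have hTS := hT.1
  have hfinT : Finite T := finite_of_le hTS
  have hfaT : E.IsFullyAutomized p T := by
    obtain ⟨Q, hconj, hfa, -⟩ := hEs T le_rfl
    have hQT : Q ≤ T := isConj_le E hconj
    have hQeq : Q = T := Subgroup.eq_of_le_of_card_ge hQT (isConj_card E hconj).le
    rw [hQeq] at hfa
    exact hfa
  obtain ⟨s, hs, u, hu, hsu⟩ := exists_mul_pResidual_of_fullyAutomized E hfaT hα
  rw [hsu]
  refine extCond_mul ?_ ?_
  · obtain ⟨t, ht, hts⟩ := (mem_autInducedBy_iff T T s).mp hs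
    exact extCond_conj F hTS ht hts
  · obtain ⟨u₀, hu₀, rfl⟩ := hu
    refine Subgroup.closure_induction
      (p := fun (v : E.autGroup T) _ => ExtCond F T (v : MulAut T)) ?_ ?_ ?_ ?_ hu₀
    · intro v hv
      refine extCond_of_coprime hS F hF hT hhyp (autGroup_le_of_subsystem hE T v.2) ?_
      rw [Subgroup.orderOf_coe]
      exact hv
    · exact extCond_one F T
    · intro v w _ _ hv hw
      exact extCond_mul hv hw
    · intro v _ hv
      have h1 : ((v⁻¹ : E.autGroup T) : MulAut T)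
          = (v : MulAut T) ^ (orderOf (v : MulAut T) - 1) := by
        rw [Subgroup.coe_inv]
        apply inv_eq_of_mul_eq_one_right
        rw [← pow_succ', Nat.sub_add_cancel (orderOf_pos _), pow_orderOf_eq_one]
      show ExtCond F T ((v⁻¹ : E.autGroup T) : MulAut T)
      rw [h1]
      exact extCond_pow hv _

end Cfsg.Agent.Lib.helper88
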