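import Cfsg.Agent.Lib.helper88.PQ4

/-!
Two normal subsystems `E`, `D'` of `F` over the same subgroup `T`: the elements of `p`-power order of
the `E`-automizers are maps of `D'`, and an `E`-automorphism of `T` whose restriction to an
`E`-centric subgroup is a map of `D'` is itself a map of `D'`.  Hence the `p'`-residual subsystem
of `E` lies in `D'`.
-/

set_option autoImplicit false

namespace Cfsg.Agent.Lib.helper88

open Cfsg Cfsg.FusionSystem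

variable {Ω : Type*} [Group Ω] {S : Subgroup Ω}

/-- The system `A ∘ E`: the maps of `F` between subgroups of `T` that are a map of `E` followed by
an element of the subgroup `A` of `Aut_F(T)`. -/
def frattiniSystemOn {T : Subgroup Ω} (E : FusionSystem T) (F : FusionSystem S)
    (hE : E.IsSubsystemOf F) (hT : F.StronglyClosed T) (hinv : AutInvariant E F)
    (A : Subgroup (MulAut T)) (hA : A ≤ F.autGroup T) : FusionSystem T where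
  Hom P := {φ | φ ∈ F.Hom P ∧ P ≤ T ∧ ∃ α ∈ A, ∃ φ₀ ∈ E.Hom P,
    ∀ (x : P) (t : T), (t : Ω) = φ₀ x → φ x = ((α t : T) : Ω)}
  le_of_mem := fun ⟨hφ, hPT, _⟩ => ⟨hPT, fun x => hT.2 _ hPT _ hφ x⟩
  injective_of_mem := fun h => F.injective_of_mem h.1
  conj_mem := by
    intro P g hPT hg
    refine ⟨F.conj_mem (hPT.trans hT.1) (hT.1 hg), hPT, 1, one_mem _, conjHom P g,
      E.conj_mem hPT hg, ?_⟩
    intro x t ht
    rw [← ht]
    rfl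
  comp_mem := by
    rintro P Q φ ψ ⟨hφ, hPT, α, hα, φ₀, hφ₀, hφeq⟩ ⟨hψ, hQT, β, hβ, ψ₀, hψ₀, hψeq⟩ h
    refine ⟨F.comp_mem hφ hψ h, hPT, β * α, mul_mem hβ hα, ?_⟩
    have hrQ : φ.range ≤ Q := by
      rintro _ ⟨x, rfl⟩
      exact h x
    have hψ₀r := restrict_mem E hrQ hψ₀
    have hφ₀T : ∀ x : P, φ₀ x ∈ T := fun x => (E.le_of_mem hφ₀).2 x
    have hψ₀T : ∀ x : Q, ψ₀ x ∈ T := fun x => (E.le_of_mem hψ₀).2 x
    have hφα : ∀ x : P, φ x = ((α ⟨φ₀ x, hφ₀T x⟩ : T) : Ω) := fun x => hφeq x _ rfl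
    have hαinv : ∀ x : P, α⁻¹ ⟨φ x, hQT (h x)⟩ = ⟨φ₀ x, hφ₀T x⟩ := by
      intro x
      have h1 : (⟨φ x, hQT (h x)⟩ : T) = α ⟨φ₀ x, hφ₀T x⟩ := Subtype.ext (hφα x)
      rw [h1, MulAut.inv_apply_self]
    obtain ⟨χ, hχ, hχeq⟩ := hinv.exists' (P := φ.range) (hrQ.trans hQT) hψ₀r (hA (inv_mem hα))
      φ₀.range (by
        intro y
        constructor
        · rintro ⟨x, rfl⟩
          exact ⟨⟨φ x, ⟨x, rfl⟩⟩, congrArg Subtype.val (hαinv x)⟩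
        · rintro ⟨⟨_, x, rfl⟩, rfl⟩
          exact ⟨x, (congrArg Subtype.val (hαinv x)).symm⟩)
    have hcomp := E.comp_mem hφ₀ hχ (fun x => ⟨x, rfl⟩)
    refine ⟨_, hcomp, ?_⟩
    intro x t ht
    have h1 := hχeq ⟨φ x, ⟨x, rfl⟩⟩ ⟨φ₀ x, ⟨x, rfl⟩⟩ ⟨ψ₀ ⟨φ x, h x⟩, hψ₀T _⟩
      (congrArg Subtype.val (hαinv x)).symm rfl
    have h2 : t = α⁻¹ ⟨ψ₀ ⟨φ x, h x⟩, hψ₀T _⟩ := Subtype.ext (ht.trans h1)
    rw [h2]
    simp only [MonoidHom.comp_apply, MulAut.mul_apply, MulAut.apply_inv_self]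
    exact hψeq ⟨φ x, h x⟩ _ rfl
  inv_mem := by
    rintro P φ ⟨hφ, hPT, α, hα, φ₀, hφ₀, hφeq⟩
    obtain ⟨ψ, hψ, hψeq⟩ := F.inv_mem hφ
    have hrT : φ.range ≤ T := by
      rintro _ ⟨x, rfl⟩
      exact hT.2 _ hPT _ hφ x
    have hφ₀T : ∀ x : P, φ₀ x ∈ T := fun x => (E.le_of_mem hφ₀).2 x
    have hφα : ∀ x : P, φ x = ((α ⟨φ₀ x, hφ₀T x⟩ : T) : Ω) := fun x => hφeq x _ rfl
    have hr₀T : φ₀.range ≤ T := by
      rintro _ ⟨x, rfl⟩
      exact hφ₀T x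
    obtain ⟨ρ, hρ, hρeq⟩ := E.inv_mem hφ₀
    obtain ⟨χ, hχ, hχeq⟩ := hinv.exists' hr₀T hρ (hA hα) φ.range (by
      intro y
      constructor
      · rintro ⟨x, rfl⟩
        exact ⟨⟨φ₀ x, ⟨x, rfl⟩⟩, (hφα x).symm⟩
      · rintro ⟨⟨_, x, rfl⟩, rfl⟩
        exact ⟨x, hφα x⟩)
    refine ⟨ψ, ⟨hψ, hrT, α⁻¹, inv_mem hα, χ, hχ, ?_⟩, hψeq⟩
    rintro ⟨_, x, rfl⟩ t ht
    have h1 := hχeq ⟨φ₀ x, ⟨x, rfl⟩⟩ ⟨φ x, ⟨x, rfl⟩⟩ ⟨x, hPT x.2⟩ (hφα x) (hρeq x).symm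
    have h2 : t = α ⟨x, hPT x.2⟩ := Subtype.ext (ht.trans h1)
    rw [h2, MulAut.inv_apply_self]
    exact hψeq x

theorem mem_frattiniSystemOn_of_mem {T : Subgroup Ω} (E : FusionSystem T) (F : FusionSystem S)
    (hE : E.IsSubsystemOf F) (hT : F.StronglyClosed T) (hinv : AutInvariant E F)
    (A : Subgroup (MulAut T)) (hA : A ≤ F.autGroup T)
    {P : Subgroup Ω} {φ : P →* Ω} (hφ : φ ∈ E.Hom P) :
    φ ∈ (frattiniSystemOn E F hE hT hinv A hA).Hom P := by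
  refine ⟨hE P hφ, (E.le_of_mem hφ).1, 1, one_mem _, φ, hφ, ?_⟩
  intro x t ht
  rw [← ht]
  rfl

/-- If every map of the saturated system `F` is a map of `E` followed by an automorphism of `S`,
then `Aut_E(P)` contains the elements of `p`-power order of `Aut_F(P)`. -/
theorem pElt_closure_le_of_frattini [Finite S] {p : ℕ} [Fact p.Prime] (hS : IsPGroup p S)
    (F : FusionSystem S) (hF : F.IsSaturated p) (E : FusionSystem S)
    (hfr : ∀ (P : Subgroup Ω) (φ : P →* Ω), φ ∈ F.Hom P → ∃ α : MulAut S, ∃ φ₀ ∈ E.Hom P,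
      ∀ (x : P) (hx : φ₀ x ∈ S), φ x = ((α ⟨φ₀ x, hx⟩ : S) : Ω))
    (P : Subgroup Ω) (hPS : P ≤ S) :
    (Subgroup.closure {α : ↥(F.autGroup P) | ∃ k : ℕ, orderOf α = p ^ k}).map
      (F.autGroup P).subtype ≤ E.autGroup P := by
  rw [Subgroup.map_le_iff_le_comap, Subgroup.closure_le]
  rintro a ⟨k, hk⟩
  show (a : MulAut P) ∈ E.autGroup P
  have hak : (a : MulAut P) ^ p ^ k = 1 := by
    rw [← hk, ← Subgroup.orderOf_coe]
    exact pow_orderOf_eq_one _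
  obtain ⟨P', ρ, hP'fn, hρ, hB⟩ := exists_isoEquiv_conj_into_autInducedBy
    hS F hF hPS (Subgroup.zpowers (a : MulAut P))
    (isPGroup_zpowers_of_pow_eq_one hak)
    (by
      rw [Subgroup.zpowers_le]
      exact a.2)
  have hP'S : P' ≤ S := hP'fn.1
  obtain ⟨g, hg, hgeq⟩ := (mem_autInducedBy_iff S P' _).mp
    (hB ⟨(a : MulAut P), Subgroup.mem_zpowers _, rfl⟩)
  obtain ⟨α, ψ₀, hψ₀, hψeq⟩ := hfr P (P'.subtype.comp ρ.toMonoidHom) hρ.1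
  have hψ₀S : ∀ x : P, ψ₀ x ∈ S := (E.le_of_mem hψ₀).2
  have hkey : ∀ x : P, ψ₀ ((a : MulAut P) x) =
      ((α⁻¹ ⟨g, hg⟩ : S) : Ω) * ψ₀ x * ((α⁻¹ ⟨g, hg⟩ : S) : Ω)⁻¹ := by
    intro x
    have h1 : ((ρ ((a : MulAut P) x) : P') : Ω) = g * ((ρ x : P') : Ω) * g⁻¹ := by
      have h2 := hgeq (ρ x)
      have h3 : (MulAut.congr ρ).toMonoidHom (a : MulAut P) (ρ x) = ρ ((a : MulAut P) x) := by
        show ρ ((a : MulAut P) (ρ.symm (ρ x))) = ρ ((a : MulAut P) x)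
        rw [MulEquiv.symm_apply_apply]
      rw [h3] at h2
      exact h2
    have h4 : ((ρ ((a : MulAut P) x) : P') : Ω) = α ⟨ψ₀ ((a : MulAut P) x), hψ₀S _⟩ :=
      hψeq ((a : MulAut P) x) (hψ₀S _)
    have h5 : ((ρ x : P') : Ω) = α ⟨ψ₀ x, hψ₀S _⟩ := hψeq x (hψ₀S _)
    have h6 : α ⟨ψ₀ ((a : MulAut P) x), hψ₀S _⟩ =
        α (α⁻¹ ⟨g, hg⟩ * ⟨ψ₀ x, hψ₀S _⟩ * (α⁻¹ ⟨g, hg⟩)⁻¹) := by
      apply Subtype.ext
      rw [← h4, h1, h5, map_mul, map_mul, map_inv, MulAut.apply_inv_self]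
      rfl
    exact congrArg Subtype.val (α.injective h6)
  obtain ⟨ρ₀, hρ₀, hρ₀eq⟩ := E.inv_mem hψ₀
  have hrS : ψ₀.range ≤ S := by
    rintro _ ⟨x, rfl⟩
    exact hψ₀S x
  have hc := E.conj_mem hrS (α⁻¹ ⟨g, hg⟩ : S).2
  have h₁ : ∀ x : P, ψ₀ x ∈ ψ₀.range := fun x => ⟨x, rfl⟩
  have hcomp₁ := E.comp_mem hψ₀ hc h₁
  have h₂ : ∀ x : P, ((conjHom ψ₀.range ((α⁻¹ ⟨g, hg⟩ : S) : Ω)).comp
      (ψ₀.codRestrict ψ₀.range h₁)) x ∈ ψ₀.range := by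
    intro x
    refine ⟨(a : MulAut P) x, ?_⟩
    rw [hkey x]
    rfl
  have hcomp₂ := E.comp_mem hcomp₁ hρ₀ h₂
  rw [mem_autGroup_iff' E hPS]
  have hfin : P.subtype.comp (a : MulAut P).toMonoidHom =
      ρ₀.comp (((conjHom ψ₀.range ((α⁻¹ ⟨g, hg⟩ : S) : Ω)).comp
        (ψ₀.codRestrict ψ₀.range h₁)).codRestrict ψ₀.range h₂) := by
    refine MonoidHom.ext fun x => ?_
    have h7 : (((conjHom ψ₀.range ((α⁻¹ ⟨g, hg⟩ : S) : Ω)).comp
        (ψ₀.codRestrict ψ₀.range h₁)).codRestrict ψ₀.range h₂) x =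
        ⟨ψ₀ ((a : MulAut P) x), ⟨_, rfl⟩⟩ := by
      apply Subtype.ext
      show ((α⁻¹ ⟨g, hg⟩ : S) : Ω) * ψ₀ x * ((α⁻¹ ⟨g, hg⟩ : S) : Ω)⁻¹ = ψ₀ ((a : MulAut P) x)
      rw [hkey x]
    show (((a : MulAut P) x : P) : Ω) = ρ₀ _
    rw [h7, hρ₀eq]
  rw [hfin]
  exact hcomp₂

/-- A centric subgroup of an invariant subsystem over `T` contains its centralizer in `T`, as do
its conjugates in the big system. -/
theorem tCen_of_isCentric {T : Subgroup Ω} {E : FusionSystem T} {F : FusionSystem S}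
    (hinv : E.IsInvariantIn F) {R : Subgroup Ω} (hRc : E.IsCentric R) : TCen F T R := by
  have hRT : R ≤ T := hRc.1
  refine ⟨hRT, ?_⟩
  rintro R' ⟨φ, hφ, rfl⟩
  obtain ⟨γ, hγ, ε, hε, heq⟩ := hinv.2.2.2 R hRT φ hφ
  have hεT : ∀ x : R, ε x ∈ T := (E.le_of_mem hε).2
  have hcen := hRc.2 ε.range ⟨ε, hε, rfl⟩
  intro c hc
  have h1 : ((γ⁻¹ ⟨c, hc.1⟩ : T) : Ω) ∈ centralizerIn T ε.range := by
    refine ⟨(γ⁻¹ ⟨c, hc.1⟩ : T).2, ?_⟩
    show ((γ⁻¹ ⟨c, hc.1⟩ : T) : Ω) ∈ Subgroup.centralizer (ε.range : Set Ω)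
    rw [Subgroup.mem_centralizer_iff]
    rintro _ ⟨x, rfl⟩
    have h2 : φ x * c = c * φ x := Subgroup.mem_centralizer_iff.mp hc.2 (φ x) ⟨x, rfl⟩
    have h3 : γ ⟨ε x, hεT x⟩ * ⟨c, hc.1⟩ = ⟨c, hc.1⟩ * γ ⟨ε x, hεT x⟩ := by
      apply Subtype.ext
      show ((γ ⟨ε x, hεT x⟩ : T) : Ω) * c = c * ((γ ⟨ε x, hεT x⟩ : T) : Ω)
      rw [← heq x (hεT x)]
      exact h2
    have h4 : γ⁻¹ (γ ⟨ε x, hεT x⟩ * ⟨c, hc.1⟩) = γ⁻¹ (⟨c, hc.1⟩ * γ ⟨ε x, hεT x⟩) := by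
      rw [h3]
    rw [map_mul, map_mul, MulAut.inv_apply_self] at h4
    exact congrArg Subtype.val h4
  obtain ⟨x, hx⟩ := hcen h1
  refine ⟨x, ?_⟩
  rw [heq x (hεT x)]
  have h5 : (⟨ε x, hεT x⟩ : T) = γ⁻¹ ⟨c, hc.1⟩ := Subtype.ext hx
  rw [h5, MulAut.apply_inv_self]

theorem coprime_card_of_pow_prime_pow {Δ : Type*} [Group Δ] [Finite Δ] {p : ℕ} [hp : Fact p.Prime]
    (h : ∀ (d : Δ) (k : ℕ), d ^ p ^ k = 1 → d = 1) : (Nat.card Δ).Coprime p := by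
  rw [Nat.coprime_comm, Nat.Prime.coprime_iff_not_dvd hp.out]
  intro hdvd
  obtain ⟨d, hd⟩ := exists_prime_orderOf_dvd_card' p hdvd
  have h1 : d ^ p ^ 1 = 1 := by
    rw [pow_one, ← hd]
    exact pow_orderOf_eq_one d
  have h2 := h d 1 h1
  rw [h2, orderOf_one] at hd
  exact hp.out.one_lt.ne hd

/-- Let `E` and `D'` be saturated subsystems over `T` invariant in `F`. A map of `E` defined on `T`
whose restriction to an `E`-centric subgroup is a map of `D'` is a map of `D'`. -/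
theorem extCond_of_invariant [Finite S] {p : ℕ} [Fact p.Prime] (hS : IsPGroup p S)
    (F : FusionSystem S) {T : Subgroup Ω} (E D' : FusionSystem T) (hEsat : E.IsSaturated p)
    (hEinv : E.IsInvariantIn F) (hDsat : D'.IsSaturated p) (hDinv : D'.IsInvariantIn F) :
    Cfsg.Agent.Lib.helper87.ExtCond E D' := by
  classical
  intro α hα Q hQT hQc hαQ
  have hT := hEinv.2.1
  have hTS := hT.1
  haveI : Finite T := finite_of_le hTS
  have hTp : IsPGroup p T := hS.to_le hTS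
  haveI : Finite (MulAut T) := Cfsg.Agent.Lib.helper87.finite_mulAut_of_le (S := T) le_rfl
  have hA : E.autGroup T ≤ F.autGroup T := Subgroup.closure_mono (fun a ha => hEinv.1 _ ha)
  obtain ⟨𝔽, h𝔽def⟩ : ∃ 𝔽 : FusionSystem T,
      𝔽 = frattiniSystemOn D' F hDinv.1 hT hDinv.2.2.1 (E.autGroup T) hA := ⟨_, rfl⟩
  have h𝔽F : 𝔽.IsSubsystemOf F := by
    rw [h𝔽def]
    exact fun P φ h => h.1
  have hD𝔽 : D'.IsSubsystemOf 𝔽 := by
    rw [h𝔽def]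
    exact fun P φ h => mem_frattiniSystemOn_of_mem D' F hDinv.1 hT hDinv.2.2.1 _ hA h
  have h𝔽mem : ∀ (P : Subgroup Ω) (φ : P →* Ω), φ ∈ 𝔽.Hom P → ∃ a ∈ E.autGroup T,
      ∃ φ₀ ∈ D'.Hom P, ∀ (x : P) (t : T), (t : Ω) = φ₀ x → φ x = ((a t : T) : Ω) := by
    rw [h𝔽def]
    intro P φ h
    exact h.2.2
  have hA𝔽 : E.autGroup T ≤ 𝔽.autGroup T := by
    intro a ha
    rw [mem_autGroup_iff' 𝔽 le_rfl, h𝔽def]
    refine ⟨(mem_autGroup_iff' F hTS a).mp (hA ha), le_rfl, a, ha, T.subtype,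
      subtype_mem D' le_rfl, ?_⟩
    intro x t ht
    have h1 : t = x := Subtype.ext ht
    rw [h1]
    rfl
  have h𝔽aut : 𝔽.autGroup T ≤ F.autGroup T := Subgroup.closure_mono (fun a ha => h𝔽F _ ha)
  have hinv𝔽 : D'.IsInvariantIn 𝔽 := by
    refine ⟨hD𝔽, Cfsg.Agent.Lib.helper87.stronglyClosed_top 𝔽, ?_, ?_⟩
    · intro P hPT φ hφ a ha
      exact hDinv.2.2.1 P hPT φ hφ a (h𝔽aut ha)
    · intro P hPT φ hφ
      obtain ⟨a, ha, φ₀, hφ₀, heq⟩ := h𝔽mem P φ hφ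
      exact ⟨a, hA𝔽 ha, φ₀, hφ₀, fun x hx => heq x ⟨φ₀ x, hx⟩ rfl⟩
  haveI hN : ((D'.autGroup T).subgroupOf (𝔽.autGroup T)).Normal := by
    refine ⟨fun n hn g => ?_⟩
    rw [Subgroup.mem_subgroupOf] at hn ⊢
    exact conj_mem_autGroup_of_invariant hinv𝔽 le_rfl g.2 hn
  -- the inner automorphisms of `T` form a normal Sylow subgroup of `Aut_E(T)`
  obtain ⟨hfa, -⟩ := fullyAutomized_receptive_of_fullyNormalized hTp E hEsat
    (fullyNormalized_of_stronglyClosed E (Cfsg.Agent.Lib.helper87.stronglyClosed_top E))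
  obtain ⟨-, R, hR⟩ := hfa
  haveI hIn : ((autInducedBy T T).subgroupOf (E.autGroup T)).Normal := by
    refine ⟨fun n hn g => ?_⟩
    rw [Subgroup.mem_subgroupOf] at hn ⊢
    obtain ⟨u, hu, hueq⟩ := (mem_autInducedBy_iff T T _).mp hn
    rw [mem_autInducedBy_iff]
    refine ⟨((g : MulAut T) ⟨u, hu⟩ : T), ((g : MulAut T) ⟨u, hu⟩ : T).2, fun x => ?_⟩
    show (((g : MulAut T) ((n : MulAut T) ((g : MulAut T)⁻¹ x)) : T) : Ω) = _
    have h1 : (n : MulAut T) ((g : MulAut T)⁻¹ x) = ⟨u, hu⟩ * (g : MulAut T)⁻¹ x * ⟨u, hu⟩⁻¹ :=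
      Subtype.ext (hueq _)
    rw [h1, map_mul, map_mul, map_inv, MulAut.apply_inv_self]
    rfl
  have hidx : ¬ p ∣ ((autInducedBy T T).subgroupOf (E.autGroup T)).index := by
    rw [← hR]
    exact R.not_dvd_index
  have hΔ : (Nat.card (↥(𝔽.autGroup T) ⧸ (D'.autGroup T).subgroupOf (𝔽.autGroup T))).Coprime p := by
    refine coprime_card_of_pow_prime_pow ?_
    intro d k hdk
    obtain ⟨a, rfl⟩ := QuotientGroup.mk_surjective d
    have haF : T.subtype.comp (a : MulAut T).toMonoidHom ∈ 𝔽.Hom T :=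
      (mem_autGroup_iff' 𝔽 le_rfl _).mp a.2
    obtain ⟨e, he, φ₀, hφ₀, heq⟩ := h𝔽mem T _ haF
    have hφ₀T : ∀ x : T, φ₀ x ∈ T := (D'.le_of_mem hφ₀).2
    have hmem : e⁻¹ * (a : MulAut T) ∈ D'.autGroup T := by
      rw [mem_autGroup_iff' D' le_rfl]
      have h1 : T.subtype.comp (e⁻¹ * (a : MulAut T)).toMonoidHom = φ₀ := by
        refine MonoidHom.ext fun x => ?_
        show ((e⁻¹ ((a : MulAut T) x) : T) : Ω) = φ₀ x
        have h2 : (a : MulAut T) x = e ⟨φ₀ x, hφ₀T x⟩ := Subtype.ext (heq x ⟨φ₀ x, hφ₀T x⟩ rfl)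
        rw [h2, MulAut.inv_apply_self]
      rw [h1]
      exact hφ₀
    have hda : (QuotientGroup.mk a : ↥(𝔽.autGroup T) ⧸ (D'.autGroup T).subgroupOf (𝔽.autGroup T)) =
        QuotientGroup.mk (⟨e, hA𝔽 he⟩ : ↥(𝔽.autGroup T)) := by
      rw [eq_comm, QuotientGroup.eq, Subgroup.mem_subgroupOf]
      exact hmem
    have hpow := Subgroup.pow_index_mem ((autInducedBy T T).subgroupOf (E.autGroup T))
      (⟨e, he⟩ : ↥(E.autGroup T))
    rw [Subgroup.mem_subgroupOf] at hpow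
    have hpow' : e ^ ((autInducedBy T T).subgroupOf (E.autGroup T)).index ∈ D'.autGroup T :=
      autInducedBy_le_autGroup D' le_rfl hpow
    have hdm : (QuotientGroup.mk a : ↥(𝔽.autGroup T) ⧸ (D'.autGroup T).subgroupOf (𝔽.autGroup T)) ^
        ((autInducedBy T T).subgroupOf (E.autGroup T)).index = 1 := by
      rw [hda, ← QuotientGroup.mk_pow, QuotientGroup.eq_one_iff, Subgroup.mem_subgroupOf]
      exact hpow'
    have h1 := orderOf_dvd_of_pow_eq_one hdk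
    have h2 := orderOf_dvd_of_pow_eq_one hdm
    have h3 : Nat.Coprime (p ^ k) ((autInducedBy T T).subgroupOf (E.autGroup T)).index :=
      Nat.Coprime.pow_left k ((Nat.Prime.coprime_iff_not_dvd Fact.out).mpr hidx)
    have h4 := Nat.dvd_gcd h1 h2
    rw [h3.gcd_eq_one] at h4
    exact orderOf_eq_one_iff.mp (Nat.dvd_one.mp h4)
  -- the automorphism of `T` given by `α`
  obtain ⟨a, ha⟩ := Cfsg.Agent.Lib.helper89.exists_aut_of_mem E hα (fun x => (E.le_of_mem hα).2 x)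
  have haα : T.subtype.comp a.toMonoidHom = α := MonoidHom.ext fun x => ha x
  have haE : a ∈ E.autGroup T := by
    rw [mem_autGroup_iff' E le_rfl, haα]
    exact hα
  have hTC : TCen 𝔽 T Q := by
    have h1 := tCen_of_isCentric hEinv hQc
    exact ⟨h1.1, fun R' hc => h1.2 R' (by
      obtain ⟨φ, hφ, hr⟩ := hc
      exact ⟨φ, h𝔽F _ hφ, hr⟩)⟩
  have hth1 := th_of_restrict_aut (F := 𝔽) D'
    (QuotientGroup.mk' ((D'.autGroup T).subgroupOf (𝔽.autGroup T))) le_rfl (α := a)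
    ⟨a, hA𝔽 haE⟩ (fun t => rfl)
  have hth2 := th_restrict hQT hth1
  rw [haα] at hth2
  have hth3 := th_of_mem (F := 𝔽)
    (QuotientGroup.mk' ((D'.autGroup T).subgroupOf (𝔽.autGroup T))) hαQ
  have hker : (D'.autGroup T).subgroupOf (𝔽.autGroup T) ≤
      (QuotientGroup.mk' ((D'.autGroup T).subgroupOf (𝔽.autGroup T))).ker := by
    rw [QuotientGroup.ker_mk']
  have hwd := th_wd hTp hDsat hinv𝔽 hΔ
    (QuotientGroup.mk' ((D'.autGroup T).subgroupOf (𝔽.autGroup T))) hker _ Q rfl hTC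
  have huniq := th_unique_aux hinv𝔽 hwd (hD𝔽 Q hαQ) hth2 hth3
  have hmem : (⟨a, hA𝔽 haE⟩ : ↥(𝔽.autGroup T)) ∈ (D'.autGroup T).subgroupOf (𝔽.autGroup T) :=
    (QuotientGroup.eq_one_iff _).mp huniq
  rw [Subgroup.mem_subgroupOf] at hmem
  have hfin := (mem_autGroup_iff' D' le_rfl a).mp hmem
  rw [haα] at hfin
  exact hfin

end Cfsg.Agent.Lib.helper88
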