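import Mathlib
import Cfsg.Agent.S1353
import Cfsg.Agent.S1363
import Cfsg.Agent.S1367
import Cfsg.Agent.S1372
import Cfsg.Agent.S1417
import Cfsg.Agent.S1418
import Cfsg.Agent.S1419
import Cfsg.Agent.S1430
import Cfsg.Agent.S1431
import Cfsg.Agent.Lib.helper59.BG1376A
import Cfsg.Agent.Lib.helper97.BGSeven1
import Cfsg.Agent.Lib.helper69.BGKappaB
import Cfsg.Agent.Lib.helper54.BGSigmaNe
import Cfsg.Agent.Lib.helper71.BGTwelveFour
import Cfsg.Agent.Lib.helper87.BG1425Main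

/-!
# S1376, `τ₂(M) = ∅`: the case `s = |K|` (helper88)

In helper59's `Setting M N K U Ns x` (`N` of type P2 over `C_G(x)`, `x ∈ M_σ^#`, `E := M ∩ N*`):

* `setting_cent_x` : `C_M(x) = U` (so `C_M(x) ≤ M_σ`).
* `setting_ne` : `M ≠ N*`.
* `setting_K_le` : `K ≤ M ⊓ N*`.
* `setting_Ks_ne` : `K* = N_σ ∩ C(K) ≠ 1`.
* `setting_card_mem_sigma` : `|K| ∈ σ(N*)`.
* `tau2_case_eq` : `|K| ∉ τ₂(M)`.
-/

set_option autoImplicit false

namespace Cfsg.Agent.Lib.helper88.BG1376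

open Cfsg Subgroup
open scoped Pointwise
open Cfsg.Agent.Lib.helper59.BG1376 (Setting)

variable {G : Type*} [Group G]

/-- `(*)`: `C_M(x) = U`. -/
theorem setting_cent_x [Finite G] (hG : IsMinSimpleOddOrder G) {M N K U Ns : Subgroup G} {x : G}
    (S : Setting M N K U Ns x) : M ⊓ centralizer ({x} : Set G) = U := by
  have hUab := (Cfsg.Agent.S1363.result hG N S.hN K U S.hKU S.hK1).1
  apply le_antisymm
  · rintro c ⟨hcM, hcx⟩
    have hcN : c ∈ N := S.hxN hcx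
    have hc : c ∈ U ⊔ K := by rw [← S.hMN]; exact ⟨hcN, hcM⟩
    have hset : ((U ⊔ K : Subgroup G) : Set G) = (U : Set G) * (K : Set G) :=
      Subgroup.coe_mul_of_right_le_normalizer_left U K S.hKU.normal
    have hc' : c ∈ (U : Set G) * (K : Set G) := by rw [← hset]; exact hc
    obtain ⟨u, hu, k, hk, rfl⟩ := Set.mem_mul.mp hc'
    have hux : u * x = x * u := congrArg Subtype.val (mul_comm' (⟨u, hu⟩ : U) ⟨x, S.hxU⟩)
    have hcx' : x * (u * k) = (u * k) * x :=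
      Subgroup.mem_centralizer_iff.mp hcx x (Set.mem_singleton x)
    have hkx : x * k = k * x := by
      have h1 : u * (x * k) = u * (k * x) := by
        rw [← mul_assoc, hux, mul_assoc, hcx', mul_assoc]
      exact mul_left_cancel h1
    by_cases hk1 : k = 1
    · subst hk1
      simpa using hu
    · exfalso
      have h53 := Cfsg.Agent.S1353.result hG N S.hN K U S.hKU k hk hk1
      have hxin : x ∈ U ⊓ centralizer ({k} : Set G) := by
        refine ⟨S.hxU, ?_⟩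
        show x ∈ centralizer ({k} : Set G)
        rw [Subgroup.mem_centralizer_iff]
        intro z hz
        rw [Set.mem_singleton_iff] at hz
        subst hz
        exact hkx.symm
      rw [h53, Subgroup.mem_bot] at hxin
      exact S.hx1 hxin
  · intro u hu
    refine ⟨?_, ?_⟩
    · have h1 : u ∈ N ⊓ M := by rw [S.hMN]; exact (le_sup_left : U ≤ U ⊔ K) hu
      exact h1.2
    · show u ∈ centralizer ({x} : Set G)
      rw [Subgroup.mem_centralizer_iff]
      intro z hz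
      rw [Set.mem_singleton_iff] at hz
      subst hz
      exact congrArg Subtype.val (mul_comm' (⟨z, S.hxU⟩ : U) ⟨u, hu⟩)

/-- `M ≠ N*`. -/
theorem setting_ne {M N K U Ns : Subgroup G} {x : G} (S : Setting M N K U Ns x) : M ≠ Ns := by
  intro h
  have hE := S.hE
  have hxM : x ∈ M := hE.2.1 S.hx
  have hx : x ∈ (M ⊓ Ns) ⊓ sigmaCore M := ⟨⟨hxM, h ▸ hxM⟩, S.hx⟩
  rw [hE.2.2.1, Subgroup.mem_bot] at hx
  exact S.hx1 hx

/-- `K ≤ M ∩ N*`. -/
theorem setting_K_le {M N K U Ns : Subgroup G} {x : G} (S : Setting M N K U Ns x) :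
    K ≤ M ⊓ Ns := by
  intro k hk
  refine ⟨?_, ?_⟩
  · have h1 : k ∈ N ⊓ M := by rw [S.hMN]; exact (le_sup_right : K ≤ U ⊔ K) hk
    exact h1.2
  · have h2 : k ∈ sigmaCore Ns := (le_of_eq_of_le S.hKst inf_le_left) hk
    exact Cfsg.Agent.Lib.helper71.BGA.sigmaCore_le Ns h2

/-- `K* = N_σ ∩ C(K) ≠ 1`. -/
theorem setting_Ks_ne [Finite G] (hG : IsMinSimpleOddOrder G) {M N K U Ns : Subgroup G} {x : G}
    (S : Setting M N K U Ns x) : sigmaCore N ⊓ centralizer (K : Set G) ≠ ⊥ := by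
  have h1430 : Cfsg.Agent.Lib.helper69.H1430 G :=
    fun M hM K hK hK1 => Cfsg.Agent.S1430.result hG M hM K hK hK1
  have hσne : sigmaCore N ≠ ⊥ := Cfsg.Agent.Lib.helper54.sigmaCore_ne_bot hG N S.hN
  exact (Cfsg.Agent.Lib.helper69.bgk_1354 h1430 N S.hN hσne K S.hKU.cyclic S.hKU.hall).1

/-- `|K| ∈ σ(N*)`. -/
theorem setting_card_mem_sigma [Finite G] (hG : IsMinSimpleOddOrder G)
    {M N K U Ns : Subgroup G} {x : G} (S : Setting M N K U Ns x) :
    (Nat.card K).Prime ∧ Nat.card K ∈ sigma Ns := by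
  have hKp := (Cfsg.Agent.S1372.result hG N S.hN K U S.hKU S.hK1 S.hU1).1
  refine ⟨hKp, ?_⟩
  have hKσ : K ≤ sigmaCore Ns := le_of_eq_of_le S.hKst inf_le_left
  exact Cfsg.Agent.Lib.helper71.BG12.mem_sigma_of_dvd_card_sigmaCore Ns hKp
    (Subgroup.card_dvd_of_le hKσ)

/-- **CASE `s = t`**: `t := |K|` is not in `τ₂(M)`. -/
theorem tau2_case_eq [Finite G] (hG : IsMinSimpleOddOrder G) {M N K U Ns : Subgroup G} {x : G}
    (S : Setting M N K U Ns x) : Nat.card K ∉ tau2 M := by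
  intro ht
  obtain ⟨htp, htσ⟩ := setting_card_mem_sigma hG S
  obtain ⟨t, htdef⟩ : ∃ t : ℕ, t = Nat.card K := ⟨_, rfl⟩
  rw [← htdef] at ht htp htσ
  have : Fact t.Prime := ⟨htp⟩
  have hE := S.hE
  obtain ⟨A, hAE, hAe, hAc⟩ :=
    Cfsg.Agent.Lib.helper97.bg7_exists_elemAb_compl M (M ⊓ Ns) hE t ht
  obtain ⟨⟨-, hsub⟩, ⟨hCA, -, -⟩, -⟩ :=
    Cfsg.Agent.S1418.result hG M S.hM (M ⊓ Ns) hE t ht A ⟨hAE, hAe, hAc⟩
  have hMNs : M ≠ Ns := setting_ne S
  by_cases hab : ∀ T : Sylow t G, ¬ IsMulCommutative (T : Subgroup G)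
  · -- nonabelian Sylow `t`-subgroups: S1419
    obtain ⟨-, ⟨hA0c, -⟩, -⟩ :=
      Cfsg.Agent.S1419.result hG M S.hM (M ⊓ Ns) hE t ht hab A ⟨hAE, hAe, hAc⟩
    have hA0 : A ⊓ centralizer (sigmaCore M : Set G) ≠ ⊥ := by
      intro h
      rw [h, Subgroup.card_bot] at hA0c
      exact htp.one_lt.ne hA0c
    obtain ⟨⟨a, haA, haC⟩, ha1⟩ := (Subgroup.ne_bot_iff_exists_ne_one).mp hA0
    have ha1' : a ≠ 1 := fun h => ha1 (Subtype.ext h)
    have haM : a ∈ M := (hAE haA).1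
    have hax : a ∈ M ⊓ centralizer ({x} : Set G) := by
      refine ⟨haM, ?_⟩
      show a ∈ centralizer ({x} : Set G)
      rw [Subgroup.mem_centralizer_iff]
      intro z hz
      rw [Set.mem_singleton_iff] at hz
      subst hz
      exact Subgroup.mem_centralizer_iff.mp haC z S.hx
    rw [setting_cent_x hG S] at hax
    have h2 : a ∈ (M ⊓ Ns) ⊓ sigmaCore M := ⟨hAE haA, S.hUσ hax⟩
    rw [hE.2.2.1, Subgroup.mem_bot] at h2
    exact ha1' h2
  · -- abelian Sylow `t`-subgroups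
    push Not at hab
    obtain ⟨T, hT⟩ := hab
    have hKs1 := setting_Ks_ne hG S
    have hANs : A ≤ Ns := hAE.trans inf_le_right
    have hAσ : A ≤ sigmaCore Ns := by
      apply Cfsg.Agent.Lib.helper87.BG133.le_sigmaCore_of_pi hG Ns S.hNs A hANs
      intro q hq hqd
      rw [hAc] at hqd
      rw [(Nat.prime_dvd_prime_iff_eq hq htp).mp (hq.dvd_of_dvd_pow hqd)]
      exact htσ
    have hApg : IsPGroup t (A.subgroupOf (sigmaCore Ns)) := by
      apply IsPGroup.of_card (n := 2)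
      rw [← hAc]
      exact Nat.card_congr (Subgroup.subgroupOfEquivOfLe hAσ).toEquiv
    obtain ⟨Q, hQ⟩ := hApg.exists_le_sylow
    obtain ⟨QG, hQG⟩ : ∃ QG : Subgroup G,
        QG = (Q : Subgroup ↥(sigmaCore Ns)).map (sigmaCore Ns).subtype := ⟨_, rfl⟩
    have hAQ : A ≤ QG := by
      intro a ha
      rw [hQG]
      exact ⟨⟨a, hAσ ha⟩, hQ (Subgroup.mem_subgroupOf.mpr ha), rfl⟩
    have hQp : IsPGroup t QG := by rw [hQG]; exact Q.isPGroup'.map _
    have hQab : ∀ y ∈ QG, ∀ z ∈ QG, y * z = z * y := by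
      obtain ⟨T', hT'⟩ := hQp.exists_le_sylow
      obtain ⟨g, hg⟩ := MulAction.exists_smul_eq G T T'
      have key : ∀ w : G, w ∈ (T' : Subgroup G) → g⁻¹ * w * g ∈ (T : Subgroup G) := by
        intro w hw
        rw [← hg] at hw
        have h1 : w ∈ (MulAut.conj g • (T : Subgroup G)) := hw
        rw [Subgroup.mem_pointwise_smul_iff_inv_smul_mem] at h1
        simpa [MulAut.smul_def, MulAut.conj_inv_apply] using h1
      intro y hy z hz
      have h1 := key y (hT' hy)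
      have h2 := key z (hT' hz)
      have h3 : (g⁻¹ * y * g) * (g⁻¹ * z * g) = (g⁻¹ * z * g) * (g⁻¹ * y * g) :=
        congrArg Subtype.val (mul_comm' (⟨_, h1⟩ : (T : Subgroup G)) ⟨_, h2⟩)
      have e1 : y * z = g * ((g⁻¹ * y * g) * (g⁻¹ * z * g)) * g⁻¹ := by group
      have e2 : z * y = g * ((g⁻¹ * z * g) * (g⁻¹ * y * g)) * g⁻¹ := by group
      rw [e1, e2, h3]
    have hQM : QG ≤ M := by
      intro y hy
      have h1 : y ∈ centralizer (A : Set G) := by
        rw [Subgroup.mem_centralizer_iff]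
        intro a ha
        exact hQab a (hAQ ha) y hy
      exact (hCA h1).1
    have hdvd : t ∣ Nat.card ↥(sigmaCore Ns ⊓
        centralizer ((sigmaCore N ⊓ centralizer (K : Set G) : Subgroup G) : Set G)) := by
      rw [← S.hKst, htdef]
    obtain ⟨⟨L, -, huniq⟩, hQNs, -⟩ :=
      (Cfsg.Agent.S1431.result hG Ns S.hNs _ S.hKstH hKs1).2.2.1 t htp hdvd Q
    have e1 : M = L := huniq M ⟨S.hM, hQG ▸ hQM⟩
    have e2 : Ns = L := huniq Ns ⟨S.hNs, hQNs⟩
    exact hMNs (e1.trans e2.symm)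

end Cfsg.Agent.Lib.helper88.BG1376
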