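import Cfsg.Agent.Lib.helper87.CenNormal
import Cfsg.Agent.Lib.helper88.CentricRadical
import Cfsg.Agent.Lib.helper88.NormalSub

/-!
Centralizers of normal subsystems, part 1 (helper88): transport of "kernel maps".

`T` is strongly closed in the saturated system `F` over `S`, `P ≤ T` contains its centralizer in `T`
(as do its conjugates), `X ≤ C_S(T)`.  A *kernel map* `ν` is a map of `F` on `P X` that is the
identity on `P` and moves the elements of `X` by elements of `P`.  After conjugating `P X` onto a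
fully normalized subgroup by a map `ψ` defined on `N_S(P X)`, `ν` becomes conjugation by an element
`s ∈ S`; consequences: the elements `c⁻¹ ν(c)` are centralized by `N_T(P)`, and `ν` extends to an
automorphism of `N_T(P) X` in `F`.
-/

set_option autoImplicit false

namespace Cfsg.Agent.Lib.helper88.CSE

open Cfsg Cfsg.FusionSystem
open Cfsg.Agent.Lib.helper88

variable {Ω : Type*} [Group Ω] {S : Subgroup Ω}

theorem range_eq_of_maps [Finite S] (F : FusionSystem S) {U : Subgroup Ω} {ν : U →* Ω}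
    (hν : ν ∈ F.Hom U) (h : ∀ u, ν u ∈ U) : ν.range = U := by
  have hUS : U ≤ S := (F.le_of_mem hν).1
  haveI : Finite U := finite_of_le hUS
  have hle : ν.range ≤ U := by
    rintro _ ⟨u, rfl⟩
    exact h u
  refine Subgroup.eq_of_le_of_card_ge hle ?_
  exact (Nat.card_congr (MonoidHom.ofInjective (F.injective_of_mem hν)).toEquiv).le

/-- A map of the system from `U` into `U` is an automorphism of `U` in the system. -/
theorem exists_aut_of_maps [Finite S] (F : FusionSystem S) {U : Subgroup Ω} {ν : U →* Ω}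
    (hν : ν ∈ F.Hom U) (h : ∀ u, ν u ∈ U) :
    ∃ α ∈ F.autGroup U, ∀ u : U, ((α u : U) : Ω) = ν u := by
  obtain ⟨e, he, hex⟩ := exists_isoEquiv F hν (range_eq_of_maps F hν h)
  exact ⟨e, (mem_autGroup_iff F (F.le_of_mem hν).1 e).mpr he, hex⟩

/-- A map of the system carries elements of a strongly closed subgroup into it. -/
theorem map_mem_sc (F : FusionSystem S) {T : Subgroup Ω} (hT : F.StronglyClosed T) {N : Subgroup Ω}
    {ψ : N →* Ω} (hψ : ψ ∈ F.Hom N) (y : N) (hy : (y : Ω) ∈ T) : ψ y ∈ T :=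
  hT.2 (N ⊓ T) inf_le_right _ (restrict_mem F inf_le_left hψ) ⟨y, ⟨y.2, hy⟩⟩

/-- An automorphism of a fully normalized subgroup `R` in the system acting trivially on
`R / (R ∩ T)` and on `R ∩ T`, `T` strongly closed, is induced by an element of `S`. -/
theorem stab_mem_autInducedBy [Finite S] {p : ℕ} [Fact p.Prime] (hS : IsPGroup p S)
    (F : FusionSystem S) (hF : F.IsSaturated p) {T : Subgroup Ω} (hT : F.StronglyClosed T)
    {R : Subgroup Ω} (hRfn : F.IsFullyNormalized R) {δ : MulAut R} (hδ : δ ∈ F.autGroup R)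
    (h1 : ∀ x : R, (x : Ω)⁻¹ * ((δ x : R) : Ω) ∈ T)
    (h2 : ∀ x : R, (x : Ω) ∈ T → δ x = x) : δ ∈ autInducedBy S R := by
  have hRS := hRfn.1
  have hfinR : Finite R := finite_of_le hRS
  have hRp : IsPGroup p R := hS.to_le hRS
  obtain ⟨hfa, -⟩ := fullyAutomized_receptive_of_fullyNormalized hS F hF hRfn
  have hinv : ∀ a ∈ F.autGroup R, ∀ MM' ∈ ({((⊤ : Subgroup R), T.subgroupOf R),
      (T.subgroupOf R, (⊥ : Subgroup R))} : Set (Subgroup R × Subgroup R)),
      (∀ x ∈ MM'.1, a x ∈ MM'.1) ∧ (∀ x ∈ MM'.2, a x ∈ MM'.2) := by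
    intro a ha MM' hMM'
    have hTinv : ∀ x ∈ T.subgroupOf R, a x ∈ T.subgroupOf R := by
      intro x hx
      rw [Subgroup.mem_subgroupOf] at hx ⊢
      exact helper89.aut_mem_of_stronglyClosed F hT hRS ha x hx
    rcases hMM' with rfl | rfl
    · exact ⟨fun x _ => Subgroup.mem_top _, hTinv⟩
    · refine ⟨hTinv, fun x hx => ?_⟩
      rw [Subgroup.mem_bot] at hx ⊢
      rw [hx, map_one]
  have hStp : IsPGroup p (helper89.stabilizerOfPairs (F.autGroup R) _ hinv) :=
    helper89.isPGroup_stabilizerOfPairs hRp _ _ hinv (by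
      intro Pr hbot hstep
      have h1 : Pr (T.subgroupOf R) := hstep _ _ (Or.inr rfl) bot_le hbot
      exact hstep _ _ (Or.inl rfl) le_top h1)
  have hδSt : δ ∈ helper89.stabilizerOfPairs (F.autGroup R) _ hinv := by
    refine ⟨hδ, ?_⟩
    intro MM' hMM'
    rcases hMM' with rfl | rfl
    · intro x _
      rw [Subgroup.mem_subgroupOf]
      exact h1 x
    · intro x hx
      rw [Subgroup.mem_subgroupOf] at hx
      rw [Subgroup.mem_bot, h2 x hx, inv_mul_cancel]
  obtain ⟨a, ha, hconj⟩ := exists_conj_into_autInducedBy F hfa _ hStp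
    (helper89.stabilizerOfPairs_le _ _ hinv)
  have h3 := helper89.stabilizerOfPairs_conj_mem _ _ hinv a ha δ hδSt
  have h4 := hconj _ h3
  have h5 : a⁻¹ * (a * δ * a⁻¹) * a = δ := by group
  rwa [h5] at h4

/-- Transport to a fully normalized conjugate: an automorphism `δ` of `U` in the system acting
trivially on `U / (U ∩ T)` and on `U ∩ T` becomes conjugation by an element of `S` under a suitable
map of the system defined on `N_S(U)`. -/
theorem exists_conj_rep [Finite S] {p : ℕ} [Fact p.Prime] (hS : IsPGroup p S)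
    (F : FusionSystem S) (hF : F.IsSaturated p) {T : Subgroup Ω} (hT : F.StronglyClosed T)
    {U : Subgroup Ω} (hUS : U ≤ S) {δ : MulAut U} (hδ : δ ∈ F.autGroup U)
    (h1 : ∀ x : U, (x : Ω)⁻¹ * ((δ x : U) : Ω) ∈ T)
    (h2 : ∀ x : U, (x : Ω) ∈ T → δ x = x) :
    ∃ ψ ∈ F.Hom (normalizerIn S U), ∃ s ∈ S, ∀ u : U,
      ψ ⟨((δ u : U) : Ω), le_normalizerIn hUS (δ u).2⟩
        = s * ψ ⟨(u : Ω), le_normalizerIn hUS u.2⟩ * s⁻¹ := by
  obtain ⟨U', hconj, hU'fn⟩ := exists_fullyNormalized_conj F hUS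
  obtain ⟨ψ, hψ, hψU⟩ := exists_map_normalizer_of_fullyNormalized hS F hF hU'fn hconj
  have hUN : U ≤ normalizerIn S U := le_normalizerIn hUS
  have hφ : ψ.comp (Subgroup.inclusion hUN) ∈ F.Hom U := restrict_mem F hUN hψ
  have hrange : (ψ.comp (Subgroup.inclusion hUN)).range = U' := by
    rw [range_restrict_eq hUN ψ]
    exact hψU
  obtain ⟨e, he, hex⟩ := exists_isoEquiv F hφ hrange
  have hδ' : MulAut.congr e δ ∈ F.autGroup U' := he.congr_mem hδ
  have hcongr : ∀ u : U, (MulAut.congr e δ) (e u) = e (δ u) := by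
    intro u
    simp [MulAut.congr]
  have key : MulAut.congr e δ ∈ autInducedBy S U' := by
    refine stab_mem_autInducedBy hS F hF hT hU'fn hδ' ?_ ?_
    · intro y
      obtain ⟨u, rfl⟩ := e.surjective y
      rw [hcongr, hex, hex]
      have e1 : ((ψ.comp (Subgroup.inclusion hUN)) u)⁻¹ * (ψ.comp (Subgroup.inclusion hUN)) (δ u)
          = (ψ.comp (Subgroup.inclusion hUN)) (u⁻¹ * δ u) := by
        rw [map_mul, map_inv]
      rw [e1]
      exact map_mem_sc F hT hφ _ (h1 u)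
    · intro y hy
      obtain ⟨u, rfl⟩ := e.surjective y
      rw [hcongr]
      have hu : (u : Ω) ∈ T := by
        have h3 := map_mem_sc F hT he.2 (e u) hy
        simpa using h3
      rw [h2 u hu]
  obtain ⟨s, hs, hsx⟩ := (mem_autInducedBy_iff S U' _).mp key
  refine ⟨ψ, hψ, s, hs, fun u => ?_⟩
  have h3 := hsx (e u)
  rw [hcongr, hex, hex] at h3
  exact h3

/-- `ν` is a map of the system on `P X`, the identity on `P`, moving the elements of `X` by
elements of `P`. -/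
def KMap (F : FusionSystem S) (P X : Subgroup Ω) (ν : ↥(P ⊔ X) →* Ω) : Prop :=
  ν ∈ F.Hom (P ⊔ X) ∧ (∀ x : ↥(P ⊔ X), (x : Ω) ∈ P → ν x = x) ∧
    ∀ c : ↥(P ⊔ X), (c : Ω) ∈ X → (c : Ω)⁻¹ * ν c ∈ P

section sup

variable {T P X : Subgroup Ω}

theorem comm_of_mem (hX : X ≤ centralizerIn S T) {c t : Ω} (hc : c ∈ X) (ht : t ∈ T) :
    c * t = t * c :=
  (Subgroup.mem_centralizer_iff.mp (hX hc).2 t ht).symm

theorem exists_mul_of_mem (hPT : P ≤ T) (hX : X ≤ centralizerIn S T) {y : Ω}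
    (hy : y ∈ P ⊔ X) : ∃ a ∈ P, ∃ c ∈ X, a * c = y := by
  refine Cfsg.Agent.Lib.helper89.exists_mul_of_mem_sup (fun r hr t ht => ?_) hy
  rw [comm_of_mem hX hr (hPT ht), mul_inv_cancel_right]
  exact ht

theorem sup_le_S (hTS : T ≤ S) (hPT : P ≤ T) (hX : X ≤ centralizerIn S T) : P ⊔ X ≤ S :=
  sup_le (hPT.trans hTS) (hX.trans inf_le_left)

theorem mem_P_of_mem_T {F : FusionSystem S} (hP : TCen F T P) (hPS : P ≤ S)
    (hX : X ≤ centralizerIn S T) {y : Ω} (hy : y ∈ P ⊔ X) (hyT : y ∈ T) : y ∈ P := by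
  obtain ⟨a, ha, c, hc, rfl⟩ := exists_mul_of_mem hP.1 hX hy
  have hcT : c ∈ T := by
    have h1 : c = a⁻¹ * (a * c) := by group
    rw [h1]
    exact T.mul_mem (T.inv_mem (hP.1 ha)) hyT
  have hcP : c ∈ centralizerIn T P := ⟨hcT, Subgroup.centralizer_le hP.1 (hX hc).2⟩
  exact P.mul_mem ha (hP.2 P (isConj_refl F hPS) hcP)

/-- An element of `T` normalizing `P ≤ T` normalizes `P X`. -/
theorem normalizerIn_T_le [Finite S] (hTS : T ≤ S) (hPT : P ≤ T) (hX : X ≤ centralizerIn S T) :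
    normalizerIn T P ≤ normalizerIn S (P ⊔ X) := by
  intro t ht
  haveI : Finite ↥(P ⊔ X) := finite_of_le (sup_le_S hTS hPT hX)
  refine ⟨hTS ht.1, mem_normalizer_of_conj_mem ?_⟩
  have hle : P ⊔ X ≤ (P ⊔ X).comap (MulAut.conj t).toMonoidHom := by
    refine sup_le ?_ ?_
    · intro x hx
      exact Subgroup.mem_sup_left ((Subgroup.mem_normalizer_iff.mp ht.2 x).mp hx)
    · intro c hc
      show t * c * t⁻¹ ∈ P ⊔ X
      rw [← comm_of_mem hX hc ht.1, mul_inv_cancel_right]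
      exact Subgroup.mem_sup_right hc
  intro x hx
  exact hle hx

theorem KMap.quot_mem {F : FusionSystem S} {ν : ↥(P ⊔ X) →* Ω} (hν : KMap F P X ν)
    (hPT : P ≤ T) (hX : X ≤ centralizerIn S T) (u : ↥(P ⊔ X)) : (u : Ω)⁻¹ * ν u ∈ P := by
  obtain ⟨a, ha, c, hc, hac⟩ := exists_mul_of_mem hPT hX u.2
  have hu : u = ⟨a, Subgroup.mem_sup_left ha⟩ * ⟨c, Subgroup.mem_sup_right hc⟩ :=
    Subtype.ext hac.symm
  have h1 : (u : Ω)⁻¹ * ν u = c⁻¹ * ν ⟨c, Subgroup.mem_sup_right hc⟩ := by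
    rw [hu, map_mul, hν.2.1 _ ha]
    show (a * c)⁻¹ * (a * ν ⟨c, Subgroup.mem_sup_right hc⟩) = _
    group
  rw [h1]
  exact hν.2.2 ⟨c, Subgroup.mem_sup_right hc⟩ hc

theorem KMap.maps {F : FusionSystem S} {ν : ↥(P ⊔ X) →* Ω} (hν : KMap F P X ν)
    (hPT : P ≤ T) (hX : X ≤ centralizerIn S T) (u : ↥(P ⊔ X)) : ν u ∈ P ⊔ X := by
  have h1 : ν u = (u : Ω) * ((u : Ω)⁻¹ * ν u) := by group
  rw [h1]
  exact Subgroup.mul_mem _ u.2 (Subgroup.mem_sup_left (hν.quot_mem hPT hX u))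

end sup

end Cfsg.Agent.Lib.helper88.CSE
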