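import Cfsg.Agent.Lib.helper88.CSE1

/-!
Centralizers of normal subsystems, part 2 (helper88): consequences of the transport of kernel maps.
-/

set_option autoImplicit false

namespace Cfsg.Agent.Lib.helper88.CSE

open Cfsg Cfsg.FusionSystem
open Cfsg.Agent.Lib.helper88
open Cfsg.Agent.Lib.helper87.Craven (sup_forall_mem)

variable {Ω : Type*} [Group Ω] {S : Subgroup Ω}

theorem comm_conj_aux {G : Type*} [Group G] {t s A : G} (h1 : Commute s A)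
    (h2 : Commute s (t * A * t⁻¹)) : Commute (t⁻¹ * (s * t * s⁻¹)) A := by
  have e1 : s⁻¹ * A = A * s⁻¹ := h1.inv_left.eq
  have e2 : s * (t * A * t⁻¹) = t * A * t⁻¹ * s := h2.eq
  show t⁻¹ * (s * t * s⁻¹) * A = A * (t⁻¹ * (s * t * s⁻¹))
  calc t⁻¹ * (s * t * s⁻¹) * A = t⁻¹ * (s * t) * (s⁻¹ * A) := by group
    _ = t⁻¹ * (s * t) * (A * s⁻¹) := by rw [e1]
    _ = t⁻¹ * (s * (t * A * t⁻¹)) * t * s⁻¹ := by group
    _ = t⁻¹ * (t * A * t⁻¹ * s) * t * s⁻¹ := by rw [e2]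
    _ = A * (t⁻¹ * (s * t * s⁻¹)) := by group

theorem fix_conj_aux {G : Type*} [Group G] {t s c w : G} (h1 : Commute t c)
    (h2 : s * t * s⁻¹ = t * w) (h4 : Commute w (s * c * s⁻¹)) :
    t⁻¹ * (c⁻¹ * (s * c * s⁻¹)) * t = c⁻¹ * (s * c * s⁻¹) := by
  have e1 : t⁻¹ * s * t = w * s := by
    have h : s * t = t * w * s := by
      rw [← h2]
      group
    calc t⁻¹ * s * t = t⁻¹ * (s * t) := by group
      _ = t⁻¹ * (t * w * s) := by rw [h]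
      _ = w * s := by group
  have e2 : t⁻¹ * c * t = c := by
    calc t⁻¹ * c * t = t⁻¹ * (c * t) := by group
      _ = t⁻¹ * (t * c) := by rw [h1.eq]
      _ = c := by group
  have e3 : w * (s * c * s⁻¹) * w⁻¹ = s * c * s⁻¹ := by
    rw [h4.eq]
    group
  calc t⁻¹ * (c⁻¹ * (s * c * s⁻¹)) * t
      = (t⁻¹ * c * t)⁻¹ * ((t⁻¹ * s * t) * (t⁻¹ * c * t) * (t⁻¹ * s * t)⁻¹) := by group
    _ = c⁻¹ * ((w * s) * c * (w * s)⁻¹) := by rw [e1, e2]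
    _ = c⁻¹ * (w * (s * c * s⁻¹) * w⁻¹) := by group
    _ = c⁻¹ * (s * c * s⁻¹) := by rw [e3]

variable {T P X : Subgroup Ω}

/-- Transport of a kernel map: it becomes conjugation by an element of `S`. -/
theorem exists_rep [Finite S] {p : ℕ} [Fact p.Prime] (hS : IsPGroup p S)
    (F : FusionSystem S) (hF : F.IsSaturated p) (hT : F.StronglyClosed T)
    (hP : TCen F T P) (hX : X ≤ centralizerIn S T) {ν : ↥(P ⊔ X) →* Ω} (hν : KMap F P X ν) :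
    ∃ ψ ∈ F.Hom (normalizerIn S (P ⊔ X)), ∃ s ∈ S,
      ∀ (u : ↥(P ⊔ X)) (h1 : (u : Ω) ∈ normalizerIn S (P ⊔ X))
        (h2 : ν u ∈ normalizerIn S (P ⊔ X)), ψ ⟨ν u, h2⟩ = s * ψ ⟨u, h1⟩ * s⁻¹ := by
  have hPT := hP.1
  have hTS := hT.1
  have hUS : P ⊔ X ≤ S := sup_le_S hTS hPT hX
  obtain ⟨δ, hδ, hδx⟩ := exists_aut_of_maps F hν.1 (hν.maps hPT hX)
  obtain ⟨ψ, hψ, s, hs, hrep⟩ := exists_conj_rep hS F hF hT hUS hδ (fun x => by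
      rw [hδx]
      exact hPT (hν.quot_mem hPT hX x)) (fun x hx => by
      apply Subtype.ext
      rw [hδx]
      exact hν.2.1 x (mem_P_of_mem_T hP (hPT.trans hTS) hX x.2 hx))
  refine ⟨ψ, hψ, s, hs, fun u h1 h2 => ?_⟩
  have h3 := hrep u
  have e1 : (⟨((δ u : ↥(P ⊔ X)) : Ω), le_normalizerIn hUS (δ u).2⟩ : ↥(normalizerIn S (P ⊔ X)))
      = ⟨ν u, h2⟩ := Subtype.ext (hδx u)
  rw [e1] at h3
  exact h3

/-- With `ψ`, `s` as in `exists_rep`: `s` moves `ψ(t)`, `t ∈ N_T(P)`, by an element of `ψ(Z(P))`. -/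
theorem rep_conj {F : FusionSystem S} (hT : F.StronglyClosed T)
    (hP : TCen F T P) (hX : X ≤ centralizerIn S T) {ν : ↥(P ⊔ X) →* Ω} (hν : KMap F P X ν)
    {ψ : ↥(normalizerIn S (P ⊔ X)) →* Ω} (hψ : ψ ∈ F.Hom (normalizerIn S (P ⊔ X))) {s : Ω}
    (hs : s ∈ S)
    (hrep : ∀ (u : ↥(P ⊔ X)) (h1 : (u : Ω) ∈ normalizerIn S (P ⊔ X))
        (h2 : ν u ∈ normalizerIn S (P ⊔ X)), ψ ⟨ν u, h2⟩ = s * ψ ⟨u, h1⟩ * s⁻¹)
    {t : Ω} (ht : t ∈ normalizerIn T P) (htN : t ∈ normalizerIn S (P ⊔ X)) :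
    ∃ (y : Ω) (_ : y ∈ P) (hyN : y ∈ normalizerIn S (P ⊔ X)),
      s * ψ ⟨t, htN⟩ * s⁻¹ = ψ ⟨t, htN⟩ * ψ ⟨y, hyN⟩ ∧
      ∀ (x : Ω) (_ : x ∈ P) (hxN : x ∈ normalizerIn S (P ⊔ X)),
        Commute (ψ ⟨y, hyN⟩) (ψ ⟨x, hxN⟩) := by
  have hPT := hP.1
  have hTS := hT.1
  have hUS : P ⊔ X ≤ S := sup_le_S hTS hPT hX
  have hPN : P ≤ normalizerIn S (P ⊔ X) := le_sup_left.trans (le_normalizerIn hUS)
  -- `s` commutes with `ψ(x)`, `x ∈ P`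
  have hsx : ∀ (x : Ω) (hx : x ∈ P), Commute s (ψ ⟨x, hPN hx⟩) := by
    intro x hx
    have h3 := hrep ⟨x, Subgroup.mem_sup_left hx⟩ (hPN hx)
      (by rw [hν.2.1 _ hx]; exact hPN hx)
    have e1 : (⟨ν ⟨x, Subgroup.mem_sup_left hx⟩, by rw [hν.2.1 _ hx]; exact hPN hx⟩ :
        ↥(normalizerIn S (P ⊔ X))) = ⟨x, hPN hx⟩ := Subtype.ext (hν.2.1 _ hx)
    rw [e1] at h3
    show s * ψ ⟨x, hPN hx⟩ = ψ ⟨x, hPN hx⟩ * s
    calc s * ψ ⟨x, hPN hx⟩ = s * ψ ⟨x, hPN hx⟩ * s⁻¹ * s := by group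
      _ = ψ ⟨x, hPN hx⟩ * s := by rw [← h3]
  have htT : ψ ⟨t, htN⟩ ∈ T := map_mem_sc F hT hψ ⟨t, htN⟩ ht.1
  have hzT : (ψ ⟨t, htN⟩)⁻¹ * (s * ψ ⟨t, htN⟩ * s⁻¹) ∈ T :=
    T.mul_mem (T.inv_mem htT) (helper89.conj_mem_of_stronglyClosed F hT hs htT)
  have hcomm : ∀ (x : Ω) (hx : x ∈ P),
      Commute ((ψ ⟨t, htN⟩)⁻¹ * (s * ψ ⟨t, htN⟩ * s⁻¹)) (ψ ⟨x, hPN hx⟩) := by
    intro x hx
    have hx' : t * x * t⁻¹ ∈ P := (Subgroup.mem_normalizer_iff.mp ht.2 x).mp hx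
    have e1 : ψ ⟨t, htN⟩ * ψ ⟨x, hPN hx⟩ * (ψ ⟨t, htN⟩)⁻¹ = ψ ⟨t * x * t⁻¹, hPN hx'⟩ := by
      rw [← map_inv, ← map_mul, ← map_mul]
      rfl
    refine comm_conj_aux (hsx x hx) ?_
    rw [e1]
    exact hsx _ hx'
  have hcen : (ψ ⟨t, htN⟩)⁻¹ * (s * ψ ⟨t, htN⟩ * s⁻¹) ∈
      centralizerIn T ((P.subgroupOf (normalizerIn S (P ⊔ X))).map ψ) := by
    refine ⟨hzT, ?_⟩
    show _ ∈ Subgroup.centralizer _
    rw [Subgroup.mem_centralizer_iff]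
    rintro _ ⟨x, hx, rfl⟩
    exact (hcomm x hx).eq.symm
  obtain ⟨y, hy, hyz⟩ := hP.2 _ (isConj_map F hPN hψ) hcen
  have hyP : (y : Ω) ∈ P := hy
  refine ⟨(y : Ω), hyP, y.2, ?_, fun x hx hxN => ?_⟩
  · rw [hyz]
    group
  · rw [hyz]
    exact hcomm x hx

/-- The elements `c⁻¹ ν(c)` of a kernel map are centralized by `N_T(P)`. -/
theorem kmap_comm [Finite S] {p : ℕ} [Fact p.Prime] (hS : IsPGroup p S)
    (F : FusionSystem S) (hF : F.IsSaturated p) (hT : F.StronglyClosed T)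
    (hP : TCen F T P) (hX : X ≤ centralizerIn S T) {ν : ↥(P ⊔ X) →* Ω} (hν : KMap F P X ν)
    {t : Ω} (ht : t ∈ normalizerIn T P) (c : ↥(P ⊔ X)) (hc : (c : Ω) ∈ X) :
    t * ((c : Ω)⁻¹ * ν c) * t⁻¹ = (c : Ω)⁻¹ * ν c := by
  have hPT := hP.1
  have hTS := hT.1
  have hUS : P ⊔ X ≤ S := sup_le_S hTS hPT hX
  have hUN : P ⊔ X ≤ normalizerIn S (P ⊔ X) := le_normalizerIn hUS
  have hPN : P ≤ normalizerIn S (P ⊔ X) := le_sup_left.trans hUN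
  have hTN := normalizerIn_T_le hTS hPT hX (P := P) (X := X)
  obtain ⟨ψ, hψ, s, hs, hrep⟩ := exists_rep hS F hF hT hP hX hν
  have hinj := F.injective_of_mem hψ
  have key : ∀ t' : Ω, t' ∈ normalizerIn T P →
      t'⁻¹ * ((c : Ω)⁻¹ * ν c) * t' = (c : Ω)⁻¹ * ν c := by
    intro t' ht'
    have ht'N := hTN ht'
    obtain ⟨y, hyP, hyN, hconj, hycomm⟩ := rep_conj hT hP hX hν hψ hs hrep ht' ht'N
    have hzP : (c : Ω)⁻¹ * ν c ∈ P := hν.2.2 c hc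
    have hcN : (c : Ω) ∈ normalizerIn S (P ⊔ X) := hUN c.2
    have hνcN : ν c ∈ normalizerIn S (P ⊔ X) := hUN (hν.maps hPT hX c)
    have hνc := hrep c hcN hνcN
    have hz : ψ ⟨(c : Ω)⁻¹ * ν c, hPN hzP⟩ = (ψ ⟨c, hcN⟩)⁻¹ * (s * ψ ⟨c, hcN⟩ * s⁻¹) := by
      rw [← hνc, ← map_inv, ← map_mul]
      rfl
    have hz' : t'⁻¹ * ((c : Ω)⁻¹ * ν c) * t' ∈ normalizerIn S (P ⊔ X) :=
      Subgroup.mul_mem _ (Subgroup.mul_mem _ (Subgroup.inv_mem _ ht'N) (hPN hzP)) ht'N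
    have goal : ψ ⟨t'⁻¹ * ((c : Ω)⁻¹ * ν c) * t', hz'⟩ = ψ ⟨(c : Ω)⁻¹ * ν c, hPN hzP⟩ := by
      have e1 : (⟨t'⁻¹ * ((c : Ω)⁻¹ * ν c) * t', hz'⟩ : ↥(normalizerIn S (P ⊔ X)))
          = (⟨t', ht'N⟩)⁻¹ * ⟨(c : Ω)⁻¹ * ν c, hPN hzP⟩ * ⟨t', ht'N⟩ := rfl
      rw [e1, map_mul, map_mul, map_inv, hz]
      refine fix_conj_aux ?_ hconj ?_
      · have h3 : (⟨t', ht'N⟩ : ↥(normalizerIn S (P ⊔ X))) * ⟨c, hcN⟩ = ⟨c, hcN⟩ * ⟨t', ht'N⟩ :=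
          Subtype.ext (comm_of_mem hX hc ht'.1).symm
        show ψ _ * ψ _ = ψ _ * ψ _
        rw [← map_mul, ← map_mul, h3]
      · rw [← hνc]
        have e2 : (⟨ν c, hνcN⟩ : ↥(normalizerIn S (P ⊔ X)))
            = ⟨c, hcN⟩ * ⟨(c : Ω)⁻¹ * ν c, hPN hzP⟩ :=
          Subtype.ext (by
            show ν c = (c : Ω) * ((c : Ω)⁻¹ * ν c)
            group)
        rw [e2, map_mul]
        refine Commute.mul_right ?_ (hycomm _ hzP _)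
        have h3 : (⟨y, hyN⟩ : ↥(normalizerIn S (P ⊔ X))) * ⟨c, hcN⟩ = ⟨c, hcN⟩ * ⟨y, hyN⟩ :=
          Subtype.ext (comm_of_mem hX hc (hPT hyP)).symm
        show ψ _ * ψ _ = ψ _ * ψ _
        rw [← map_mul, ← map_mul, h3]
    exact congrArg Subtype.val (hinj goal)
  have h1 := key t⁻¹ ((normalizerIn T P).inv_mem ht)
  rwa [inv_inv] at h1

/-- A kernel map extends to an automorphism of `N_T(P) X` in the system. -/
theorem exists_kmap_ext [Finite S] {p : ℕ} [Fact p.Prime] (hS : IsPGroup p S)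
    (F : FusionSystem S) (hF : F.IsSaturated p) (hT : F.StronglyClosed T)
    (hP : TCen F T P) (hX : X ≤ centralizerIn S T) {ν : ↥(P ⊔ X) →* Ω} (hν : KMap F P X ν) :
    ∃ ν₁ ∈ F.autGroup (normalizerIn T P ⊔ X),
      ∀ (u : ↥(P ⊔ X)) (hu : (u : Ω) ∈ normalizerIn T P ⊔ X),
        ((ν₁ ⟨u, hu⟩ : ↥(normalizerIn T P ⊔ X)) : Ω) = ν u := by
  have hPT := hP.1
  have hTS := hT.1
  have hUS : P ⊔ X ≤ S := sup_le_S hTS hPT hX
  have hUN : P ⊔ X ≤ normalizerIn S (P ⊔ X) := le_normalizerIn hUS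
  have hPN : P ≤ normalizerIn S (P ⊔ X) := le_sup_left.trans hUN
  have hTN := normalizerIn_T_le hTS hPT hX (P := P) (X := X)
  have hU₁N : normalizerIn T P ⊔ X ≤ normalizerIn S (P ⊔ X) :=
    sup_le hTN (le_sup_right.trans hUN)
  have hPP₁ : P ≤ normalizerIn T P := le_normalizerIn hPT
  have hUU₁ : P ⊔ X ≤ normalizerIn T P ⊔ X := sup_le_sup_right hPP₁ X
  obtain ⟨ψ, hψ, s, hs, hrep⟩ := exists_rep hS F hF hT hP hX hν
  have hinj := F.injective_of_mem hψ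
  have hψ₁ : ψ.comp (Subgroup.inclusion hU₁N) ∈ F.Hom (normalizerIn T P ⊔ X) :=
    restrict_mem F hU₁N hψ
  obtain ⟨e, he, hex⟩ := exists_isoEquiv F hψ₁ rfl
  have hRS : (ψ.comp (Subgroup.inclusion hU₁N)).range ≤ S := he.le_right
  haveI : Finite ↥(ψ.comp (Subgroup.inclusion hU₁N)).range := finite_of_le hRS
  have hmem : ∀ u : ↥(normalizerIn T P ⊔ X),
      ((MulAut.conj s).toMonoidHom.comp (ψ.comp (Subgroup.inclusion hU₁N))) u ∈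
        (ψ.comp (Subgroup.inclusion hU₁N)).range := by
    refine sup_forall_mem _ _ ?_ ?_
    · intro u hu
      obtain ⟨y, hyP, hyN, hconj, -⟩ := rep_conj hT hP hX hν hψ hs hrep hu (hTN hu)
      refine ⟨u * ⟨y, Subgroup.mem_sup_left (hPP₁ hyP)⟩, ?_⟩
      show ψ (Subgroup.inclusion hU₁N (u * ⟨y, Subgroup.mem_sup_left (hPP₁ hyP)⟩))
        = s * ψ (Subgroup.inclusion hU₁N u) * s⁻¹
      rw [map_mul, map_mul]
      exact hconj.symm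
    · intro u hu
      have h3 := hrep ⟨u, Subgroup.mem_sup_right hu⟩ (hU₁N u.2) (hUN (hν.maps hPT hX _))
      refine ⟨⟨ν ⟨u, Subgroup.mem_sup_right hu⟩, hUU₁ (hν.maps hPT hX _)⟩, ?_⟩
      exact h3
  have hsN : s ∈ Subgroup.normalizer ((ψ.comp (Subgroup.inclusion hU₁N)).range : Set Ω) := by
    apply mem_normalizer_of_conj_mem
    rintro _ ⟨u, rfl⟩
    exact hmem u
  refine ⟨MulAut.congr e.symm (conjAut _ s hsN),
    he.symm.congr_mem (autInducedBy_le_autGroup F hRS (conjAut_mem S _ s hsN hs)), ?_⟩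
  intro u hu
  have h3 := hrep u (hUN u.2) (hUN (hν.maps hPT hX u))
  have h4 : e (MulAut.congr e.symm (conjAut _ s hsN) ⟨u, hu⟩) = conjAut _ s hsN (e ⟨u, hu⟩) := by
    simp [MulAut.congr]
  have h5 := congrArg Subtype.val h4
  rw [hex, conjAut_apply, hex] at h5
  have h6 : ψ (Subgroup.inclusion hU₁N (MulAut.congr e.symm (conjAut _ s hsN) ⟨u, hu⟩))
      = ψ ⟨ν u, hUN (hν.maps hPT hX u)⟩ := by
    rw [h3]
    exact h5
  exact congrArg Subtype.val (hinj h6)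

end Cfsg.Agent.Lib.helper88.CSE
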