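import Cfsg.Agent.Lib.helper88.CSE2

/-!
Centralizers of normal subsystems, part 3 (helper88): lifts of isomorphisms of a normal subsystem
`E` to `P X` (`P` centric in `E`, `X ≤ C_S(T)`), and the set `KSet` of elements `u⁻¹ ν(u)` of
kernel maps, which is carried to the corresponding set by isomorphisms of `E`.
-/

set_option autoImplicit false

namespace Cfsg.Agent.Lib.helper88.CSE

open Cfsg Cfsg.FusionSystem
open Cfsg.Agent.Lib.helper88
open Cfsg.Agent.Lib.helper87.Craven (sup_forall_mem)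

variable {Ω : Type*} [Group Ω] {S : Subgroup Ω}

/-- An isomorphism `e : P → P'` of the normal subsystem `E`, `P` centric in `E`, lifts to an
isomorphism `P X → P' X` of `F` moving the elements of `X ≤ C_S(T)` by elements of `Z(P')`. -/
theorem exists_iso_lift [Finite S] {p : ℕ} [Fact p.Prime] (hS : IsPGroup p S)
    (F : FusionSystem S) (hF : F.IsSaturated p) {T : Subgroup Ω} (E : FusionSystem T)
    (hE : E.IsNormalIn F p) {P P' : Subgroup Ω} (hPc : E.IsCentric P) {e : P ≃* P'}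
    (he : IsoEquiv E e) {X : Subgroup Ω} (hX : X ≤ centralizerIn S T) :
    ∃ ê : ↥(P ⊔ X) ≃* ↥(P' ⊔ X), IsoEquiv F ê ∧
      (∀ x : P, ((ê ⟨x, Subgroup.mem_sup_left x.2⟩ : ↥(P' ⊔ X)) : Ω) = e x) ∧
      ∀ c : ↥(P ⊔ X), (c : Ω) ∈ X →
        (c : Ω)⁻¹ * ((ê c : ↥(P' ⊔ X)) : Ω) ∈ P' ⊓ Subgroup.centralizer (P' : Set Ω) := by
  have hPT := hPc.1
  have hP'T : P' ≤ T := he.le_right
  have hφ : P'.subtype.comp e.toMonoidHom ∈ E.Hom P := he.1
  obtain ⟨ψ, hψ, hψP, hψC⟩ :=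
    Cfsg.Agent.Lib.helper87.CenNormal.good_of_normal hS F hF E hE hPc hφ
  have hle : P ⊔ X ≤ P ⊔ centralizerIn S T := sup_le_sup_left hX P
  have hψX : ψ.comp (Subgroup.inclusion hle) ∈ F.Hom (P ⊔ X) := restrict_mem F hle hψ
  have hψP' : ∀ (u : ↥(P ⊔ X)) (hu : (u : Ω) ∈ P),
      ψ (Subgroup.inclusion hle u) = e ⟨u, hu⟩ := fun u hu => hψP ⟨u, hu⟩
  have hg : ∀ c : ↥(P ⊔ X), (c : Ω) ∈ X →
      (c : Ω)⁻¹ * ψ (Subgroup.inclusion hle c) ∈ P' ⊓ Subgroup.centralizer (P' : Set Ω) := by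
    intro c hc
    have h1 := Cfsg.Agent.Lib.helper87.Craven.good_u_mem E hPc hφ hψP hψC
      (Subgroup.inclusion hle c) (hX hc)
    refine Subgroup.mem_inf.mpr ⟨?_, ?_⟩
    · obtain ⟨x, hx⟩ := h1
      have h2 : (c : Ω)⁻¹ * ψ (Subgroup.inclusion hle c) = ((e x : P') : Ω) := hx.symm
      rw [h2]
      exact (e x).2
    · rw [Subgroup.mem_centralizer_iff]
      intro y hy
      have hyc : Commute y (c : Ω) := (comm_of_mem hX hc (hP'T hy)).symm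
      have hxc : (⟨(e.symm ⟨y, hy⟩ : P), Subgroup.mem_sup_left
          (e.symm ⟨y, hy⟩).2⟩ : ↥(P ⊔ X)) * c = c *
          ⟨(e.symm ⟨y, hy⟩ : P), Subgroup.mem_sup_left (e.symm ⟨y, hy⟩).2⟩ :=
        Subtype.ext (comm_of_mem hX hc (hPT (e.symm ⟨y, hy⟩).2)).symm
      have hy' : ψ (Subgroup.inclusion hle ⟨(e.symm ⟨y, hy⟩ : P), Subgroup.mem_sup_left
          (e.symm ⟨y, hy⟩).2⟩) = y := by
        have h2 := hψP (e.symm ⟨y, hy⟩)
        rw [show (P'.subtype.comp e.toMonoidHom) (e.symm ⟨y, hy⟩) = y by simp] at h2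
        exact h2
      have hyψ : Commute y (ψ (Subgroup.inclusion hle c)) := by
        have h5 := congrArg (fun v => ψ (Subgroup.inclusion hle v)) hxc
        simp only [map_mul] at h5
        rw [hy'] at h5
        exact h5
      exact (hyc.inv_right.mul_right hyψ).eq
  have hrange : (ψ.comp (Subgroup.inclusion hle)).range = P' ⊔ X := by
    apply le_antisymm
    · rintro _ ⟨u, rfl⟩
      refine sup_forall_mem (ψ.comp (Subgroup.inclusion hle)) (P' ⊔ X) (fun x hx => ?_)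
        (fun c hc => ?_) u
      · show ψ (Subgroup.inclusion hle x) ∈ P' ⊔ X
        rw [hψP' x hx]
        exact Subgroup.mem_sup_left (e _).2
      · show ψ (Subgroup.inclusion hle c) ∈ P' ⊔ X
        have h1 : ψ (Subgroup.inclusion hle c)
            = (c : Ω) * ((c : Ω)⁻¹ * ψ (Subgroup.inclusion hle c)) := by group
        rw [h1]
        exact Subgroup.mul_mem _ (Subgroup.mem_sup_right hc) (Subgroup.mem_sup_left (hg c hc).1)
    · refine sup_le ?_ ?_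
      · intro y hy
        refine ⟨⟨(e.symm ⟨y, hy⟩ : P), Subgroup.mem_sup_left (e.symm ⟨y, hy⟩).2⟩, ?_⟩
        have h2 := hψP (e.symm ⟨y, hy⟩)
        rw [show (P'.subtype.comp e.toMonoidHom) (e.symm ⟨y, hy⟩) = y by simp] at h2
        exact h2
      · intro c hc
        have hgc := (hg ⟨c, Subgroup.mem_sup_right hc⟩ hc).1
        obtain ⟨g, hgdef⟩ : ∃ g : Ω, g = c⁻¹ * ψ (Subgroup.inclusion hle
          ⟨c, Subgroup.mem_sup_right hc⟩) := ⟨_, rfl⟩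
        have hgP' : g ∈ P' := by
          rw [hgdef]
          exact hgc
        obtain ⟨w, hw⟩ : ∃ w : P, w = e.symm (⟨g, hgP'⟩ : P')⁻¹ := ⟨_, rfl⟩
        have h2 : ψ (Subgroup.inclusion hle ⟨(w : Ω), Subgroup.mem_sup_left w.2⟩) = g⁻¹ := by
          rw [hψP' _ w.2]
          have h3 : (⟨((⟨(w : Ω), Subgroup.mem_sup_left w.2⟩ : ↥(P ⊔ X)) : Ω), w.2⟩ : P) = w := rfl
          rw [h3, hw, MulEquiv.apply_symm_apply]
          rfl
        refine ⟨⟨c, Subgroup.mem_sup_right hc⟩ * ⟨(w : Ω), Subgroup.mem_sup_left w.2⟩, ?_⟩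
        show ψ (Subgroup.inclusion hle (⟨c, Subgroup.mem_sup_right hc⟩ *
          ⟨(w : Ω), Subgroup.mem_sup_left w.2⟩)) = c
        rw [map_mul, map_mul, h2, hgdef]
        group
  obtain ⟨ê, hê, hêx⟩ := exists_isoEquiv F hψX hrange
  refine ⟨ê, hê, fun x => ?_, fun c hc => ?_⟩
  · rw [hêx]
    exact hψP x
  · rw [hêx]
    exact hg c hc

/-- The elements `u⁻¹ ν(u)`, `ν` a kernel map on `P X`. -/
def KSet (F : FusionSystem S) (P X : Subgroup Ω) : Set Ω :=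
  {z | ∃ ν : ↥(P ⊔ X) →* Ω, KMap F P X ν ∧ ∃ u : ↥(P ⊔ X), z = (u : Ω)⁻¹ * ν u}

theorem kset_le {F : FusionSystem S} {T P X : Subgroup Ω} (hPT : P ≤ T)
    (hX : X ≤ centralizerIn S T) {z : Ω} (hz : z ∈ KSet F P X) : z ∈ P := by
  obtain ⟨ν, hν, u, rfl⟩ := hz
  exact hν.quot_mem hPT hX u

theorem KMap.quot_eq {F : FusionSystem S} {T P X : Subgroup Ω} {ν : ↥(P ⊔ X) →* Ω}
    (hν : KMap F P X ν) (hPT : P ≤ T) (hX : X ≤ centralizerIn S T) (u : ↥(P ⊔ X)) :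
    ∃ c : ↥(P ⊔ X), (c : Ω) ∈ X ∧ (u : Ω)⁻¹ * ν u = (c : Ω)⁻¹ * ν c := by
  obtain ⟨a, ha, c, hc, hac⟩ := exists_mul_of_mem hPT hX u.2
  have hu : u = ⟨a, Subgroup.mem_sup_left ha⟩ * ⟨c, Subgroup.mem_sup_right hc⟩ :=
    Subtype.ext hac.symm
  refine ⟨⟨c, Subgroup.mem_sup_right hc⟩, hc, ?_⟩
  rw [hu, map_mul, hν.2.1 _ ha]
  show (a * c)⁻¹ * (a * ν ⟨c, Subgroup.mem_sup_right hc⟩) = _
  group

/-- The elements of `KSet` are centralized by `N_T(P)`. -/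
theorem kset_comm [Finite S] {p : ℕ} [Fact p.Prime] (hS : IsPGroup p S)
    (F : FusionSystem S) (hF : F.IsSaturated p) {T P X : Subgroup Ω} (hT : F.StronglyClosed T)
    (hP : TCen F T P) (hX : X ≤ centralizerIn S T) {z : Ω} (hz : z ∈ KSet F P X)
    {t : Ω} (ht : t ∈ normalizerIn T P) : t * z * t⁻¹ = z := by
  obtain ⟨ν, hν, u, rfl⟩ := hz
  obtain ⟨c, hc, hcu⟩ := hν.quot_eq hP.1 hX u
  rw [hcu]
  exact kmap_comm hS F hF hT hP hX hν ht c hc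

/-- Isomorphisms of `E` carry `KSet` to `KSet`. -/
theorem kset_iso [Finite S] {p : ℕ} [Fact p.Prime] (hS : IsPGroup p S)
    (F : FusionSystem S) (hF : F.IsSaturated p) {T : Subgroup Ω} (E : FusionSystem T)
    (hE : E.IsNormalIn F p) {P P' : Subgroup Ω} (hPc : E.IsCentric P) {e : P ≃* P'}
    (he : IsoEquiv E e) {X : Subgroup Ω} (hX : X ≤ centralizerIn S T) {z : Ω}
    (hz : z ∈ KSet F P X) (hzP : z ∈ P) : ((e ⟨z, hzP⟩ : P') : Ω) ∈ KSet F P' X := by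
  obtain ⟨ν, hν, u₀, rfl⟩ := hz
  have hinv := hE.1.2.2
  have hT := hinv.2.1
  have hTS := hT.1
  have hPT := hPc.1
  have hP'T : P' ≤ T := he.le_right
  have hP : TCen F T P := tCen_of_isCentric hinv hPc
  obtain ⟨ê, hê, hêP, hêX⟩ := exists_iso_lift hS F hF E hE hPc he hX
  obtain ⟨δ, hδ, hδx⟩ := exists_aut_of_maps F hν.1 (hν.maps hPT hX)
  have hν' : MulAut.congr ê δ ∈ F.autGroup (P' ⊔ X) := hê.congr_mem hδ
  have hval : ∀ u : ↥(P ⊔ X), (MulAut.congr ê δ) (ê u) = ê (δ u) := by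
    intro u
    simp [MulAut.congr]
  have hkey : ∀ (u : ↥(P ⊔ X)) (hk : (u : Ω)⁻¹ * ν u ∈ P),
      ((ê (δ u) : ↥(P' ⊔ X)) : Ω) = (ê u : Ω) * (e ⟨(u : Ω)⁻¹ * ν u, hk⟩ : Ω) := by
    intro u hk
    have e1 : δ u = u * ⟨(u : Ω)⁻¹ * ν u, Subgroup.mem_sup_left hk⟩ := by
      apply Subtype.ext
      rw [hδx]
      show ν u = (u : Ω) * ((u : Ω)⁻¹ * ν u)
      group
    rw [e1, map_mul, Subgroup.coe_mul]
    congr 1
    exact hêP ⟨_, hk⟩
  refine ⟨(P' ⊔ X).subtype.comp (MulAut.congr ê δ).toMonoidHom,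
    ⟨(mem_autGroup_iff' F (sup_le_S hTS hP'T hX) _).mp hν', ?_, ?_⟩, ê u₀, ?_⟩
  · intro x' hx'
    obtain ⟨u, rfl⟩ := ê.surjective x'
    show ((MulAut.congr ê δ (ê u) : ↥(P' ⊔ X)) : Ω) = ê u
    rw [hval]
    have huT : (u : Ω) ∈ T := by
      have h3 := map_mem_sc F hT hê.2 (ê u) (hP'T hx')
      simpa using h3
    have huP : (u : Ω) ∈ P := mem_P_of_mem_T hP (hPT.trans hTS) hX u.2 huT
    have h4 : δ u = u := Subtype.ext (by rw [hδx]; exact hν.2.1 u huP)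
    rw [h4]
  · intro c hc
    obtain ⟨u, rfl⟩ := ê.surjective c
    show ((ê u : ↥(P' ⊔ X)) : Ω)⁻¹ * ((MulAut.congr ê δ (ê u) : ↥(P' ⊔ X)) : Ω) ∈ P'
    rw [hval, hkey u (hν.quot_mem hPT hX u), inv_mul_cancel_left]
    exact (e _).2
  · show _ = ((ê u₀ : ↥(P' ⊔ X)) : Ω)⁻¹ * ((MulAut.congr ê δ (ê u₀) : ↥(P' ⊔ X)) : Ω)
    rw [hval, hkey u₀ hzP, inv_mul_cancel_left]

/-- The key lemma transfers along isomorphisms of `E`. -/
theorem kl_of_iso [Finite S] {p : ℕ} [Fact p.Prime] (hS : IsPGroup p S)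
    (F : FusionSystem S) (hF : F.IsSaturated p) {T : Subgroup Ω} (E : FusionSystem T)
    (hE : E.IsNormalIn F p) {P P' : Subgroup Ω} (hPc : E.IsCentric P) {e : P ≃* P'}
    (he : IsoEquiv E e) {X : Subgroup Ω} (hX : X ≤ centralizerIn S T)
    (h' : ∀ a' ∈ E.autGroup P', ∀ z' ∈ KSet F P' X, ∀ hz' : z' ∈ P',
      ((a' ⟨z', hz'⟩ : P') : Ω) = z') :
    ∀ a ∈ E.autGroup P, ∀ z ∈ KSet F P X, ∀ hz : z ∈ P, ((a ⟨z, hz⟩ : P) : Ω) = z := by
  intro a ha z hz hzP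
  have h1 := kset_iso hS F hF E hE hPc he hX hz hzP
  have h2 := h' (MulAut.congr e a) (he.congr_mem ha) _ h1 (e ⟨z, hzP⟩).2
  have h3 : (MulAut.congr e a) ⟨((e ⟨z, hzP⟩ : P') : Ω), (e ⟨z, hzP⟩).2⟩ = e (a ⟨z, hzP⟩) := by
    simp [MulAut.congr]
  rw [h3] at h2
  have h4 : a ⟨z, hzP⟩ = ⟨z, hzP⟩ := e.injective (Subtype.ext h2)
  exact congrArg Subtype.val h4

end Cfsg.Agent.Lib.helper88.CSE
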