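import Cfsg.Agent.Lib.helper88.CSE3

/-!
Centralizers of normal subsystems, part 4 (helper88): the key lemma.  For `P` centric in the normal
subsystem `E` and `X ≤ C_S(T)`, every automorphism of `P` in `E` fixes the elements `u⁻¹ ν(u)` of
the kernel maps `ν` on `P X`.
-/

set_option autoImplicit false

namespace Cfsg.Agent.Lib.helper88.CSE

open Cfsg Cfsg.FusionSystem
open Cfsg.Agent.Lib.helper88
open Cfsg.Agent.Lib.helper87.Craven (sup_forall_mem)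

variable {Ω : Type*} [Group Ω] {S : Subgroup Ω}

/-- The key lemma for `P = T`. -/
theorem kl_top [Finite S] {p : ℕ} [Fact p.Prime] (hS : IsPGroup p S)
    (F : FusionSystem S) (hF : F.IsSaturated p) {T : Subgroup Ω} (E : FusionSystem T)
    (hE : E.IsNormalIn F p) {X : Subgroup Ω} (hX : X ≤ centralizerIn S T) :
    ∀ a ∈ E.autGroup T, ∀ z ∈ KSet F T X, ∀ hz : z ∈ T, ((a ⟨z, hz⟩ : T) : Ω) = z := by
  intro a ha z hz hzT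
  have hinv := hE.1.2.2
  have hT := hinv.2.1
  have hTS := hT.1
  haveI : Finite T := finite_of_le hTS
  have hTc : E.IsCentric T := Cfsg.Agent.Lib.helper87.isCentric_top E
  have hP : TCen F T T := tCen_of_isCentric hinv hTc
  obtain ⟨ν, hν, u, rfl⟩ := hz
  obtain ⟨c, hc, hcu⟩ := hν.quot_eq le_rfl hX u
  have hUS : T ⊔ X ≤ S := sup_le_S hTS le_rfl hX
  have hUN : T ⊔ X ≤ normalizerIn S (T ⊔ X) := le_normalizerIn hUS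
  have hTN : T ≤ normalizerIn S (T ⊔ X) := le_sup_left.trans hUN
  obtain ⟨ψ, hψ, s, hs, hrep⟩ := exists_rep hS F hF hT hP hX hν
  have hψT : ψ.comp (Subgroup.inclusion hTN) ∈ F.Hom T := restrict_mem F hTN hψ
  obtain ⟨β, hβ, hβx⟩ := exists_aut_of_maps F hψT (fun t => map_mem_sc F hT hψ _ t.2)
  have hβx' : ∀ t : T, ((β t : T) : Ω) = ψ ⟨t, hTN t.2⟩ := fun t => hβx t
  have hfixT : ∀ t : T, ψ ⟨t, hTN t.2⟩ = s * ψ ⟨t, hTN t.2⟩ * s⁻¹ := by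
    intro t
    have h2 : ν ⟨t, Subgroup.mem_sup_left t.2⟩ ∈ normalizerIn S (T ⊔ X) := by
      rw [hν.2.1 _ t.2]
      exact hTN t.2
    have h3 := hrep ⟨t, Subgroup.mem_sup_left t.2⟩ (hTN t.2) h2
    have e1 : (⟨ν ⟨t, Subgroup.mem_sup_left t.2⟩, h2⟩ : ↥(normalizerIn S (T ⊔ X)))
        = ⟨t, hTN t.2⟩ := Subtype.ext (hν.2.1 _ t.2)
    rw [e1] at h3
    exact h3
  have hsQ : s ∈ centralizerIn S T := by
    refine Subgroup.mem_inf.mpr ⟨hs, Subgroup.mem_centralizer_iff.mpr fun t ht => ?_⟩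
    obtain ⟨t', ht'⟩ := β.surjective ⟨t, ht⟩
    have h4 : t = ψ ⟨t', hTN t'.2⟩ := by
      rw [← hβx', ht']
    have h5 := hfixT t'
    rw [← h4] at h5
    calc t * s = (s * t * s⁻¹) * s := by rw [← h5]
      _ = s * t := by group
  have hxQ : ψ ⟨c, hUN c.2⟩ ∈ centralizerIn S T := by
    refine Subgroup.mem_inf.mpr ⟨(F.le_of_mem hψ).2 _,
      Subgroup.mem_centralizer_iff.mpr fun t ht => ?_⟩
    obtain ⟨t', ht'⟩ := β.surjective ⟨t, ht⟩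
    have h4 : t = ψ ⟨t', hTN t'.2⟩ := by
      rw [← hβx', ht']
    rw [h4, ← map_mul, ← map_mul]
    congr 1
    apply Subtype.ext
    exact (comm_of_mem hX hc t'.2).symm
  have hνcN : ν c ∈ normalizerIn S (T ⊔ X) := hUN (hν.maps le_rfl hX c)
  have hzT' : (c : Ω)⁻¹ * ν c ∈ T := hcu ▸ hzT
  have hgval : ((β ⟨(c : Ω)⁻¹ * ν c, hzT'⟩ : T) : Ω)
      = (ψ ⟨c, hUN c.2⟩)⁻¹ * (s * ψ ⟨c, hUN c.2⟩ * s⁻¹) := by
    rw [hβx', ← hrep c (hUN c.2) hνcN, ← map_inv, ← map_mul]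
    congr 1
  have ha' : β * a * β⁻¹ ∈ E.autGroup T := conj_mem_autGroup_of_invariant hinv le_rfl hβ ha
  obtain ⟨-, -, -, Ψ, hΨ, hΨP, hΨg⟩ :=
    Cfsg.Agent.Lib.helper87.CenNormal.fix_of_comm hS F hF E hE hTc ha' hxQ hsQ
  have hgT : (ψ ⟨c, hUN c.2⟩)⁻¹ * (s * ψ ⟨c, hUN c.2⟩ * s⁻¹) ∈ T := by
    rw [← hgval]
    exact (β _).2
  have e1 := hΨP ⟨_, hgT⟩
  have e2 := hΨg ⟨_, Subgroup.mem_zpowers _⟩
  have e3 : (Subgroup.inclusion le_sup_left ⟨_, hgT⟩ :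
      ↥(T ⊔ Subgroup.zpowers ((ψ ⟨c, hUN c.2⟩)⁻¹ * (s * ψ ⟨c, hUN c.2⟩ * s⁻¹))))
      = Subgroup.inclusion le_sup_right ⟨_, Subgroup.mem_zpowers _⟩ := Subtype.ext rfl
  rw [e3, e2] at e1
  have e4 : (⟨_, hgT⟩ : T) = β ⟨(c : Ω)⁻¹ * ν c, hzT'⟩ := Subtype.ext hgval.symm
  rw [e4] at e1
  have e5 : (β * a * β⁻¹) (β ⟨(c : Ω)⁻¹ * ν c, hzT'⟩) = β (a ⟨(c : Ω)⁻¹ * ν c, hzT'⟩) := by
    simp
  have e6 : β (a ⟨(c : Ω)⁻¹ * ν c, hzT'⟩) = β ⟨(c : Ω)⁻¹ * ν c, hzT'⟩ := by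
    apply Subtype.ext
    rw [← e5]
    exact e1.symm.trans hgval.symm
  have e7 := β.injective e6
  have e8 : (⟨(u : Ω)⁻¹ * ν u, hzT⟩ : T) = ⟨(c : Ω)⁻¹ * ν c, hzT'⟩ := Subtype.ext hcu
  rw [e8, e7]
  exact hcu.symm

section calculus

variable {P₁ X : Subgroup Ω}

/-- `α` acts trivially on `P₁ X / P₁`. -/
def QT (P₁ X : Subgroup Ω) (α : MulAut ↥(P₁ ⊔ X)) : Prop :=
  ∀ u : ↥(P₁ ⊔ X), (u : Ω)⁻¹ * ((α u : ↥(P₁ ⊔ X)) : Ω) ∈ P₁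

theorem QT.mul {α β : MulAut ↥(P₁ ⊔ X)} (hα : QT P₁ X α) (hβ : QT P₁ X β) :
    QT P₁ X (α * β) := by
  intro u
  have h1 : (u : Ω)⁻¹ * (((α * β) u : ↥(P₁ ⊔ X)) : Ω)
      = ((u : Ω)⁻¹ * ((β u : ↥(P₁ ⊔ X)) : Ω))
        * (((β u : ↥(P₁ ⊔ X)) : Ω)⁻¹ * ((α (β u) : ↥(P₁ ⊔ X)) : Ω)) := by
    rw [MulAut.mul_apply]
    group
  rw [h1]
  exact Subgroup.mul_mem _ (hβ u) (hα (β u))

theorem QT.inv {α : MulAut ↥(P₁ ⊔ X)} (hα : QT P₁ X α) : QT P₁ X α⁻¹ := by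
  intro u
  have h := hα (α⁻¹ u)
  rw [MulAut.apply_inv_self] at h
  have h1 : (u : Ω)⁻¹ * ((α⁻¹ u : ↥(P₁ ⊔ X)) : Ω)
      = (((α⁻¹ u : ↥(P₁ ⊔ X)) : Ω)⁻¹ * (u : Ω))⁻¹ := by group
  rw [h1]
  exact Subgroup.inv_mem _ h

theorem QT.of {T : Subgroup Ω} (hP₁T : P₁ ≤ T) (hX : X ≤ centralizerIn S T)
    {α : MulAut ↥(P₁ ⊔ X)}
    (h1 : ∀ y : ↥(P₁ ⊔ X), (y : Ω) ∈ P₁ → ((α y : ↥(P₁ ⊔ X)) : Ω) ∈ P₁)
    (h2 : ∀ c : ↥(P₁ ⊔ X), (c : Ω) ∈ X → (c : Ω)⁻¹ * ((α c : ↥(P₁ ⊔ X)) : Ω) ∈ P₁) :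
    QT P₁ X α := by
  intro u
  obtain ⟨a, ha, c, hc, hac⟩ := exists_mul_of_mem hP₁T hX u.2
  have hu : u = ⟨a, Subgroup.mem_sup_left ha⟩ * ⟨c, Subgroup.mem_sup_right hc⟩ :=
    Subtype.ext hac.symm
  have h3 := h1 ⟨a, Subgroup.mem_sup_left ha⟩ ha
  have h4 := h2 ⟨c, Subgroup.mem_sup_right hc⟩ hc
  obtain ⟨A, hA⟩ : ∃ A : Ω, A = ((α ⟨a, Subgroup.mem_sup_left ha⟩ : ↥(P₁ ⊔ X)) : Ω) := ⟨_, rfl⟩
  obtain ⟨C, hC⟩ : ∃ C : Ω, C = ((α ⟨c, Subgroup.mem_sup_right hc⟩ : ↥(P₁ ⊔ X)) : Ω) := ⟨_, rfl⟩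
  rw [← hA] at h3
  rw [← hC] at h4
  have h5 : a⁻¹ * A ∈ P₁ := P₁.mul_mem (P₁.inv_mem ha) h3
  have hcomm : c⁻¹ * (a⁻¹ * A) = (a⁻¹ * A) * c⁻¹ :=
    (Commute.inv_left (show Commute c (a⁻¹ * A) from comm_of_mem hX hc (hP₁T h5))).eq
  have h6 : (u : Ω)⁻¹ * ((α u : ↥(P₁ ⊔ X)) : Ω) = (a⁻¹ * A) * (c⁻¹ * C) := by
    rw [hu, map_mul]
    show (a * c)⁻¹ * (((α ⟨a, Subgroup.mem_sup_left ha⟩ : ↥(P₁ ⊔ X)) : Ω)
      * ((α ⟨c, Subgroup.mem_sup_right hc⟩ : ↥(P₁ ⊔ X)) : Ω)) = _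
    rw [← hA, ← hC]
    calc (a * c)⁻¹ * (A * C) = c⁻¹ * (a⁻¹ * A) * C := by group
      _ = (a⁻¹ * A) * c⁻¹ * C := by rw [hcomm]
      _ = _ := by group
  rw [h6]
  exact P₁.mul_mem h5 h4

/-- `α` restricts to `α'` on `P₁`. -/
def Compat (P₁ X : Subgroup Ω) (α : MulAut ↥(P₁ ⊔ X)) (α' : MulAut P₁) : Prop :=
  ∀ t : P₁, α (Subgroup.inclusion le_sup_left t) = Subgroup.inclusion le_sup_left (α' t)

theorem Compat.mul {α β : MulAut ↥(P₁ ⊔ X)} {α' β' : MulAut P₁} (h1 : Compat P₁ X α α')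
    (h2 : Compat P₁ X β β') : Compat P₁ X (α * β) (α' * β') := by
  intro t
  rw [MulAut.mul_apply, MulAut.mul_apply, h2 t, h1]

theorem Compat.inv {α : MulAut ↥(P₁ ⊔ X)} {α' : MulAut P₁} (h : Compat P₁ X α α') :
    Compat P₁ X α⁻¹ α'⁻¹ := by
  intro t
  apply α.injective
  rw [MulAut.apply_inv_self, h, MulAut.apply_inv_self]

theorem Compat.val {α : MulAut ↥(P₁ ⊔ X)} {α' : MulAut P₁} (h : Compat P₁ X α α')
    (y : ↥(P₁ ⊔ X)) (hy : (y : Ω) ∈ P₁) :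
    ((α y : ↥(P₁ ⊔ X)) : Ω) = ((α' ⟨y, hy⟩ : P₁) : Ω) := by
  have h1 := h ⟨y, hy⟩
  have e : Subgroup.inclusion le_sup_left (⟨y, hy⟩ : P₁) = y := Subtype.ext rfl
  rw [e] at h1
  rw [h1]
  rfl

theorem Compat.maps {α : MulAut ↥(P₁ ⊔ X)} {α' : MulAut P₁} (h : Compat P₁ X α α')
    (y : ↥(P₁ ⊔ X)) (hy : (y : Ω) ∈ P₁) : ((α y : ↥(P₁ ⊔ X)) : Ω) ∈ P₁ := by
  rw [h.val y hy]
  exact (α' _).2

end calculus

theorem aut_inv_fix {G : Type*} [Group G] {α : MulAut G} {w : G} (h : α w = w) :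
    α⁻¹ w = w := by
  have h1 : α⁻¹ (α w) = α⁻¹ w := by rw [h]
  rw [MulAut.inv_apply_self] at h1
  exact h1.symm

theorem pow_fix_aux {H : Type*} [Group H] (n : MulAut H) (z : H)
    (h : n (n z * z⁻¹) = n z * z⁻¹) (k : ℕ) : (n ^ k) z = (n z * z⁻¹) ^ k * z := by
  induction k with
  | zero => simp
  | succ k ih =>
    rw [pow_succ', MulAut.mul_apply, ih, map_mul, map_pow, h, pow_succ, mul_assoc,
      inv_mul_cancel_right]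

theorem eq_one_of_pow_coprime {H : Type*} [Group H] {p : ℕ} {y : H} {m k : ℕ}
    (hm : m.Coprime p) (h1 : y ^ m = 1) (h2 : y ^ p ^ k = 1) : y = 1 := by
  have h3 : orderOf y ∣ m := orderOf_dvd_of_pow_eq_one h1
  have h4 : orderOf y ∣ p ^ k := orderOf_dvd_of_pow_eq_one h2
  have h5 : orderOf y = 1 := Nat.eq_one_of_dvd_coprimes (Nat.Coprime.pow_right k hm) h3 h4
  exact orderOf_eq_one_iff.mp h5

/-- Frattini argument: a subgroup `Fix` normalized by `G`, containing a Sylow subgroup `R` of `G`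
and the elements `n` of `N_G(R)` (given with a power of exponent prime to `p` in `R`),
contains `G`. -/
theorem frattini_le {A : Type*} [Group A] {p : ℕ} [Fact p.Prime] (G R Fix : Subgroup A) [Finite G]
    (hR : ∃ R₀ : Sylow p G, (R₀ : Subgroup G) = R.subgroupOf G) (hRG : R ≤ G)
    (hnormal : ∀ b ∈ G, ∀ a ∈ Fix, b * a * b⁻¹ ∈ Fix)
    (hRFix : R ≤ Fix)
    (hN : ∀ n ∈ G, (∀ d ∈ R, n * d * n⁻¹ ∈ R) → ∀ m : ℕ, m.Coprime p → n ^ m ∈ R → n ∈ Fix) :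
    G ≤ Fix := by
  obtain ⟨R₀, hR₀⟩ := hR
  haveI : (Fix.subgroupOf G).Normal := by
    constructor
    intro a ha b
    rw [Subgroup.mem_subgroupOf] at ha ⊢
    exact hnormal b b.2 a ha
  have hle : (R₀ : Subgroup G) ≤ Fix.subgroupOf G := by
    rw [hR₀]
    intro a ha
    rw [Subgroup.mem_subgroupOf] at ha ⊢
    exact hRFix ha
  have htop := Sylow.normalizer_sup_eq_top' R₀ hle
  have hnle : Subgroup.normalizer (R₀ : Set G) ≤ Fix.subgroupOf G := by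
    intro n hn
    have hn' : n ∈ Subgroup.normalizer ((R₀ : Subgroup G) : Set G) := hn
    rw [Subgroup.mem_subgroupOf]
    have hnorm : ∀ d ∈ R, (n : A) * d * (n : A)⁻¹ ∈ R := by
      intro d hd
      have hd' : (⟨d, hRG hd⟩ : G) ∈ (R₀ : Subgroup G) := by
        rw [hR₀, Subgroup.mem_subgroupOf]
        exact hd
      have h1 := (Subgroup.mem_normalizer_iff.mp hn' ⟨d, hRG hd⟩).mp hd'
      rw [hR₀, Subgroup.mem_subgroupOf] at h1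
      exact h1
    obtain ⟨e, m, hm, ho⟩ := Nat.exists_eq_pow_mul_and_not_dvd (orderOf_pos n).ne' p
      (Fact.out : p.Prime).ne_one
    have hpow : (n ^ m) ^ p ^ e = 1 := by
      rw [← pow_mul, mul_comm, ← ho, pow_orderOf_eq_one]
    have hpg := isPGroup_zpowers_of_pow_eq_one hpow
    have h1 := hpg.inf_normalizer_sylow R₀
    have h2 : n ^ m ∈ Subgroup.zpowers (n ^ m) ⊓ Subgroup.normalizer (R₀ : Set G) :=
      Subgroup.mem_inf.mpr ⟨Subgroup.mem_zpowers _, pow_mem hn m⟩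
    rw [h1] at h2
    have h3 : n ^ m ∈ (R₀ : Subgroup G) := (Subgroup.mem_inf.mp h2).2
    rw [hR₀, Subgroup.mem_subgroupOf] at h3
    exact hN n n.2 hnorm m ((Nat.Prime.coprime_iff_not_dvd Fact.out).mpr hm).symm h3
  have htop' : Fix.subgroupOf G = ⊤ := by
    rw [← htop]
    exact (sup_eq_right.mpr hnle).symm
  intro a ha
  have h4 : (⟨a, ha⟩ : G) ∈ Fix.subgroupOf G := by
    rw [htop']
    trivial
  exact Subgroup.mem_subgroupOf.mp h4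

/-- An automorphism `n` of a receptive subgroup `P` normalizing `Aut_T(P)` extends to an
automorphism of `N_T(P)`. -/
theorem exists_ext_normalizerIn {T : Subgroup Ω} [Finite T] (E : FusionSystem T) {P : Subgroup Ω}
    (hrec : E.IsReceptive P) {n : MulAut P} (hn : n ∈ E.autGroup P)
    (hnorm : ∀ d ∈ autInducedBy T P, n * d * n⁻¹ ∈ autInducedBy T P) :
    ∃ b₁ ∈ E.autGroup (normalizerIn T P),
      ∀ x : P, ((b₁ ⟨x, le_normalizerIn hrec.1 x.2⟩ : ↥(normalizerIn T P)) : Ω) = n x := by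
  have hPT := hrec.1
  haveI : Finite P := finite_of_le hPT
  have hφ : P.subtype.comp n.toMonoidHom ∈ E.Hom P := (mem_autGroup_iff' E hPT n).mp hn
  have hrange : (P.subtype.comp n.toMonoidHom).range = P := by
    ext y
    constructor
    · rintro ⟨x, rfl⟩
      exact (n x).2
    · intro hy
      exact ⟨n.symm ⟨y, hy⟩, by simp⟩
  obtain ⟨ψ, hψ, hψP⟩ := hrec.2 P _ hφ hrange
  have hle : normalizerIn T P ≤ extender T P (P.subtype.comp n.toMonoidHom) := by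
    intro g hg
    rw [mem_extender_iff]
    refine ⟨hg.1, hg.2, ?_⟩
    have hd := hnorm _ (conjAut_mem T P g hg.2 hg.1)
    obtain ⟨h, hh, hhx⟩ := (mem_autInducedBy_iff T P _).mp hd
    refine ⟨h, hh, fun x hx => ?_⟩
    have h1 := hhx (n x)
    have h2 : (n * conjAut P g hg.2 * n⁻¹) (n x) = n ⟨g * x * g⁻¹, hx⟩ := by
      rw [MulAut.mul_apply, MulAut.mul_apply, MulAut.inv_apply_self]
      rfl
    rw [h2] at h1
    exact h1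
  have hψ₁ : ψ.comp (Subgroup.inclusion hle) ∈ E.Hom (normalizerIn T P) := restrict_mem E hle hψ
  have hPP₁ : P ≤ normalizerIn T P := le_normalizerIn hPT
  have hval : ∀ x : P, ψ ⟨x, hle (hPP₁ x.2)⟩ = n x := fun x => hψP x x.2 _
  have hmaps : ∀ u : ↥(normalizerIn T P),
      (ψ.comp (Subgroup.inclusion hle)) u ∈ normalizerIn T P := by
    intro u
    refine Subgroup.mem_inf.mpr ⟨(E.le_of_mem hψ).2 _, mem_normalizer_of_conj_mem ?_⟩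
    intro y hy
    obtain ⟨x, hx⟩ := n.surjective ⟨y, hy⟩
    have hux : (u : Ω) * x * (u : Ω)⁻¹ ∈ P := (Subgroup.mem_normalizer_iff.mp u.2.2 x).mp x.2
    have hy' : y = ψ ⟨x, hle (hPP₁ x.2)⟩ := by
      rw [hval, hx]
    have h3 : ψ ⟨u, hle u.2⟩ * y * (ψ ⟨u, hle u.2⟩)⁻¹ = n ⟨(u : Ω) * x * (u : Ω)⁻¹, hux⟩ := by
      rw [← hval ⟨_, hux⟩, hy', ← map_inv, ← map_mul, ← map_mul]
      rfl
    show ψ ⟨u, hle u.2⟩ * y * (ψ ⟨u, hle u.2⟩)⁻¹ ∈ P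
    rw [h3]
    exact (n _).2
  obtain ⟨b₁, hb₁, hb₁x⟩ := exists_aut_of_maps (S := T) E hψ₁ hmaps
  exact ⟨b₁, hb₁, fun x => (hb₁x _).trans (hval x)⟩

/-- The core computation of the key lemma. -/
theorem kl_core [Finite S] {p : ℕ} [Fact p.Prime] (hS : IsPGroup p S)
    (F : FusionSystem S) (hF : F.IsSaturated p) {T : Subgroup Ω} (E : FusionSystem T)
    (hE : E.IsNormalIn F p) {P P₁ : Subgroup Ω} (hPc : E.IsCentric P) (hPP₁ : P ≤ P₁)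
    (hP₁T : P₁ ≤ T) (hP₁N : P₁ ≤ Subgroup.normalizer (P : Set Ω))
    {X : Subgroup Ω} (hX : X ≤ centralizerIn S T)
    (hIH : ∀ a₁ ∈ E.autGroup P₁, ∀ z₁ ∈ KSet F P₁ X, ∀ hz₁ : z₁ ∈ P₁,
      ((a₁ ⟨z₁, hz₁⟩ : P₁) : Ω) = z₁)
    {n : MulAut P} {b₁ : MulAut P₁} (hb₁ : b₁ ∈ E.autGroup P₁)
    (hb₁n : ∀ x : P, ((b₁ ⟨x, hPP₁ x.2⟩ : P₁) : Ω) = n x)
    {ν : ↥(P ⊔ X) →* Ω} (hν : KMap F P X ν) {ν₁ : MulAut ↥(P₁ ⊔ X)}
    (hν₁ : ν₁ ∈ F.autGroup (P₁ ⊔ X))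
    (hν₁x : ∀ (u : ↥(P ⊔ X)) (hu : (u : Ω) ∈ P₁ ⊔ X), ((ν₁ ⟨u, hu⟩ : ↥(P₁ ⊔ X)) : Ω) = ν u)
    (c : ↥(P ⊔ X)) (hc : (c : Ω) ∈ X) (hzP : (c : Ω)⁻¹ * ν c ∈ P) :
    n (n ⟨(c : Ω)⁻¹ * ν c, hzP⟩ * ⟨(c : Ω)⁻¹ * ν c, hzP⟩⁻¹)
      = n ⟨(c : Ω)⁻¹ * ν c, hzP⟩ * ⟨(c : Ω)⁻¹ * ν c, hzP⟩⁻¹ := by
  have hinv := hE.1.2.2
  have hEsat := hE.1.1
  have hT := hinv.2.1
  have hTS := hT.1
  haveI : Finite T := finite_of_le hTS
  have hTp : IsPGroup p T := hS.to_le hTS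
  have hPT := hPc.1
  have hP : TCen F T P := tCen_of_isCentric hinv hPc
  have hP₁c : E.IsCentric P₁ := IsCentric.of_le hPc hPP₁ hP₁T
  have hP₁ : TCen F T P₁ := tCen_of_isCentric hinv hP₁c
  have hP₁S : P₁ ≤ S := hP₁T.trans hTS
  have hU₁S : P₁ ⊔ X ≤ S := sup_le_S hTS hP₁T hX
  have hPU : P ⊔ X ≤ P₁ ⊔ X := sup_le_sup_right hPP₁ X
  -- the lift `β₁` of `b₁`
  have heb : IsoEquiv E b₁ := (mem_autGroup_iff E hP₁T b₁).mp hb₁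
  obtain ⟨β₁, hβ₁, hβ₁P, hβ₁X⟩ : ∃ β₁ : MulAut ↥(P₁ ⊔ X), β₁ ∈ F.autGroup (P₁ ⊔ X) ∧
      (∀ x : P₁, ((β₁ ⟨x, Subgroup.mem_sup_left x.2⟩ : ↥(P₁ ⊔ X)) : Ω) = b₁ x) ∧
      ∀ c : ↥(P₁ ⊔ X), (c : Ω) ∈ X →
        (c : Ω)⁻¹ * ((β₁ c : ↥(P₁ ⊔ X)) : Ω) ∈ P₁ ⊓ Subgroup.centralizer (P₁ : Set Ω) := by
    obtain ⟨ê, hê, hêP, hêX⟩ := exists_iso_lift hS F hF E hE hP₁c heb hX
    exact ⟨ê, (mem_autGroup_iff F hU₁S ê).mpr hê, hêP, hêX⟩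
  -- the restriction `η` of `ν₁` to `P₁`
  have hν₁P₁ : ∀ t : P₁, ((ν₁ (Subgroup.inclusion le_sup_left t) : ↥(P₁ ⊔ X)) : Ω) ∈ P₁ := by
    intro t
    have h1 := Cfsg.Agent.Lib.helper89.aut_mem_of_stronglyClosed F hT hU₁S hν₁
      (Subgroup.inclusion le_sup_left t) (hP₁T t.2)
    exact mem_P_of_mem_T hP₁ hP₁S hX (ν₁ _).2 h1
  have hν₁h : (P₁ ⊔ X).subtype.comp ν₁.toMonoidHom ∈ F.Hom (P₁ ⊔ X) :=
    (mem_autGroup_iff' F hU₁S ν₁).mp hν₁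
  have hηh : ((P₁ ⊔ X).subtype.comp ν₁.toMonoidHom).comp (Subgroup.inclusion le_sup_left)
      ∈ F.Hom P₁ := restrict_mem F le_sup_left hν₁h
  obtain ⟨η, hη, hηx⟩ := exists_aut_of_maps F hηh hν₁P₁
  have hCβ : Compat P₁ X β₁ b₁ := fun t => Subtype.ext (hβ₁P t)
  have hCν : Compat P₁ X ν₁ η := fun t => Subtype.ext (hηx t).symm
  obtain ⟨δ, hδdef⟩ : ∃ δ : MulAut P₁, δ = b₁ * η * b₁⁻¹ * η⁻¹ := ⟨_, rfl⟩
  have hδE : δ ∈ E.autGroup P₁ := by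
    rw [hδdef]
    have h1 : η * b₁⁻¹ * η⁻¹ ∈ E.autGroup P₁ :=
      conj_mem_autGroup_of_invariant hinv hP₁T hη (inv_mem hb₁)
    have h2 : b₁ * η * b₁⁻¹ * η⁻¹ = b₁ * (η * b₁⁻¹ * η⁻¹) := by group
    rw [h2]
    exact mul_mem hb₁ h1
  obtain ⟨κ₁, hκ₁def⟩ : ∃ κ₁ : MulAut ↥(P₁ ⊔ X), κ₁ = β₁ * ν₁ * β₁⁻¹ * ν₁⁻¹ := ⟨_, rfl⟩
  have hCκ₁ : Compat P₁ X κ₁ δ := by
    rw [hκ₁def, hδdef]
    exact ((hCβ.mul hCν).mul hCβ.inv).mul hCν.inv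
  -- `δ` is the identity on `P`
  have hηP : ∀ x : P, η ⟨x, hPP₁ x.2⟩ = ⟨x, hPP₁ x.2⟩ := by
    intro x
    apply Subtype.ext
    rw [hηx]
    have h1 := hν₁x ⟨x, Subgroup.mem_sup_left x.2⟩ (Subgroup.mem_sup_left (hPP₁ x.2))
    exact h1.trans (hν.2.1 _ x.2)
  have hδP : ∀ x : P, δ ⟨x, hPP₁ x.2⟩ = ⟨x, hPP₁ x.2⟩ := by
    intro x
    have e1 : η⁻¹ ⟨x, hPP₁ x.2⟩ = ⟨x, hPP₁ x.2⟩ := aut_inv_fix (hηP x)
    have e2 : b₁ ⟨(n⁻¹ x : P), hPP₁ (n⁻¹ x).2⟩ = ⟨x, hPP₁ x.2⟩ := by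
      apply Subtype.ext
      rw [hb₁n]
      simp
    have e3 : b₁⁻¹ ⟨x, hPP₁ x.2⟩ = ⟨(n⁻¹ x : P), hPP₁ (n⁻¹ x).2⟩ := by
      rw [← e2, MulAut.inv_apply_self]
    rw [hδdef]
    simp only [MulAut.mul_apply]
    rw [e1, e3, hηP, e2]
  have hφ1 : P₁.subtype.comp (1 : MulAut P₁).toMonoidHom ∈ E.Hom P₁ :=
    (mem_autGroup_iff' E hP₁T 1).mp (one_mem _)
  have hφδ : P₁.subtype.comp δ.toMonoidHom ∈ E.Hom P₁ := (mem_autGroup_iff' E hP₁T δ).mp hδE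
  obtain ⟨z₀, hz₀P, hz₀C, hz₀⟩ := exists_center_conj_of_agree_normal hTp E hEsat hPP₁ hP₁N hPc
    hφ1 hφδ (fun x hx => by
      have h1 := hδP ⟨x, hx⟩
      show ((x : P₁) : Ω) = ((δ x : P₁) : Ω)
      exact (congrArg Subtype.val h1).symm)
  have hδval : ∀ y : P₁, ((δ y : P₁) : Ω) = (z₀ : Ω) * y * (z₀ : Ω)⁻¹ := fun y => hz₀ y
  have hz₀N : (z₀ : Ω) ∈ Subgroup.normalizer ((P₁ ⊔ X : Subgroup Ω) : Set Ω) :=
    Subgroup.le_normalizer (Subgroup.mem_sup_left z₀.2)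
  have hγ : conjAut (P₁ ⊔ X) (z₀ : Ω) hz₀N ∈ F.autGroup (P₁ ⊔ X) :=
    autInducedBy_le_autGroup F hU₁S (conjAut_mem S (P₁ ⊔ X) z₀ hz₀N (hP₁S z₀.2))
  obtain ⟨κ, hκdef⟩ : ∃ κ : MulAut ↥(P₁ ⊔ X),
      κ = (conjAut (P₁ ⊔ X) (z₀ : Ω) hz₀N)⁻¹ * κ₁ := ⟨_, rfl⟩
  have hκ : κ ∈ F.autGroup (P₁ ⊔ X) := by
    rw [hκdef, hκ₁def]
    exact mul_mem (inv_mem hγ) (mul_mem (mul_mem (mul_mem hβ₁ hν₁) (inv_mem hβ₁)) (inv_mem hν₁))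
  have hQβ : QT P₁ X β₁ := QT.of hP₁T hX hCβ.maps (fun c hc => (hβ₁X c hc).1)
  have hQν : QT P₁ X ν₁ := QT.of hP₁T hX hCν.maps (fun c hc => by
    have h3 : ((ν₁ c : ↥(P₁ ⊔ X)) : Ω) = ν ⟨c, Subgroup.mem_sup_right hc⟩ :=
      hν₁x ⟨c, Subgroup.mem_sup_right hc⟩ c.2
    rw [h3]
    exact hPP₁ (hν.2.2 ⟨c, Subgroup.mem_sup_right hc⟩ hc))
  have hQγ : QT P₁ X (conjAut (P₁ ⊔ X) (z₀ : Ω) hz₀N)⁻¹ := QT.of hP₁T hX (fun y hy => by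
    rw [conjAut_inv_apply]
    exact P₁.mul_mem (P₁.mul_mem (P₁.inv_mem z₀.2) hy) z₀.2) (fun c hc => by
    rw [conjAut_inv_apply]
    have hcz := comm_of_mem hX hc (hP₁T z₀.2)
    have h1 : (c : Ω)⁻¹ * ((z₀ : Ω)⁻¹ * c * z₀) = 1 := by
      rw [mul_assoc, hcz]
      group
    rw [h1]
    exact P₁.one_mem)
  have hQκ : QT P₁ X κ := by
    rw [hκdef, hκ₁def]
    exact hQγ.mul (((hQβ.mul hQν).mul hQβ.inv).mul hQν.inv)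
  have hκK : KMap F P₁ X ((P₁ ⊔ X).subtype.comp κ.toMonoidHom) := by
    refine ⟨(mem_autGroup_iff' F hU₁S κ).mp hκ, fun x hx => ?_, fun c hc => hQκ c⟩
    show ((κ x : ↥(P₁ ⊔ X)) : Ω) = x
    rw [hκdef, MulAut.mul_apply, conjAut_inv_apply, hCκ₁.val x hx, hδval]
    group
  -- evaluation at `c`
  obtain ⟨cU, hcU⟩ : ∃ cU : ↥(P₁ ⊔ X), cU = ⟨(c : Ω), hPU c.2⟩ := ⟨_, rfl⟩
  have hcUv : (cU : Ω) = c := by rw [hcU]
  have hcUX : (cU : Ω) ∈ X := by rw [hcUv]; exact hc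
  obtain ⟨zU, hzU⟩ : ∃ zU : ↥(P₁ ⊔ X),
      zU = ⟨(c : Ω)⁻¹ * ν c, Subgroup.mem_sup_left (hPP₁ hzP)⟩ := ⟨_, rfl⟩
  have hzUv : (zU : Ω) = (c : Ω)⁻¹ * ν c := by rw [hzU]
  obtain ⟨gU, hgU⟩ : ∃ gU : ↥(P₁ ⊔ X), gU = cU⁻¹ * β₁ cU := ⟨_, rfl⟩
  obtain ⟨nz, hnz⟩ : ∃ nz : ↥(P₁ ⊔ X), nz = ⟨((n ⟨(c : Ω)⁻¹ * ν c, hzP⟩ : P) : Ω),
      Subgroup.mem_sup_left (hPP₁ (n ⟨(c : Ω)⁻¹ * ν c, hzP⟩).2)⟩ := ⟨_, rfl⟩
  have hnzv : (nz : Ω) = ((n ⟨(c : Ω)⁻¹ * ν c, hzP⟩ : P) : Ω) := by rw [hnz]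
  have hg : (gU : Ω) ∈ P₁ ⊓ Subgroup.centralizer (P₁ : Set Ω) := by
    rw [hgU]
    exact hβ₁X cU hcUX
  have hgP₁ : (gU : Ω) ∈ P₁ := (Subgroup.mem_inf.mp hg).1
  have hgC : (gU : Ω) ∈ Subgroup.centralizer (P₁ : Set Ω) := (Subgroup.mem_inf.mp hg).2
  have hgP : (gU : Ω) ∈ P := hP.2 P (isConj_refl F (hPT.trans hTS))
    (Subgroup.mem_inf.mpr ⟨hP₁T hgP₁, Subgroup.centralizer_le hPP₁ hgC⟩)
  have F1 : ν₁ cU = cU * zU := by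
    apply Subtype.ext
    have h1 : ((ν₁ cU : ↥(P₁ ⊔ X)) : Ω) = ν c := by
      rw [hcU]
      exact hν₁x c (hPU c.2)
    rw [h1, Subgroup.coe_mul, hcUv, hzUv]
    group
  have F2 : β₁ cU = cU * gU := by
    rw [hgU, mul_inv_cancel_left]
  have F3 : ν₁ gU = gU := by
    apply Subtype.ext
    have h1 := hν₁x ⟨(gU : Ω), Subgroup.mem_sup_left hgP⟩ gU.2
    exact h1.trans (hν.2.1 _ hgP)
  have F4 : β₁ zU = nz := by
    apply Subtype.ext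
    have hzUP₁ : (zU : Ω) ∈ P₁ := by rw [hzUv]; exact hPP₁ hzP
    rw [hCβ.val zU hzUP₁, hnzv]
    have e : (⟨(zU : Ω), hzUP₁⟩ : P₁) = ⟨((⟨(c : Ω)⁻¹ * ν c, hzP⟩ : P) : Ω), hPP₁ hzP⟩ :=
      Subtype.ext hzUv
    rw [e]
    exact hb₁n ⟨(c : Ω)⁻¹ * ν c, hzP⟩
  have F5 : κ₁ (zU * gU) = zU * gU := by
    have hwP : ((zU * gU : ↥(P₁ ⊔ X)) : Ω) ∈ P := by
      rw [Subgroup.coe_mul, hzUv]
      exact P.mul_mem hzP hgP
    apply Subtype.ext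
    rw [hCκ₁.val _ (hPP₁ hwP)]
    exact congrArg Subtype.val (hδP ⟨_, hwP⟩)
  have F6 : gU * nz = nz * gU := by
    apply Subtype.ext
    rw [Subgroup.coe_mul, Subgroup.coe_mul, hnzv]
    exact (Subgroup.mem_centralizer_iff.mp hgC _ (hPP₁ (n ⟨(c : Ω)⁻¹ * ν c, hzP⟩).2)).symm
  have F7 : (conjAut (P₁ ⊔ X) (z₀ : Ω) hz₀N)⁻¹ cU = cU := by
    apply Subtype.ext
    rw [conjAut_inv_apply, mul_assoc, comm_of_mem hX hcUX (hP₁T z₀.2), inv_mul_cancel_left]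
  have F8 : (conjAut (P₁ ⊔ X) (z₀ : Ω) hz₀N)⁻¹ (nz * zU⁻¹) = nz * zU⁻¹ := by
    apply Subtype.ext
    have hwP : ((nz * zU⁻¹ : ↥(P₁ ⊔ X)) : Ω) ∈ P := by
      rw [Subgroup.coe_mul, Subgroup.coe_inv, hzUv, hnzv]
      exact P.mul_mem (n ⟨(c : Ω)⁻¹ * ν c, hzP⟩).2 (P.inv_mem hzP)
    rw [conjAut_inv_apply, mul_assoc, Subgroup.mem_centralizer_iff.mp hz₀C _ hwP,
      inv_mul_cancel_left]
  have h1 : ν₁ (β₁ cU) = cU * (zU * gU) := by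
    rw [F2, map_mul, F1, F3, mul_assoc]
  have h2 : β₁ (ν₁ cU) = cU * gU * nz := by
    rw [F1, map_mul, F2, F4]
  have h3 : κ₁ (ν₁ (β₁ cU)) = β₁ (ν₁ cU) := by
    rw [hκ₁def]
    simp
  rw [h1, map_mul, F5, h2] at h3
  have h4 : κ₁ cU = cU * (nz * zU⁻¹) := by
    have h5 : κ₁ cU = cU * gU * nz * (zU * gU)⁻¹ := by
      rw [← h3, mul_inv_cancel_right]
    rw [h5, mul_assoc cU gU nz, F6]
    group
  have h6 : κ cU = cU * (nz * zU⁻¹) := by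
    rw [hκdef, MulAut.mul_apply, h4, map_mul, F7, F8]
  -- conclusion
  obtain ⟨y, hy⟩ : ∃ y : P, y = n ⟨(c : Ω)⁻¹ * ν c, hzP⟩ * ⟨(c : Ω)⁻¹ * ν c, hzP⟩⁻¹ := ⟨_, rfl⟩
  rw [← hy]
  have hyv : (y : Ω) = (nz : Ω) * (zU : Ω)⁻¹ := by
    rw [hy, hnzv, hzUv]
    rfl
  have hyK : (y : Ω) ∈ KSet F P₁ X := by
    refine ⟨_, hκK, cU, ?_⟩
    show (y : Ω) = (cU : Ω)⁻¹ * ((κ cU : ↥(P₁ ⊔ X)) : Ω)
    rw [h6, hyv]
    simp
  have h7 := hIH b₁ hb₁ (y : Ω) hyK (hPP₁ y.2)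
  apply Subtype.ext
  rw [← hb₁n y]
  exact h7

/-- Inductive step of the key lemma: `P` fully normalized and centric in `E`. -/
theorem kl_step [Finite S] {p : ℕ} [Fact p.Prime] (hS : IsPGroup p S)
    (F : FusionSystem S) (hF : F.IsSaturated p) {T : Subgroup Ω} (E : FusionSystem T)
    (hE : E.IsNormalIn F p) {P : Subgroup Ω} (hPc : E.IsCentric P) (hPfn : E.IsFullyNormalized P)
    {X : Subgroup Ω} (hX : X ≤ centralizerIn S T)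
    (hIH : ∀ a₁ ∈ E.autGroup (normalizerIn T P), ∀ z₁ ∈ KSet F (normalizerIn T P) X,
      ∀ hz₁ : z₁ ∈ normalizerIn T P, ((a₁ ⟨z₁, hz₁⟩ : ↥(normalizerIn T P)) : Ω) = z₁) :
    ∀ a ∈ E.autGroup P, ∀ z ∈ KSet F P X, ∀ hz : z ∈ P, ((a ⟨z, hz⟩ : P) : Ω) = z := by
  have hinv := hE.1.2.2
  have hEsat := hE.1.1
  have hT := hinv.2.1
  have hTS := hT.1
  haveI : Finite T := finite_of_le hTS
  have hTp : IsPGroup p T := hS.to_le hTS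
  have hPT := hPc.1
  haveI : Finite P := finite_of_le (hPT.trans hTS)
  have hP : TCen F T P := tCen_of_isCentric hinv hPc
  obtain ⟨hfa, hrec⟩ := fullyAutomized_receptive_of_fullyNormalized hTp E hEsat hPfn
  have hPP₁ : P ≤ normalizerIn T P := le_normalizerIn hPT
  have hP₁T : normalizerIn T P ≤ T := inf_le_left
  have hP₁N : normalizerIn T P ≤ Subgroup.normalizer (P : Set Ω) := inf_le_right
  let Fix : Subgroup (MulAut P) :=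
    { carrier := {a | ∀ z ∈ KSet F P X, ∀ hz : z ∈ P, ((a ⟨z, hz⟩ : P) : Ω) = z}
      mul_mem' := by
        intro a b ha hb z hz hzP
        have h1 : b ⟨z, hzP⟩ = ⟨z, hzP⟩ := Subtype.ext (hb z hz hzP)
        rw [MulAut.mul_apply, h1]
        exact ha z hz hzP
      one_mem' := fun z hz hzP => rfl
      inv_mem' := by
        intro a ha z hz hzP
        have h1 : a ⟨z, hzP⟩ = ⟨z, hzP⟩ := Subtype.ext (ha z hz hzP)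
        exact congrArg Subtype.val (aut_inv_fix h1) }
  have hFix : ∀ a, a ∈ Fix ↔ ∀ z ∈ KSet F P X, ∀ hz : z ∈ P, ((a ⟨z, hz⟩ : P) : Ω) = z :=
    fun a => Iff.rfl
  haveI : Finite ↥(E.autGroup P) := Cfsg.Agent.Lib.helper89.finite_autGroup E hPT
  have hRFix : autInducedBy T P ≤ Fix := by
    intro d hd
    rw [hFix]
    intro z hz hzP
    obtain ⟨t, ht, hdx⟩ := (mem_autInducedBy_iff T P d).mp hd
    have htN : t ∈ Subgroup.normalizer (P : Set Ω) := mem_normalizer_of_conj_mem (fun x hx => by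
      have h1 := hdx ⟨x, hx⟩
      rw [← h1]
      exact (d _).2)
    rw [hdx]
    exact kset_comm hS F hF hT hP hX hz (Subgroup.mem_inf.mpr ⟨ht, htN⟩)
  have hmain : E.autGroup P ≤ Fix := by
    refine frattini_le (p := p) (E.autGroup P) (autInducedBy T P) Fix hfa.2
      (autInducedBy_le_autGroup E hPT) ?_ hRFix ?_
    · intro b hb a ha
      rw [hFix] at ha ⊢
      intro z hz hzP
      have hbi : IsoEquiv E (b⁻¹ : MulAut P) := (mem_autGroup_iff E hPT b⁻¹).mp (inv_mem hb)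
      have h1 := kset_iso hS F hF E hE hPc hbi hX hz hzP
      have h2 := ha _ h1 (b⁻¹ ⟨z, hzP⟩).2
      have h3 : a (b⁻¹ ⟨z, hzP⟩) = b⁻¹ ⟨z, hzP⟩ := Subtype.ext h2
      rw [MulAut.mul_apply, MulAut.mul_apply, h3, MulAut.apply_inv_self]
    · intro n hn hnorm m hm hnm
      rw [hFix]
      intro z hz hzP
      obtain ⟨b₁, hb₁, hb₁n⟩ := exists_ext_normalizerIn E hrec hn hnorm
      obtain ⟨ν, hν, u, rfl⟩ := hz
      obtain ⟨c, hc, hcu⟩ := hν.quot_eq hPT hX u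
      obtain ⟨ν₁, hν₁, hν₁x⟩ := exists_kmap_ext hS F hF hT hP hX hν
      have hzP' : (c : Ω)⁻¹ * ν c ∈ P := hcu ▸ hzP
      have hcore := kl_core hS F hF E hE hPc hPP₁ hP₁T hP₁N hX hIH hb₁ hb₁n hν hν₁ hν₁x c hc hzP'
      have hpow := pow_fix_aux n ⟨(c : Ω)⁻¹ * ν c, hzP'⟩ hcore m
      have hzK : (c : Ω)⁻¹ * ν c ∈ KSet F P X := ⟨ν, hν, c, rfl⟩
      have h1 : (n ^ m) ⟨(c : Ω)⁻¹ * ν c, hzP'⟩ = ⟨(c : Ω)⁻¹ * ν c, hzP'⟩ :=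
        Subtype.ext ((hFix _).mp (hRFix hnm) _ hzK hzP')
      rw [h1] at hpow
      have hym : (n ⟨(c : Ω)⁻¹ * ν c, hzP'⟩ * ⟨(c : Ω)⁻¹ * ν c, hzP'⟩⁻¹) ^ m = 1 := by
        have h2 := congrArg (fun w => w * (⟨(c : Ω)⁻¹ * ν c, hzP'⟩ : P)⁻¹) hpow
        simp only [mul_inv_cancel, mul_inv_cancel_right] at h2
        exact h2.symm
      obtain ⟨k, hk⟩ := (hTp.to_le hPT)
        (n ⟨(c : Ω)⁻¹ * ν c, hzP'⟩ * ⟨(c : Ω)⁻¹ * ν c, hzP'⟩⁻¹)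
      have hy1 := eq_one_of_pow_coprime hm hym hk
      have h2 : n ⟨(c : Ω)⁻¹ * ν c, hzP'⟩ = ⟨(c : Ω)⁻¹ * ν c, hzP'⟩ := mul_inv_eq_one.mp hy1
      have e8 : (⟨(u : Ω)⁻¹ * ν u, hzP⟩ : P) = ⟨(c : Ω)⁻¹ * ν c, hzP'⟩ := Subtype.ext hcu
      rw [e8, h2]
      exact hcu.symm
  intro a ha
  exact (hFix a).mp (hmain ha)

/-- **Key lemma.** For `P` centric in the normal subsystem `E` of `F` and `X ≤ C_S(T)`, every
automorphism of `P` in `E` fixes the elements `u⁻¹ ν(u)` of the kernel maps `ν` on `P X`. -/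
theorem kl [Finite S] {p : ℕ} [Fact p.Prime] (hS : IsPGroup p S)
    (F : FusionSystem S) (hF : F.IsSaturated p) {T : Subgroup Ω} (E : FusionSystem T)
    (hE : E.IsNormalIn F p) (P X : Subgroup Ω) (hPc : E.IsCentric P)
    (hX : X ≤ centralizerIn S T) :
    ∀ a ∈ E.autGroup P, ∀ z ∈ KSet F P X, ∀ hz : z ∈ P, ((a ⟨z, hz⟩ : P) : Ω) = z := by
  have hinv := hE.1.2.2
  have hT := hinv.2.1
  have hTS := hT.1
  haveI : Finite T := finite_of_le hTS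
  have hTp : IsPGroup p T := hS.to_le hTS
  obtain ⟨k, hk⟩ : ∃ k, k = Nat.card T - Nat.card P := ⟨_, rfl⟩
  induction k using Nat.strong_induction_on generalizing P with
  | _ k ih =>
    have hPT := hPc.1
    obtain ⟨P', hconj, hP'fn⟩ := exists_fullyNormalized_conj E hPT
    have hP'T : P' ≤ T := hP'fn.1
    have hP'c : E.IsCentric P' := ⟨hP'T, fun Q hQ => hPc.2 Q (isConj_trans E hconj hQ)⟩
    obtain ⟨φ, hφ, hrange⟩ := hconj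
    obtain ⟨e, he, -⟩ := exists_isoEquiv E hφ hrange
    have hcard : Nat.card P' = Nat.card P := (Nat.card_congr e.toEquiv).symm
    refine kl_of_iso hS F hF E hE hPc he hX ?_
    by_cases hP'top : P' = T
    · subst hP'top
      exact kl_top hS F hF E hE hX
    · have hc₁ : E.IsCentric (normalizerIn T P') :=
        IsCentric.of_le hP'c (le_normalizerIn hP'T) inf_le_left
      obtain ⟨g, hg, hgP'⟩ :=
        Cfsg.Agent.Lib.helper88.exists_mem_normalizerIn_not_mem hTp hP'T hP'top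
      haveI : Finite ↥(normalizerIn T P') := finite_of_le (inf_le_left : normalizerIn T P' ≤ T)
      have h1 : Nat.card P' < Nat.card (normalizerIn T P') := by
        by_contra hcon
        have h2 := Subgroup.eq_of_le_of_card_ge (le_normalizerIn hP'T) (not_lt.mp hcon)
        exact hgP' (h2 ▸ hg)
      have h2 : Nat.card (normalizerIn T P') ≤ Nat.card T :=
        Subgroup.card_le_of_le (inf_le_left : normalizerIn T P' ≤ T)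
      have hIH := ih (Nat.card T - Nat.card (normalizerIn T P')) (by omega) (normalizerIn T P')
        hc₁ rfl
      exact kl_step hS F hF E hE hP'c hP'fn hX hIH

/-- The key lemma, stated without `KMap` and `KSet`. -/
theorem kl' [Finite S] {p : ℕ} [Fact p.Prime] (hS : IsPGroup p S)
    (F : FusionSystem S) (hF : F.IsSaturated p) {T : Subgroup Ω} (E : FusionSystem T)
    (hE : E.IsNormalIn F p) (P X : Subgroup Ω) (hPc : E.IsCentric P)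
    (hX : X ≤ centralizerIn S T) (ν : ↥(P ⊔ X) →* Ω) (hν : ν ∈ F.Hom (P ⊔ X))
    (hfix : ∀ x : P, ν (Subgroup.inclusion le_sup_left x) = x)
    (hq : ∀ c : ↥(P ⊔ X), (c : Ω) ∈ X → (c : Ω)⁻¹ * ν c ∈ P)
    (a : MulAut P) (ha : a ∈ E.autGroup P) (c : ↥(P ⊔ X)) (h : (c : Ω)⁻¹ * ν c ∈ P) :
    ((a ⟨(c : Ω)⁻¹ * ν c, h⟩ : P) : Ω) = (c : Ω)⁻¹ * ν c :=
  kl hS F hF E hE P X hPc hX a ha _ ⟨ν, ⟨hν, fun x hx => hfix ⟨x, hx⟩, hq⟩, c, rfl⟩ h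

end Cfsg.Agent.Lib.helper88.CSE
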