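import Cfsg.Agent.Lib.helper88.CSE4

/-!
Centralizers of normal subsystems, part 5 (helper88): the automorphism step in the proof that the
largest subgroup `Y ≤ C_S(T)` centralizing the normal subsystem `E` is strongly closed.

`Ext F T Y ν` says that the restriction of `ν : U → Ω` to `U ∩ Y` extends to a map of `F` on
`T (U ∩ Y)`.  `ext_aut`: for `U` fully normalized with `U = (U ∩ T)(U ∩ Y)`, every automorphism of
`U` in `F` has this property, given it for all maps defined on subgroups meeting `T` in a larger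
subgroup.
-/

set_option autoImplicit false

namespace Cfsg.Agent.Lib.helper88.CSE

open Cfsg Cfsg.FusionSystem
open Cfsg.Agent.Lib.helper88
open Cfsg.Agent.Lib.helper87.Craven (sup_forall_mem)

variable {Ω : Type*} [Group Ω] {S : Subgroup Ω}

/-- The restriction of `ν` to `U ∩ Y` extends to a map of the system on `T (U ∩ Y)`. -/
def Ext (F : FusionSystem S) (T Y : Subgroup Ω) {U : Subgroup Ω} (ν : U →* Ω) : Prop :=
  ∃ ψ ∈ F.Hom (T ⊔ (U ⊓ Y)), ∀ x : ↥(U ⊓ Y),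
    ψ (Subgroup.inclusion le_sup_right x) = ν (Subgroup.inclusion inf_le_left x)

theorem ext_restrict (F : FusionSystem S) {T Y V V' : Subgroup Ω} (hV : V' ≤ V) {ν : V →* Ω}
    (h : Ext F T Y ν) : Ext F T Y (ν.comp (Subgroup.inclusion hV)) := by
  obtain ⟨ψ, hψ, hψx⟩ := h
  have hle : T ⊔ (V' ⊓ Y) ≤ T ⊔ (V ⊓ Y) := sup_le_sup_left (inf_le_inf_right Y hV) T
  refine ⟨ψ.comp (Subgroup.inclusion hle), restrict_mem F hle hψ, fun x => ?_⟩
  exact hψx ⟨x, inf_le_inf_right Y hV x.2⟩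

theorem ext_of_conj (F : FusionSystem S) {T Y U : Subgroup Ω} (hTS : T ≤ S) (hUS : U ≤ S)
    {ν : U →* Ω} {s : Ω} (hs : s ∈ S) (h : ∀ x : U, (x : Ω) ∈ Y → ν x = s * x * s⁻¹) :
    Ext F T Y ν := by
  have hle : T ⊔ (U ⊓ Y) ≤ S := sup_le hTS (inf_le_left.trans hUS)
  refine ⟨conjHom _ s, F.conj_mem hle hs, fun x => ?_⟩
  rw [h _ x.2.2]
  rfl

theorem ext_comp (F : FusionSystem S) {T Y : Subgroup Ω} (hT : F.StronglyClosed T)
    (hTR : ∀ X : Subgroup Ω, X ≤ Y → ∀ ν ∈ F.Hom (T ⊔ X), ∀ x : ↥(T ⊔ X), (x : Ω) ∈ X → ν x ∈ Y)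
    {V W : Subgroup Ω} {θ₁ : V →* Ω} {θ₂ : W →* Ω} (h₁ : Ext F T Y θ₁) (h₂ : Ext F T Y θ₂)
    (hVW : ∀ v, θ₁ v ∈ W) : Ext F T Y (θ₂.comp (θ₁.codRestrict W hVW)) := by
  obtain ⟨ψ₁, hψ₁, hψ₁x⟩ := h₁
  obtain ⟨ψ₂, hψ₂, hψ₂x⟩ := h₂
  have hval : ∀ x : ↥(T ⊔ (V ⊓ Y)), ∀ hx : (x : Ω) ∈ V ⊓ Y, ψ₁ x = θ₁ ⟨x, hx.1⟩ := by
    intro x hx
    exact hψ₁x ⟨x, hx⟩
  have hmaps : ∀ x : ↥(T ⊔ (V ⊓ Y)), ψ₁ x ∈ T ⊔ (W ⊓ Y) := by
    refine sup_forall_mem ψ₁ _ (fun x hx => Subgroup.mem_sup_left (map_mem_sc F hT hψ₁ x hx))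
      (fun x hx => Subgroup.mem_sup_right ?_)
    refine Subgroup.mem_inf.mpr ⟨?_, hTR _ inf_le_right ψ₁ hψ₁ x hx⟩
    rw [hval x hx]
    exact hVW _
  refine ⟨ψ₂.comp (ψ₁.codRestrict _ hmaps), F.comp_mem hψ₁ hψ₂ hmaps, fun x => ?_⟩
  have h1 : ψ₁ (Subgroup.inclusion le_sup_right x) = θ₁ (Subgroup.inclusion inf_le_left x) :=
    hψ₁x x
  have hmem : θ₁ (Subgroup.inclusion inf_le_left x) ∈ W ⊓ Y := by
    refine Subgroup.mem_inf.mpr ⟨hVW _, ?_⟩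
    rw [← h1]
    exact hTR _ inf_le_right ψ₁ hψ₁ _ x.2
  have h2 := hψ₂x ⟨_, hmem⟩
  show ψ₂ (ψ₁.codRestrict _ hmaps (Subgroup.inclusion le_sup_right x))
    = θ₂ (θ₁.codRestrict W hVW (Subgroup.inclusion inf_le_left x))
  have e1 : ψ₁.codRestrict _ hmaps (Subgroup.inclusion le_sup_right x)
      = Subgroup.inclusion le_sup_right ⟨_, hmem⟩ := Subtype.ext h1
  rw [e1, h2]
  rfl

/-- A Sylow `p`-subgroup meets a normal subgroup in a subgroup of index prime to `p`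
(as in `Lib/helper52/PReduced`). -/
theorem not_dvd_relIndex_of_normal {G : Type*} [Group G] [Finite G] {p : ℕ} [Fact p.Prime]
    (R : Sylow p G) (D : Subgroup G) [D.Normal] : ¬ p ∣ (R : Subgroup G).relIndex D := by
  obtain ⟨P₀⟩ := (inferInstance : Nonempty (Sylow p D))
  obtain ⟨Q, hQ⟩ := Sylow.exists_comap_subtype_eq P₀
  obtain ⟨g, hg⟩ := MulAction.exists_smul_eq G Q R
  have h1 : (Q : Subgroup G).relIndex D = (P₀ : Subgroup D).index := by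
    rw [Subgroup.relIndex, Subgroup.subgroupOf, hQ]
  have h2 : (R : Subgroup G).relIndex D = (Q : Subgroup G).relIndex D := by
    rw [← hg, Sylow.coe_subgroup_smul]
    conv_lhs => rw [← Subgroup.Normal.conj_smul_eq_self g D]
    exact Subgroup.relIndex_pointwise_smul _ _ _
  rw [h2, h1]
  exact P₀.not_dvd_index

/-- The intersection of a Sylow `p`-subgroup with a normal subgroup is a Sylow `p`-subgroup of
it. -/
theorem exists_sylow_inf {G : Type*} [Group G] [Finite G] {p : ℕ} [Fact p.Prime]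
    (R : Sylow p G) (C : Subgroup G) [C.Normal] :
    ∃ P : Sylow p ↥C, (P : Subgroup ↥C) = ((R : Subgroup G) ⊓ C).subgroupOf C := by
  have h1 : IsPGroup p ↥(((R : Subgroup G) ⊓ C).subgroupOf C) :=
    (R.isPGroup'.to_le inf_le_left).comap_subtype
  have h2 : ¬ p ∣ (((R : Subgroup G) ⊓ C).subgroupOf C).index := by
    have : (((R : Subgroup G) ⊓ C).subgroupOf C).index = (R : Subgroup G).relIndex C := by
      rw [← Subgroup.inf_relIndex_right]; rfl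
    rw [this]
    exact not_dvd_relIndex_of_normal R C
  exact ⟨h1.toSylow h2, rfl⟩

/-- Frattini argument for the intersection of a Sylow subgroup `R` of `G` with a subgroup `N`
normalized by `G`. -/
theorem frattini_inf_normal {A : Type*} [Group A] {p : ℕ} [Fact p.Prime] (G R N : Subgroup A)
    [Finite G] (hR : ∃ R₀ : Sylow p G, (R₀ : Subgroup G) = R.subgroupOf G) (hRG : R ≤ G)
    (hnormal : ∀ b ∈ G, ∀ a ∈ N, b * a * b⁻¹ ∈ N) {g : A} (hg : g ∈ G) :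
    ∃ n ∈ G, (∀ d ∈ R ⊓ N, n * d * n⁻¹ ∈ R ⊓ N) ∧ ∃ a ∈ N, g = n * a := by
  obtain ⟨R₀, hR₀⟩ := hR
  haveI : (N.subgroupOf G).Normal := by
    constructor
    intro a ha b
    rw [Subgroup.mem_subgroupOf] at ha ⊢
    exact hnormal b b.2 a ha
  obtain ⟨P, hP⟩ := exists_sylow_inf R₀ (N.subgroupOf G)
  have hfr := Sylow.normalizer_sup_eq_top P
  have hmap : (P : Subgroup ↥(N.subgroupOf G)).map (N.subgroupOf G).subtype
      = (R₀ : Subgroup G) ⊓ N.subgroupOf G := by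
    rw [hP, Subgroup.map_subgroupOf_eq_of_le inf_le_right]
  rw [hmap] at hfr
  have hmem : (⟨g, hg⟩ : G) ∈ Subgroup.normalizer
      (((R₀ : Subgroup G) ⊓ N.subgroupOf G : Subgroup G) : Set G) ⊔ N.subgroupOf G := by
    rw [hfr]
    trivial
  obtain ⟨n, hn, a, ha, hna⟩ := Subgroup.mem_sup_of_normal_right.mp hmem
  refine ⟨n, n.2, ?_, a, Subgroup.mem_subgroupOf.mp ha, ?_⟩
  · intro d hd
    obtain ⟨hd1, hd2⟩ := Subgroup.mem_inf.mp hd
    have hd' : (⟨d, hRG hd1⟩ : G) ∈ (R₀ : Subgroup G) ⊓ N.subgroupOf G := by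
      refine Subgroup.mem_inf.mpr ⟨?_, ?_⟩
      · rw [hR₀, Subgroup.mem_subgroupOf]
        exact hd1
      · rw [Subgroup.mem_subgroupOf]
        exact hd2
    have h1 := (Subgroup.mem_normalizer_iff.mp hn ⟨d, hRG hd1⟩).mp hd'
    obtain ⟨h2, h3⟩ := Subgroup.mem_inf.mp h1
    rw [hR₀, Subgroup.mem_subgroupOf] at h2
    rw [Subgroup.mem_subgroupOf] at h3
    exact Subgroup.mem_inf.mpr ⟨h2, h3⟩
  · exact (congrArg Subtype.val hna).symm

section aut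

variable {T U : Subgroup Ω}

/-- `α` acts trivially on `U` modulo `T`. -/
def QTT (T U : Subgroup Ω) (α : MulAut U) : Prop :=
  ∀ u : U, (u : Ω)⁻¹ * ((α u : U) : Ω) ∈ T

theorem QTT.mul {α β : MulAut U} (hα : QTT T U α) (hβ : QTT T U β) : QTT T U (α * β) := by
  intro u
  have h1 : (u : Ω)⁻¹ * (((α * β) u : U) : Ω)
      = ((u : Ω)⁻¹ * ((β u : U) : Ω)) * (((β u : U) : Ω)⁻¹ * ((α (β u) : U) : Ω)) := by
    rw [MulAut.mul_apply]
    group
  rw [h1]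
  exact Subgroup.mul_mem _ (hβ u) (hα (β u))

theorem QTT.inv {α : MulAut U} (hα : QTT T U α) : QTT T U α⁻¹ := by
  intro u
  have h := hα (α⁻¹ u)
  rw [MulAut.apply_inv_self] at h
  have h1 : (u : Ω)⁻¹ * ((α⁻¹ u : U) : Ω) = (((α⁻¹ u : U) : Ω)⁻¹ * (u : Ω))⁻¹ := by group
  rw [h1]
  exact Subgroup.inv_mem _ h

/-- `α` restricts to `α'` on `V ≤ U`. -/
def Res {U V : Subgroup Ω} (hVU : V ≤ U) (α : MulAut U) (α' : MulAut V) : Prop :=
  ∀ t : V, α (Subgroup.inclusion hVU t) = Subgroup.inclusion hVU (α' t)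

theorem Res.mul {V : Subgroup Ω} {hVU : V ≤ U} {α β : MulAut U} {α' β' : MulAut V}
    (h1 : Res hVU α α') (h2 : Res hVU β β') : Res hVU (α * β) (α' * β') := by
  intro t
  rw [MulAut.mul_apply, MulAut.mul_apply, h2 t, h1]

theorem Res.inv {V : Subgroup Ω} {hVU : V ≤ U} {α : MulAut U} {α' : MulAut V}
    (h : Res hVU α α') : Res hVU α⁻¹ α'⁻¹ := by
  intro t
  apply α.injective
  rw [MulAut.apply_inv_self, h, MulAut.apply_inv_self]

theorem Res.val {V : Subgroup Ω} {hVU : V ≤ U} {α : MulAut U} {α' : MulAut V}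
    (h : Res hVU α α') (y : U) (hy : (y : Ω) ∈ V) :
    ((α y : U) : Ω) = ((α' ⟨y, hy⟩ : V) : Ω) := by
  have h1 := h ⟨y, hy⟩
  have e : Subgroup.inclusion hVU (⟨y, hy⟩ : V) = y := Subtype.ext rfl
  rw [e] at h1
  rw [h1]
  rfl

/-- An automorphism of `U` in the system restricts to an automorphism of `U ∩ T` in the system,
`T` strongly closed. -/
theorem exists_res_aut [Finite S] (F : FusionSystem S) (hT : F.StronglyClosed T) (hUS : U ≤ S)
    {a : MulAut U} (ha : a ∈ F.autGroup U) :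
    ∃ α' ∈ F.autGroup (U ⊓ T), Res (inf_le_left : U ⊓ T ≤ U) a α' := by
  have hah : U.subtype.comp a.toMonoidHom ∈ F.Hom U := (mem_autGroup_iff' F hUS a).mp ha
  have hres := restrict_mem F (inf_le_left : U ⊓ T ≤ U) hah
  obtain ⟨α', hα', hα'x⟩ := exists_aut_of_maps F hres (fun x => Subgroup.mem_inf.mpr
    ⟨(a _).2, Cfsg.Agent.Lib.helper89.aut_mem_of_stronglyClosed F hT hUS ha _ x.2.2⟩)
  exact ⟨α', hα', fun t => Subtype.ext (hα'x t).symm⟩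

/-- The automorphisms of `U` in `F` restricting to an automorphism of `U ∩ T` in `E` and acting
trivially on `U` modulo `T`. -/
def A1 (F : FusionSystem S) {T : Subgroup Ω} (E : FusionSystem T) (U : Subgroup Ω) :
    Subgroup (MulAut U) where
  carrier := {b | b ∈ F.autGroup U ∧
    (∃ ε ∈ E.autGroup (U ⊓ T), Res (inf_le_left : U ⊓ T ≤ U) b ε) ∧ QTT T U b}
  mul_mem' := by
    rintro b b' ⟨hb, ⟨ε, hε, hr⟩, hq⟩ ⟨hb', ⟨ε', hε', hr'⟩, hq'⟩
    exact ⟨mul_mem hb hb', ⟨ε * ε', mul_mem hε hε', hr.mul hr'⟩, hq.mul hq'⟩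
  one_mem' := ⟨one_mem _, ⟨1, one_mem _, fun _ => rfl⟩, fun u => by
    show (u : Ω)⁻¹ * (u : Ω) ∈ T
    rw [inv_mul_cancel]
    exact T.one_mem⟩
  inv_mem' := by
    rintro b ⟨hb, ⟨ε, hε, hr⟩, hq⟩
    exact ⟨inv_mem hb, ⟨ε⁻¹, inv_mem hε, hr.inv⟩, hq.inv⟩

theorem mem_A1 (F : FusionSystem S) (E : FusionSystem T) (b : MulAut U) :
    b ∈ A1 F E U ↔ b ∈ F.autGroup U ∧
      (∃ ε ∈ E.autGroup (U ⊓ T), Res (inf_le_left : U ⊓ T ≤ U) b ε) ∧ QTT T U b := Iff.rfl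

theorem A1_normal [Finite S] (F : FusionSystem S) (E : FusionSystem T) (hinv : E.IsInvariantIn F)
    (hUS : U ≤ S) : ∀ a ∈ F.autGroup U, ∀ b ∈ A1 F E U, a * b * a⁻¹ ∈ A1 F E U := by
  rintro a ha b ⟨hb, ⟨ε, hε, hr⟩, hq⟩
  have hT := hinv.2.1
  obtain ⟨α', hα', hra⟩ := exists_res_aut F hT hUS ha
  refine ⟨mul_mem (mul_mem ha hb) (inv_mem ha), ⟨α' * ε * α'⁻¹,
    conj_mem_autGroup_of_invariant hinv inf_le_right hα' hε, (hra.mul hr).mul hra.inv⟩, ?_⟩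
  intro u
  obtain ⟨w, rfl⟩ := a.surjective u
  have h1 : (a * b * a⁻¹) (a w) = a (b w) := by
    rw [MulAut.mul_apply, MulAut.mul_apply, MulAut.inv_apply_self]
  rw [h1]
  have h2 := Cfsg.Agent.Lib.helper89.aut_mem_of_stronglyClosed F hT hUS ha (w⁻¹ * b w) (hq w)
  have h3 : ((a (w⁻¹ * b w) : U) : Ω) = ((a w : U) : Ω)⁻¹ * ((a (b w) : U) : Ω) := by
    rw [map_mul, map_inv]
    rfl
  rw [h3] at h2
  exact h2

theorem udec {Y : Subgroup Ω} (hY : Y ≤ centralizerIn S T) (hU : U ≤ (U ⊓ T) ⊔ (U ⊓ Y)) (u : U) :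
    ∃ a c : U, (a : Ω) ∈ T ∧ (c : Ω) ∈ Y ∧ u = a * c := by
  obtain ⟨a, ha, c, hc, hac⟩ := exists_mul_of_mem (inf_le_right : U ⊓ T ≤ T)
    (inf_le_right.trans hY : U ⊓ Y ≤ centralizerIn S T) (hU u.2)
  exact ⟨⟨a, ha.1⟩, ⟨c, hc.1⟩, ha.2, hc.2, Subtype.ext hac.symm⟩

/-- An automorphism in `A1` acts on `U ∩ Y` as conjugation by an element of `S`. -/
theorem a1_conj [Finite S] {p : ℕ} [Fact p.Prime] (hS : IsPGroup p S) (F : FusionSystem S)
    (hF : F.IsSaturated p) (E : FusionSystem T) (hT : F.StronglyClosed T) {Y : Subgroup Ω}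
    (hY : Y ≤ centralizerIn S T) (hEY : ∀ P : Subgroup Ω, E.Hom P ⊆ F.centralizerHom Y P)
    (hYn : ∀ s ∈ S, ∀ y ∈ Y, s * y * s⁻¹ ∈ Y) (hUfn : F.IsFullyNormalized U)
    (hU : U ≤ (U ⊓ T) ⊔ (U ⊓ Y)) {b : MulAut U} (hb : b ∈ A1 F E U) :
    ∃ s ∈ S, ∀ y : U, (y : Ω) ∈ Y → ((b y : U) : Ω) = s * y * s⁻¹ := by
  obtain ⟨hbF, ⟨ε, hε, hres⟩, hq⟩ := hb
  have hUS := hUfn.1
  have hεh : (U ⊓ T).subtype.comp ε.toMonoidHom ∈ E.Hom (U ⊓ T) :=
    (mem_autGroup_iff' E inf_le_right ε).mp hε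
  obtain ⟨-, -, -, ε', hε', hε'P, hε'Y⟩ := hEY (U ⊓ T) hεh
  have hle : U ≤ (U ⊓ T) ⊔ Y := hU.trans (sup_le_sup_left inf_le_right _)
  have hε'U : ε'.comp (Subgroup.inclusion hle) ∈ F.Hom U := restrict_mem F hle hε'
  have hvT : ∀ (u : U) (hu : (u : Ω) ∈ T), ε' (Subgroup.inclusion hle u)
      = ((ε ⟨u, Subgroup.mem_inf.mpr ⟨u.2, hu⟩⟩ : ↥(U ⊓ T)) : Ω) :=
    fun u hu => hε'P ⟨u, Subgroup.mem_inf.mpr ⟨u.2, hu⟩⟩
  have hvY : ∀ u : U, (u : Ω) ∈ Y → ε' (Subgroup.inclusion hle u) = u := fun u hu => hε'Y ⟨u, hu⟩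
  have hmaps : ∀ u : U, (ε'.comp (Subgroup.inclusion hle)) u ∈ U := by
    intro u
    obtain ⟨a, c, ha, hc, rfl⟩ := udec hY hU u
    show ε' (Subgroup.inclusion hle (a * c)) ∈ U
    rw [map_mul, map_mul, hvT a ha, hvY c hc]
    exact U.mul_mem (ε _).2.1 c.2
  obtain ⟨e, he, hex⟩ := exists_aut_of_maps F hε'U hmaps
  have hex' : ∀ u : U, ((e u : U) : Ω) = ε' (Subgroup.inclusion hle u) := hex
  have hν₀ : e⁻¹ * b ∈ F.autGroup U := mul_mem (inv_mem he) hbF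
  have h2 : ∀ x : U, (x : Ω) ∈ T → (e⁻¹ * b) x = x := by
    intro x hx
    have e1 : b x = e x := by
      apply Subtype.ext
      rw [hex', hvT x hx]
      exact hres.val x (Subgroup.mem_inf.mpr ⟨x.2, hx⟩)
    rw [MulAut.mul_apply, e1, MulAut.inv_apply_self]
  have hqe : QTT T U e := by
    intro u
    obtain ⟨a, c, ha, hc, rfl⟩ := udec hY hU u
    rw [hex', map_mul, map_mul, hvT a ha, hvY c hc]
    have h3 : (((ε ⟨a, Subgroup.mem_inf.mpr ⟨a.2, ha⟩⟩ : ↥(U ⊓ T)) : Ω)) ∈ T := (ε _).2.2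
    have h4 : ((a * c : U) : Ω)⁻¹
        * (((ε ⟨a, Subgroup.mem_inf.mpr ⟨a.2, ha⟩⟩ : ↥(U ⊓ T)) : Ω) * (c : Ω))
        = (c : Ω)⁻¹ * ((a : Ω)⁻¹ * ((ε ⟨a, Subgroup.mem_inf.mpr ⟨a.2, ha⟩⟩ : ↥(U ⊓ T)) : Ω))
          * ((c : Ω)⁻¹)⁻¹ := by
      rw [Subgroup.coe_mul]
      group
    rw [h4]
    exact Cfsg.Agent.Lib.helper89.conj_mem_of_stronglyClosed F hT (S.inv_mem (hUS c.2))
      (T.mul_mem (T.inv_mem ha) h3)
  have h1 : ∀ x : U, (x : Ω)⁻¹ * (((e⁻¹ * b) x : U) : Ω) ∈ T := hqe.inv.mul hq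
  obtain ⟨s, hs, hsx⟩ := (mem_autInducedBy_iff S U _).mp
    (stab_mem_autInducedBy hS F hF hT hUfn hν₀ h1 h2)
  refine ⟨s, hs, fun y hy => ?_⟩
  have e2 : b y = e ((e⁻¹ * b) y) := by rw [MulAut.mul_apply, MulAut.apply_inv_self]
  have hmem : (((e⁻¹ * b) y : U) : Ω) ∈ Y := by
    rw [hsx]
    exact hYn s hs _ hy
  rw [e2, hex']
  exact (hvY _ hmem).trans (hsx y)

/-- An automorphism of `U` normalizing `Aut_S(U) ∩ A1` extends to `N_T(U ∩ T) U`; hence it has the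
extension property, by the induction hypothesis. -/
theorem ext_of_normalizes [Finite S] {p : ℕ} [Fact p.Prime] (hS : IsPGroup p S)
    (F : FusionSystem S) (hF : F.IsSaturated p) (E : FusionSystem T) (hinv : E.IsInvariantIn F)
    {Y : Subgroup Ω} (hY : Y ≤ centralizerIn S T) (hUfn : F.IsFullyNormalized U)
    (hU : U ≤ (U ⊓ T) ⊔ (U ⊓ Y)) (hne : ¬ T ≤ U)
    (hIH : ∀ V : Subgroup Ω, V ≤ S → Nat.card ↥(U ⊓ T) < Nat.card ↥(V ⊓ T) →
      ∀ ν ∈ F.Hom V, Ext F T Y ν)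
    {b : MulAut U} (hb : b ∈ F.autGroup U)
    (hnorm : ∀ d ∈ autInducedBy S U ⊓ A1 F E U, b * d * b⁻¹ ∈ autInducedBy S U ⊓ A1 F E U) :
    Ext F T Y (U.subtype.comp b.toMonoidHom) := by
  have hT := hinv.2.1
  have hTS := hT.1
  have hUS := hUfn.1
  haveI : Finite U := finite_of_le hUS
  haveI : Finite T := finite_of_le hTS
  have hTp : IsPGroup p T := hS.to_le hTS
  obtain ⟨-, hrec⟩ := fullyAutomized_receptive_of_fullyNormalized hS F hF hUfn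
  have hφ : U.subtype.comp b.toMonoidHom ∈ F.Hom U := (mem_autGroup_iff' F hUS b).mp hb
  have hrange : (U.subtype.comp b.toMonoidHom).range = U := by
    ext y
    constructor
    · rintro ⟨x, rfl⟩
      exact (b x).2
    · intro hy
      exact ⟨b.symm ⟨y, hy⟩, by simp⟩
  obtain ⟨ψ, hψ, hψP⟩ := hrec.2 U _ hφ hrange
  have hN₁U : ∀ g ∈ normalizerIn T (U ⊓ T), g ∈ Subgroup.normalizer (U : Set Ω) := by
    intro g hg
    refine mem_normalizer_of_conj_mem (fun x hx => ?_)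
    obtain ⟨a, c, ha, hc, hac⟩ := udec hY hU ⟨x, hx⟩
    have hx' : x = (a : Ω) * (c : Ω) := congrArg Subtype.val hac
    have h1 : g * (a : Ω) * g⁻¹ ∈ U ⊓ T :=
      (Subgroup.mem_normalizer_iff.mp hg.2 _).mp (Subgroup.mem_inf.mpr ⟨a.2, ha⟩)
    have hcg' : (c : Ω) * g⁻¹ = g⁻¹ * (c : Ω) :=
      (Commute.inv_right (show Commute (c : Ω) g from comm_of_mem hY hc hg.1)).eq
    have h2 : g * x * g⁻¹ = (g * (a : Ω) * g⁻¹) * (c : Ω) := by
      rw [hx']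
      calc g * ((a : Ω) * (c : Ω)) * g⁻¹ = g * (a : Ω) * ((c : Ω) * g⁻¹) := by group
        _ = g * (a : Ω) * (g⁻¹ * (c : Ω)) := by rw [hcg']
        _ = _ := by group
    rw [h2]
    exact U.mul_mem h1.1 c.2
  have hle : normalizerIn T (U ⊓ T) ≤ extender S U (U.subtype.comp b.toMonoidHom) := by
    intro g hg
    rw [mem_extender_iff]
    refine ⟨hTS hg.1, hN₁U g hg, ?_⟩
    have hcA1 : conjAut U g (hN₁U g hg) ∈ autInducedBy S U ⊓ A1 F E U := by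
      refine Subgroup.mem_inf.mpr ⟨conjAut_mem S U g _ (hTS hg.1), ?_⟩
      refine ⟨autInducedBy_le_autGroup F hUS (conjAut_mem S U g _ (hTS hg.1)),
        ⟨conjAut (U ⊓ T) g hg.2, autInducedBy_le_autGroup E inf_le_right
          (conjAut_mem T (U ⊓ T) g hg.2 hg.1), fun x => Subtype.ext rfl⟩, fun u => ?_⟩
      rw [conjAut_apply]
      have h3 : (u : Ω)⁻¹ * (g * u * g⁻¹) = ((u : Ω)⁻¹ * g * ((u : Ω)⁻¹)⁻¹) * g⁻¹ := by group
      rw [h3]
      exact T.mul_mem (Cfsg.Agent.Lib.helper89.conj_mem_of_stronglyClosed F hT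
        (S.inv_mem (hUS u.2)) hg.1) (T.inv_mem hg.1)
    have hd := (Subgroup.mem_inf.mp (hnorm _ hcA1)).1
    obtain ⟨h, hh, hhx⟩ := (mem_autInducedBy_iff S U _).mp hd
    refine ⟨h, hh, fun x hx => ?_⟩
    have h1 := hhx (b x)
    have h2 : (b * conjAut U g (hN₁U g hg) * b⁻¹) (b x) = b ⟨g * x * g⁻¹, hx⟩ := by
      rw [MulAut.mul_apply, MulAut.mul_apply, MulAut.inv_apply_self]
      rfl
    rw [h2] at h1
    exact h1
  have hV : normalizerIn T (U ⊓ T) ⊔ U ≤ extender S U (U.subtype.comp b.toMonoidHom) :=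
    sup_le hle (le_extender F hφ)
  have hVS : normalizerIn T (U ⊓ T) ⊔ U ≤ S := sup_le (inf_le_left.trans hTS) hUS
  have hb' : ψ.comp (Subgroup.inclusion hV) ∈ F.Hom (normalizerIn T (U ⊓ T) ⊔ U) :=
    restrict_mem F hV hψ
  have hneq : U ⊓ T ≠ T := fun h => hne (h ▸ inf_le_left)
  obtain ⟨g, hg, hgP⟩ := Cfsg.Agent.Lib.helper88.exists_mem_normalizerIn_not_mem hTp
    (inf_le_right : U ⊓ T ≤ T) hneq
  have hcard : Nat.card ↥(U ⊓ T) < Nat.card ↥((normalizerIn T (U ⊓ T) ⊔ U) ⊓ T) := by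
    haveI : Finite ↥((normalizerIn T (U ⊓ T) ⊔ U) ⊓ T) := finite_of_le (inf_le_right.trans hTS)
    have hle2 : U ⊓ T ≤ (normalizerIn T (U ⊓ T) ⊔ U) ⊓ T := inf_le_inf_right T le_sup_right
    by_contra hcon
    have h2 := Subgroup.eq_of_le_of_card_ge hle2 (not_lt.mp hcon)
    have h3 : g ∈ (normalizerIn T (U ⊓ T) ⊔ U) ⊓ T :=
      Subgroup.mem_inf.mpr ⟨Subgroup.mem_sup_left hg, hg.1⟩
    exact hgP (h2 ▸ h3)
  have hext := hIH _ hVS hcard _ hb'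
  have h4 := ext_restrict F (le_sup_right : U ≤ normalizerIn T (U ⊓ T) ⊔ U) hext
  have heq : (ψ.comp (Subgroup.inclusion hV)).comp (Subgroup.inclusion le_sup_right)
      = U.subtype.comp b.toMonoidHom := by
    ext x
    exact hψP x x.2 _
  rw [heq] at h4
  exact h4

/-- **Automorphism step.** Every automorphism in `F` of a fully normalized `U = (U ∩ T)(U ∩ Y)` has
the extension property, given it for the maps on subgroups meeting `T` in a larger subgroup. -/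
theorem ext_aut [Finite S] {p : ℕ} [Fact p.Prime] (hS : IsPGroup p S) (F : FusionSystem S)
    (hF : F.IsSaturated p) (E : FusionSystem T) (hinv : E.IsInvariantIn F) {Y : Subgroup Ω}
    (hY : Y ≤ centralizerIn S T) (hEY : ∀ P : Subgroup Ω, E.Hom P ⊆ F.centralizerHom Y P)
    (hYn : ∀ s ∈ S, ∀ y ∈ Y, s * y * s⁻¹ ∈ Y)
    (hTR : ∀ X : Subgroup Ω, X ≤ Y → ∀ ν ∈ F.Hom (T ⊔ X), ∀ x : ↥(T ⊔ X), (x : Ω) ∈ X → ν x ∈ Y)
    (hUfn : F.IsFullyNormalized U) (hU : U ≤ (U ⊓ T) ⊔ (U ⊓ Y)) (hne : ¬ T ≤ U)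
    (hIH : ∀ V : Subgroup Ω, V ≤ S → Nat.card ↥(U ⊓ T) < Nat.card ↥(V ⊓ T) →
      ∀ ν ∈ F.Hom V, Ext F T Y ν)
    {β : MulAut U} (hβ : β ∈ F.autGroup U) : Ext F T Y (U.subtype.comp β.toMonoidHom) := by
  have hT := hinv.2.1
  have hTS := hT.1
  have hUS := hUfn.1
  obtain ⟨hfa, -⟩ := fullyAutomized_receptive_of_fullyNormalized hS F hF hUfn
  haveI : Finite ↥(F.autGroup U) := Cfsg.Agent.Lib.helper89.finite_autGroup F hUS
  obtain ⟨n, hn, hnorm, a, ha, rfl⟩ := frattini_inf_normal (p := p) (F.autGroup U)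
    (autInducedBy S U) (A1 F E U) hfa.2 (autInducedBy_le_autGroup F hUS)
    (A1_normal F E hinv hUS) hβ
  have h1 := ext_of_normalizes hS F hF E hinv hY hUfn hU hne hIH hn hnorm
  obtain ⟨s, hs, hsx⟩ := a1_conj hS F hF E hT hY hEY hYn hUfn hU ha
  have h2 : Ext F T Y (U.subtype.comp a.toMonoidHom) :=
    ext_of_conj F hTS hUS hs (fun x hx => hsx x hx)
  have h3 := ext_comp F hT hTR h2 h1 (fun v => (a v).2)
  have heq : (U.subtype.comp n.toMonoidHom).comp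
      ((U.subtype.comp a.toMonoidHom).codRestrict U (fun v => (a v).2))
      = U.subtype.comp (n * a).toMonoidHom := by
    ext x
    rfl
  rw [heq] at h3
  exact h3

end aut

end Cfsg.Agent.Lib.helper88.CSE
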