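import Cfsg.Agent.Lib.helper88.CSE5
import Cfsg.Agent.Lib.helper90.CseTR

/-!
Centralizers of normal subsystems, part 6 (helper88): the largest subgroup `Y ≤ C_S(T)`
centralizing the normal subsystem `E` of `F` is strongly closed in `F`, and every map of `F` on a
subgroup of `Y` extends to a map defined on `T`.

The claim `Ext F T Y ν` is proved for all maps `ν` of `F` by induction on `|T : U ∩ T|`
(`U` the source): conjugate `U` and `ν(U)` onto a fully normalized `U'` by maps defined on the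
normalizers, which are handled by induction (`ext_fwd`, `ext_bwd`), and use the automorphism step
`ext_aut` for the resulting automorphism of `U'`.
-/

set_option autoImplicit false

namespace Cfsg.Agent.Lib.helper88.CSE

open Cfsg Cfsg.FusionSystem
open Cfsg.Agent.Lib.helper88
open Cfsg.Agent.Lib.helper87.Craven (sup_forall_mem)

variable {Ω : Type*} [Group Ω] {S : Subgroup Ω} {T : Subgroup Ω}

/-- Normalizers grow: if `T ≰ W`, some element of `T` outside `W` normalizes `W`. -/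
theorem exists_normalizing_T [Finite S] {p : ℕ} [Fact p.Prime] (hS : IsPGroup p S)
    (F : FusionSystem S) (hT : F.StronglyClosed T) {W : Subgroup Ω} (hWS : W ≤ S)
    (hne : ¬ T ≤ W) : ∃ t ∈ T, t ∈ Subgroup.normalizer (W : Set Ω) ∧ t ∉ W := by
  have hTS := hT.1
  have hle : T ⊔ W ≤ S := sup_le hTS hWS
  haveI : Finite ↥(T ⊔ W) := finite_of_le hle
  have hp : IsPGroup p ↥(T ⊔ W) := hS.to_le hle
  have hneq : W ≠ T ⊔ W := fun h => hne (h ▸ le_sup_left)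
  obtain ⟨g, hg, hgW⟩ := Cfsg.Agent.Lib.helper88.exists_mem_normalizerIn_not_mem (S := T ⊔ W) hp
    le_sup_right hneq
  obtain ⟨t, ht, w, hw, rfl⟩ := Cfsg.Agent.Lib.helper89.exists_mul_of_mem_sup
    (fun r hr t ht => Cfsg.Agent.Lib.helper89.conj_mem_of_stronglyClosed F hT (hWS hr) ht) hg.1
  refine ⟨t, ht, ?_, fun htW => hgW (W.mul_mem htW hw)⟩
  have h1 : t = (t * w) * w⁻¹ := by group
  rw [h1]
  exact Subgroup.mul_mem _ hg.2 (Subgroup.inv_mem _ (Subgroup.le_normalizer hw))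

theorem card_lt_normalizer [Finite S] {p : ℕ} [Fact p.Prime] (hS : IsPGroup p S)
    (F : FusionSystem S) (hT : F.StronglyClosed T) {W : Subgroup Ω} (hWS : W ≤ S)
    (hne : ¬ T ≤ W) : Nat.card ↥(W ⊓ T) < Nat.card ↥((normalizerIn T W ⊔ W) ⊓ T) := by
  obtain ⟨t, ht, htN, htW⟩ := exists_normalizing_T hS F hT hWS hne
  haveI : Finite ↥((normalizerIn T W ⊔ W) ⊓ T) := finite_of_le (inf_le_right.trans hT.1)
  have hle2 : W ⊓ T ≤ (normalizerIn T W ⊔ W) ⊓ T := inf_le_inf_right T le_sup_right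
  by_contra hcon
  have h2 := Subgroup.eq_of_le_of_card_ge hle2 (not_lt.mp hcon)
  have h3 : t ∈ (normalizerIn T W ⊔ W) ⊓ T :=
    Subgroup.mem_inf.mpr ⟨Subgroup.mem_sup_left (Subgroup.mem_inf.mpr ⟨ht, htN⟩), ht⟩
  rw [← h2] at h3
  exact htW h3.1

theorem card_inf_le_of_iso [Finite S] (F : FusionSystem S) (hT : F.StronglyClosed T)
    {U U' : Subgroup Ω} {e : U ≃* U'} (he : IsoEquiv F e) :
    Nat.card ↥(U ⊓ T) ≤ Nat.card ↥(U' ⊓ T) := by
  haveI : Finite ↥(U' ⊓ T) := finite_of_le (inf_le_right.trans hT.1)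
  let f : ↥(U ⊓ T) → ↥(U' ⊓ T) := fun x => ⟨(e ⟨x, x.2.1⟩ : U'),
    Subgroup.mem_inf.mpr ⟨(e _).2, map_mem_sc F hT he.1 ⟨x, x.2.1⟩ x.2.2⟩⟩
  refine Nat.card_le_card_of_injective f ?_
  intro x y hxy
  have h1 : ((e ⟨x, x.2.1⟩ : U') : Ω) = ((e ⟨y, y.2.1⟩ : U') : Ω) :=
    congrArg (fun z : ↥(U' ⊓ T) => (z : Ω)) hxy
  have h2 : (⟨x, x.2.1⟩ : U) = ⟨y, y.2.1⟩ := e.injective (Subtype.ext h1)
  exact Subtype.ext (congrArg (fun z : U => (z : Ω)) h2)

theorem card_inf_eq_of_iso [Finite S] (F : FusionSystem S) (hT : F.StronglyClosed T)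
    {U U' : Subgroup Ω} {e : U ≃* U'} (he : IsoEquiv F e) :
    Nat.card ↥(U ⊓ T) = Nat.card ↥(U' ⊓ T) :=
  le_antisymm (card_inf_le_of_iso F hT he) (card_inf_le_of_iso F hT he.symm)

theorem not_le_of_card_inf_eq [Finite S] (hTS : T ≤ S) {U U' : Subgroup Ω}
    (hcard : Nat.card ↥(U ⊓ T) = Nat.card ↥(U' ⊓ T)) (hne : ¬ T ≤ U) : ¬ T ≤ U' := by
  intro h
  haveI : Finite T := finite_of_le hTS
  have h1 : U' ⊓ T = T := inf_eq_right.mpr h
  rw [h1] at hcard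
  have h2 : U ⊓ T = T := Subgroup.eq_of_le_of_card_ge inf_le_right hcard.ge
  exact hne (h2 ▸ inf_le_left)

theorem ext_of_le (F : FusionSystem S) {Y U : Subgroup Ω} (hTU : T ≤ U) {ν : U →* Ω}
    (hν : ν ∈ F.Hom U) : Ext F T Y ν := by
  have hle : T ⊔ (U ⊓ Y) ≤ U := sup_le hTU inf_le_left
  exact ⟨ν.comp (Subgroup.inclusion hle), restrict_mem F hle hν, fun x => rfl⟩

theorem ext_mem (F : FusionSystem S) {Y U : Subgroup Ω}
    (hTR : ∀ X : Subgroup Ω, X ≤ Y → ∀ ν ∈ F.Hom (T ⊔ X), ∀ x : ↥(T ⊔ X), (x : Ω) ∈ X → ν x ∈ Y)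
    {θ : U →* Ω} (h : Ext F T Y θ) (x : U) (hx : (x : Ω) ∈ Y) : θ x ∈ Y := by
  obtain ⟨ψ, hψ, hψx⟩ := h
  have h1 := hψx ⟨x, Subgroup.mem_inf.mpr ⟨x.2, hx⟩⟩
  have h2 := hTR _ inf_le_right ψ hψ
    (Subgroup.inclusion le_sup_right ⟨x, Subgroup.mem_inf.mpr ⟨x.2, hx⟩⟩)
    (Subgroup.mem_inf.mpr ⟨x.2, hx⟩)
  rw [h1] at h2
  exact h2

/-- A map defined on `N_S(W)`, restricted to `W`, has the extension property (induction). -/
theorem ext_fwd [Finite S] {p : ℕ} [Fact p.Prime] (hS : IsPGroup p S) (F : FusionSystem S)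
    (hT : F.StronglyClosed T) {Y W : Subgroup Ω} (hWS : W ≤ S) (hne : ¬ T ≤ W)
    (hIH : ∀ V : Subgroup Ω, V ≤ S → Nat.card ↥(W ⊓ T) < Nat.card ↥(V ⊓ T) →
      ∀ ν ∈ F.Hom V, Ext F T Y ν)
    {μ : ↥(normalizerIn S W) →* Ω} (hμ : μ ∈ F.Hom (normalizerIn S W)) :
    Ext F T Y (μ.comp (Subgroup.inclusion (le_normalizerIn hWS))) := by
  have hTS := hT.1
  have hVN : normalizerIn T W ⊔ W ≤ normalizerIn S W :=
    sup_le (inf_le_inf_right _ hTS) (le_normalizerIn hWS)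
  have hVS : normalizerIn T W ⊔ W ≤ S := hVN.trans inf_le_left
  have hext := hIH _ hVS (card_lt_normalizer hS F hT hWS hne) _ (restrict_mem F hVN hμ)
  exact ext_restrict F (le_sup_right : W ≤ normalizerIn T W ⊔ W) hext

/-- The inverse of an isomorphism `W → U'` induced by a map defined on `N_S(W)` has the extension
property (induction). -/
theorem ext_bwd [Finite S] {p : ℕ} [Fact p.Prime] (hS : IsPGroup p S) (F : FusionSystem S)
    (hT : F.StronglyClosed T) {Y W U' : Subgroup Ω} (hWS : W ≤ S) (hne : ¬ T ≤ W)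
    (hIH : ∀ V : Subgroup Ω, V ≤ S → Nat.card ↥(W ⊓ T) < Nat.card ↥(V ⊓ T) →
      ∀ ν ∈ F.Hom V, Ext F T Y ν)
    {μ : ↥(normalizerIn S W) →* Ω} (hμ : μ ∈ F.Hom (normalizerIn S W)) {e : W ≃* U'}
    (he : ∀ x : W, ((e x : U') : Ω) = μ (Subgroup.inclusion (le_normalizerIn hWS) x)) :
    Ext F T Y (W.subtype.comp e.symm.toMonoidHom) := by
  have hTS := hT.1
  have hVN : normalizerIn T W ⊔ W ≤ normalizerIn S W :=
    sup_le (inf_le_inf_right _ hTS) (le_normalizerIn hWS)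
  have hμV : μ.comp (Subgroup.inclusion hVN) ∈ F.Hom (normalizerIn T W ⊔ W) :=
    restrict_mem F hVN hμ
  obtain ⟨ê, hê, hêx⟩ := exists_isoEquiv F hμV rfl
  have hcard : Nat.card ↥(W ⊓ T) < Nat.card ↥((μ.comp (Subgroup.inclusion hVN)).range ⊓ T) := by
    rw [← card_inf_eq_of_iso F hT hê]
    exact card_lt_normalizer hS F hT hWS hne
  have hext := hIH _ hê.le_right hcard _ hê.2
  have hU'V : U' ≤ (μ.comp (Subgroup.inclusion hVN)).range := by
    intro x hx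
    refine ⟨⟨(e.symm ⟨x, hx⟩ : W), Subgroup.mem_sup_right (e.symm ⟨x, hx⟩).2⟩, ?_⟩
    have h1 := he (e.symm ⟨x, hx⟩)
    rw [e.apply_symm_apply] at h1
    exact h1.symm
  have h4 := ext_restrict F hU'V hext
  have heq : ((normalizerIn T W ⊔ W).subtype.comp ê.symm.toMonoidHom).comp
      (Subgroup.inclusion hU'V) = W.subtype.comp e.symm.toMonoidHom := by
    ext x
    show ((ê.symm (Subgroup.inclusion hU'V x) : ↥(normalizerIn T W ⊔ W)) : Ω)
      = ((e.symm x : W) : Ω)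
    have h5 : ê ⟨(e.symm x : W), Subgroup.mem_sup_right (e.symm x).2⟩
        = Subgroup.inclusion hU'V x := by
      apply Subtype.ext
      rw [hêx]
      have h1 := he (e.symm x)
      rw [e.apply_symm_apply] at h1
      exact h1.symm
    rw [← h5, ê.symm_apply_apply]
  rw [heq] at h4
  exact h4

/-- A subgroup conjugate to a fully normalized `U'` is carried onto it by a map defined on its
normalizer. -/
theorem exists_norm_iso [Finite S] {p : ℕ} [Fact p.Prime] (hS : IsPGroup p S)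
    (F : FusionSystem S) (hF : F.IsSaturated p) {W U' : Subgroup Ω}
    (hU'fn : F.IsFullyNormalized U') (hconj : F.IsConj W U') (hWS : W ≤ S) :
    ∃ μ ∈ F.Hom (normalizerIn S W), ∃ e : W ≃* U', IsoEquiv F e ∧
      ∀ x : W, ((e x : U') : Ω) = μ (Subgroup.inclusion (le_normalizerIn hWS) x) := by
  obtain ⟨μ, hμ, hμW⟩ := exists_map_normalizer_of_fullyNormalized hS F hF hU'fn hconj
  have hWN := le_normalizerIn hWS
  have hφ : μ.comp (Subgroup.inclusion hWN) ∈ F.Hom W := restrict_mem F hWN hμ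
  have hrange : (μ.comp (Subgroup.inclusion hWN)).range = U' := by
    rw [range_restrict_eq hWN μ]
    exact hμW
  obtain ⟨e, he, hex⟩ := exists_isoEquiv F hφ hrange
  exact ⟨μ, hμ, e, he, hex⟩

/-- The inductive step for `U = (U ∩ T)(U ∩ Y)` not containing `T`. -/
theorem ext_step [Finite S] {p : ℕ} [Fact p.Prime] (hS : IsPGroup p S) (F : FusionSystem S)
    (hF : F.IsSaturated p) (E : FusionSystem T) (hinv : E.IsInvariantIn F) {Y : Subgroup Ω}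
    (hY : Y ≤ centralizerIn S T) (hEY : ∀ P : Subgroup Ω, E.Hom P ⊆ F.centralizerHom Y P)
    (hYn : ∀ s ∈ S, ∀ y ∈ Y, s * y * s⁻¹ ∈ Y)
    (hTR : ∀ X : Subgroup Ω, X ≤ Y → ∀ ν ∈ F.Hom (T ⊔ X), ∀ x : ↥(T ⊔ X), (x : Ω) ∈ X → ν x ∈ Y)
    {U : Subgroup Ω} (hU : U ≤ (U ⊓ T) ⊔ (U ⊓ Y)) (hne : ¬ T ≤ U)
    (hIH : ∀ V : Subgroup Ω, V ≤ S → Nat.card ↥(U ⊓ T) < Nat.card ↥(V ⊓ T) →
      ∀ ν ∈ F.Hom V, Ext F T Y ν)
    {ν : U →* Ω} (hν : ν ∈ F.Hom U) : Ext F T Y ν := by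
  have hT := hinv.2.1
  have hTS := hT.1
  have hUS : U ≤ S := (F.le_of_mem hν).1
  obtain ⟨e, he, hex⟩ := exists_isoEquiv F hν rfl
  have hWS : ν.range ≤ S := he.le_right
  obtain ⟨U', hconj, hU'fn⟩ := exists_fullyNormalized_conj F hUS
  have hconjW : F.IsConj ν.range U' := isConj_trans F (isConj_symm F ⟨ν, hν, rfl⟩) hconj
  obtain ⟨μ₁, hμ₁, e₁, he₁, he₁x⟩ := exists_norm_iso hS F hF hU'fn hconj hUS
  obtain ⟨μ₂, hμ₂, e₂, he₂, he₂x⟩ := exists_norm_iso hS F hF hU'fn hconjW hWS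
  have hcW : Nat.card ↥(U ⊓ T) = Nat.card ↥(ν.range ⊓ T) := card_inf_eq_of_iso F hT he
  have hcU' : Nat.card ↥(U ⊓ T) = Nat.card ↥(U' ⊓ T) := card_inf_eq_of_iso F hT he₁
  have hneW : ¬ T ≤ ν.range := not_le_of_card_inf_eq hTS hcW hne
  have hneU' : ¬ T ≤ U' := not_le_of_card_inf_eq hTS hcU' hne
  have h1 : Ext F T Y (U'.subtype.comp e₁.toMonoidHom) := by
    have h := ext_fwd hS F hT hUS hne hIH hμ₁
    have heq : μ₁.comp (Subgroup.inclusion (le_normalizerIn hUS))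
        = U'.subtype.comp e₁.toMonoidHom := by
      ext x
      exact (he₁x x).symm
    rw [heq] at h
    exact h
  have hU' : U' ≤ (U' ⊓ T) ⊔ (U' ⊓ Y) := by
    intro x' hx'
    obtain ⟨x, rfl⟩ : ∃ x : U, ((e₁ x : U') : Ω) = x' := ⟨e₁.symm ⟨x', hx'⟩, by simp⟩
    obtain ⟨a, c, ha, hc, rfl⟩ := udec hY hU x
    rw [map_mul, Subgroup.coe_mul]
    exact Subgroup.mul_mem _
      (Subgroup.mem_sup_left (Subgroup.mem_inf.mpr ⟨(e₁ a).2, map_mem_sc F hT he₁.1 a ha⟩))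
      (Subgroup.mem_sup_right (Subgroup.mem_inf.mpr ⟨(e₁ c).2, ext_mem F hTR h1 c hc⟩))
  have hβ : e₁.symm.trans (e.trans e₂) ∈ F.autGroup U' :=
    (mem_autGroup_iff F hU'fn.1 _).mpr (he₁.symm.trans (he.trans he₂))
  have h2 := ext_aut hS F hF E hinv hY hEY hYn hTR hU'fn hU' hneU'
    (fun V hV hc => hIH V hV (lt_of_eq_of_lt hcU' hc)) hβ
  have h3 := ext_bwd hS F hT hWS hneW (fun V hV hc => hIH V hV (lt_of_eq_of_lt hcW hc)) hμ₂ he₂x
  have h12 := ext_comp F hT hTR h1 h2 (fun v => (e₁ v).2)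
  have h123 := ext_comp F hT hTR h12 h3 (fun v => ((e₁.symm.trans (e.trans e₂)) _).2)
  have key : ∀ y : U, ((e₂.symm ((e₁.symm.trans (e.trans e₂)) (e₁ y)) : ν.range) : Ω) = ν y := by
    intro y
    simp only [MulEquiv.trans_apply, MulEquiv.symm_apply_apply]
    exact hex y
  obtain ⟨ψ, hψ, hψx⟩ := h123
  exact ⟨ψ, hψ, fun x => (hψx x).trans (key _)⟩

/-- **The claim.** Every map of `F` has the extension property. -/
theorem ext_all [Finite S] {p : ℕ} [Fact p.Prime] (hS : IsPGroup p S) (F : FusionSystem S)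
    (hF : F.IsSaturated p) (E : FusionSystem T) (hinv : E.IsInvariantIn F) {Y : Subgroup Ω}
    (hY : Y ≤ centralizerIn S T) (hEY : ∀ P : Subgroup Ω, E.Hom P ⊆ F.centralizerHom Y P)
    (hYn : ∀ s ∈ S, ∀ y ∈ Y, s * y * s⁻¹ ∈ Y)
    (hTR : ∀ X : Subgroup Ω, X ≤ Y → ∀ ν ∈ F.Hom (T ⊔ X), ∀ x : ↥(T ⊔ X), (x : Ω) ∈ X → ν x ∈ Y) :
    ∀ U : Subgroup Ω, U ≤ S → ∀ ν ∈ F.Hom U, Ext F T Y ν := by
  have hT := hinv.2.1
  have hTS := hT.1
  haveI : Finite T := finite_of_le hTS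
  intro U
  obtain ⟨k, hk⟩ : ∃ k, k = Nat.card T - Nat.card ↥(U ⊓ T) := ⟨_, rfl⟩
  induction k using Nat.strong_induction_on generalizing U with
  | _ k ih =>
    intro hUS ν hν
    have hIH : ∀ V : Subgroup Ω, V ≤ S → Nat.card ↥(U ⊓ T) < Nat.card ↥(V ⊓ T) →
        ∀ ν ∈ F.Hom V, Ext F T Y ν := by
      intro V hVS hc
      have h1 : Nat.card ↥(V ⊓ T) ≤ Nat.card T := Subgroup.card_le_of_le inf_le_right
      exact ih (Nat.card T - Nat.card ↥(V ⊓ T)) (by omega) V rfl hVS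
    by_cases hTU : T ≤ U
    · exact ext_of_le F hTU hν
    · obtain ⟨U₀, hU₀⟩ : ∃ U₀ : Subgroup Ω, U₀ = (U ⊓ T) ⊔ (U ⊓ Y) := ⟨_, rfl⟩
      have hU₀U : U₀ ≤ U := by
        rw [hU₀]
        exact sup_le inf_le_left inf_le_left
      have hT₀ : U₀ ⊓ T = U ⊓ T :=
        le_antisymm (inf_le_inf_right T hU₀U) (le_inf (by rw [hU₀]; exact le_sup_left) inf_le_right)
      have hY₀ : U₀ ⊓ Y = U ⊓ Y :=
        le_antisymm (inf_le_inf_right Y hU₀U)
          (le_inf (by rw [hU₀]; exact le_sup_right) inf_le_right)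
      have hdec : U₀ ≤ (U₀ ⊓ T) ⊔ (U₀ ⊓ Y) := by
        rw [hT₀, hY₀, hU₀]
      have hne₀ : ¬ T ≤ U₀ := fun h => hTU (h.trans hU₀U)
      have hIH₀ : ∀ V : Subgroup Ω, V ≤ S → Nat.card ↥(U₀ ⊓ T) < Nat.card ↥(V ⊓ T) →
          ∀ ν ∈ F.Hom V, Ext F T Y ν := by
        rw [hT₀]
        exact hIH
      obtain ⟨ψ, hψ, hψx⟩ := ext_step hS F hF E hinv hY hEY hYn hTR hdec hne₀ hIH₀
        (restrict_mem F hU₀U hν)
      have hle' : U ⊓ Y ≤ U₀ ⊓ Y := hY₀.ge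
      have hle : T ⊔ (U ⊓ Y) ≤ T ⊔ (U₀ ⊓ Y) := sup_le_sup_left hle' T
      exact ⟨ψ.comp (Subgroup.inclusion hle), restrict_mem F hle hψ, fun x => hψx ⟨x, hle' x.2⟩⟩

/-- **Part (b).** The largest subgroup `Y ≤ C_S(T)` centralizing the normal subsystem `E` of `F` is
strongly closed in `F`, and every map of `F` on a subgroup of `Y` extends to `T`. -/
theorem cse_closed [Finite S] (p : ℕ) [Fact p.Prime] (hS : IsPGroup p S) (F : FusionSystem S)
    (hF : F.IsSaturated p) {T : Subgroup Ω} (E : FusionSystem T) (hE : E.IsNormalIn F p)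
    (Y : Subgroup Ω) (hY : Y ≤ centralizerIn S T)
    (hEY : ∀ P : Subgroup Ω, E.Hom P ⊆ F.centralizerHom Y P)
    (hmax : ∀ Y' : Subgroup Ω, Y' ≤ centralizerIn S T →
      (∀ P : Subgroup Ω, E.Hom P ⊆ F.centralizerHom Y' P) → Y' ≤ Y) :
    F.StronglyClosed Y ∧ ∀ A : Subgroup Ω, A ≤ Y → ∀ φ ∈ F.Hom A, ∃ ψ ∈ F.Hom (A ⊔ T),
      ∀ x : A, ψ (Subgroup.inclusion le_sup_left x) = φ x := by
  have hinv := hE.1.2.2
  have hEF := hinv.1
  have hT := hinv.2.1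
  have hai := hinv.2.2.1
  have hYn : ∀ s ∈ S, ∀ y ∈ Y, s * y * s⁻¹ ∈ Y := fun s hs y hy =>
    Cfsg.Agent.Lib.helper90.cse_Y_normal F E hEF hT hai hY hEY hmax hs hy
  have hTR : ∀ X : Subgroup Ω, X ≤ Y → ∀ ν ∈ F.Hom (T ⊔ X), ∀ x : ↥(T ⊔ X),
      (x : Ω) ∈ X → ν x ∈ Y := fun X hXY ν hν x hx =>
    Cfsg.Agent.Lib.helper90.cse_tr_le F E hEF hT hai hY hEY hmax hXY hν ⟨x, hx⟩
  exact Cfsg.Agent.Lib.helper90.cse_closed_of_claim F E hEF hT hai hY hEY hmax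
    (ext_all hS F hF E hinv hY hEY hYn hTR)

end Cfsg.Agent.Lib.helper88.CSE
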