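import Cfsg.Agent.Lib.helper88.Constrained
import Cfsg.Agent.Lib.helper88.Solvable
import Cfsg.Agent.Lib.helper87.Morph1
import Cfsg.Agent.Lib.helper87.QdFree1

/-!
Constrained fusion systems, continued (helper88).

* `isConstrained_of_le_of_stronglyClosed`: a saturated subsystem `E ≤ F` over a subgroup `T`
  strongly closed in the constrained system `F` is constrained.
* `isNormal_imageAlong`: the image of a normal subgroup is normal in a factor system.
* `isConstrained_factor_of_fixed`: the factor system of a constrained system modulo a subgroup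
  fixed pointwise by every map of the system is constrained (this includes isomorphic copies).
-/

set_option autoImplicit false

namespace Cfsg.Agent.Lib.helper88

open Cfsg Cfsg.FusionSystem

variable {Ω : Type*} [Group Ω] {S : Subgroup Ω}

/-- **A saturated subsystem of a constrained system over a strongly closed subgroup is
constrained.** -/
theorem isConstrained_of_le_of_stronglyClosed [Finite S] {p : ℕ} [Fact p.Prime] (hS : IsPGroup p S)
    (F : FusionSystem S) (hF : F.IsConstrained p) {T : Subgroup Ω} (E : FusionSystem T)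
    (hEsat : E.IsSaturated p) (hEF : ∀ P : Subgroup Ω, E.Hom P ⊆ F.Hom P)
    (hT : F.StronglyClosed T) : E.IsConstrained p := by
  obtain ⟨hFsat, Q₁, hQ₁n, hQ₁c⟩ := hF
  have hTS : T ≤ S := hT.1
  have hfinT : Finite T := finite_of_le hTS
  have hTp : IsPGroup p T := hS.to_le hTS
  -- `Q = O_p(F)`
  have hQn : F.IsNormal F.core := isNormal_core F
  have hQS : F.core ≤ S := hQn.1
  have hQc : F.IsCentric F.core := IsCentric.of_le hQ₁c (le_sSup hQ₁n) hQS
  have hmax : ∀ N : Subgroup Ω, F.IsNormal N → N ≤ F.core := fun N hN => le_sSup hN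
  have hQrad : F.IsRadical p F.core := isRadical_of_normal_centric_max hS F hFsat hQn hQc hmax
  have hQsc : F.StronglyClosed F.core := ((Cfsg.Agent.S5086.result p hS F hFsat _).mp hQn).1
  -- `M = Q ⊓ T`
  have hMT : F.core ⊓ T ≤ T := inf_le_right
  have hMsc : F.StronglyClosed (F.core ⊓ T) :=
    ⟨inf_le_left.trans hQS, fun R hR φ hφ x =>
      ⟨hQsc.2 R (hR.trans inf_le_left) φ hφ x, hT.2 R (hR.trans inf_le_right) φ hφ x⟩⟩
  have hMcent : centralizerIn T (F.core ⊓ T) ≤ F.core ⊓ T := by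
    by_contra h
    exact (not_radical_of_not_centric_inf hS F hFsat hT hQc (isConj_refl F hMsc.1) h).2 hQrad
  have hMscE : E.StronglyClosed (F.core ⊓ T) :=
    ⟨hMT, fun R hR φ hφ x => hMsc.2 R hR φ (hEF R hφ) x⟩
  refine ⟨hEsat, F.core ⊓ T, ?_, ?_⟩
  · -- normal in `E`
    refine (Cfsg.Agent.S5086.result p hTp E hEsat (F.core ⊓ T)).mpr ⟨hMscE, ?_⟩
    intro P hPc hPr
    have hPT : P ≤ T := hPc.1
    by_contra hMP
    obtain ⟨w, hwM, hwN, hwP⟩ := Cfsg.Agent.Lib.helper89.exists_normalizing_not_mem hTp hMT hPT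
      (fun g hg t ht => Cfsg.Agent.Lib.helper89.conj_mem_of_stronglyClosed E hMscE hg ht) hMP
    have hDA : autInducedBy (F.core ⊓ T) P ≤ E.autGroup P :=
      (Cfsg.Agent.Lib.helper89.autInducedBy_mono hMT P).trans (autInducedBy_le_autGroup E hPT)
    have hDp : IsPGroup p (autInducedBy (F.core ⊓ T) P) :=
      Cfsg.Agent.Lib.helper89.isPGroup_autInducedBy hTp hMT P
    have hDn : ∀ a ∈ E.autGroup P, ∀ d ∈ autInducedBy (F.core ⊓ T) P,
        a * d * a⁻¹ ∈ autInducedBy (F.core ⊓ T) P := by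
      intro a ha d hd
      have haE : P.subtype.comp a.toMonoidHom ∈ E.Hom P := (mem_autGroup_iff' E hPT a).1 ha
      have haF : P.subtype.comp a.toMonoidHom ∈ F.Hom P := hEF P haE
      obtain ⟨ψ, hψ, hψP, -⟩ := hQn.2 P _ haF
      obtain ⟨q, hq, hd'⟩ := (mem_autInducedBy_iff (F.core ⊓ T) P d).1 hd
      have hle : F.core ⊓ T ≤ P ⊔ F.core := inf_le_left.trans le_sup_right
      have hψq : ψ ⟨q, hle hq⟩ ∈ F.core ⊓ T :=
        hMsc.2 (F.core ⊓ T) le_rfl _ (restrict_mem F hle hψ) ⟨q, hq⟩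
      rw [mem_autInducedBy_iff]
      refine ⟨ψ ⟨q, hle hq⟩, hψq, fun x => ?_⟩
      have e1 : ((a * d * a⁻¹) x : P) = a (d (a⁻¹ x)) := rfl
      have e2 : ∀ y : P, ((a y : P) : Ω) = ψ (Subgroup.inclusion le_sup_left y) :=
        fun y => (hψP y).symm
      rw [e1, e2]
      have e3 : Subgroup.inclusion (le_sup_left : P ≤ P ⊔ F.core) (d (a⁻¹ x)) =
          ⟨q, hle hq⟩ * Subgroup.inclusion le_sup_left (a⁻¹ x) * ⟨q, hle hq⟩⁻¹ := by
        apply Subtype.ext
        simp [hd']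
      rw [e3, map_mul, map_mul, map_inv, ← e2]
      simp
    have hDI := Cfsg.Agent.Lib.helper86.le_inn_of_radical E hPr _ hDA hDn hDp
    have hc := conjAut_mem (F.core ⊓ T) P w hwN hwM
    exact Cfsg.Agent.Lib.helper86.not_mem_inn_of_centric E hPc (hMT hwM) hwP
      (conjAut_apply P w hwN) (hDI hc)
  · -- centric in `E`
    refine ⟨hMT, fun M' hM' => ?_⟩
    have hM'le : M' ≤ F.core ⊓ T := stronglyClosed_isConj_le E hMscE le_rfl hM'
    haveI : Finite ↥(F.core ⊓ T) := finite_of_le hMsc.1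
    have hM'eq : M' = F.core ⊓ T := Subgroup.eq_of_le_of_card_ge hM'le (isConj_card E hM').le
    rw [hM'eq]
    exact hMcent

/-- **The image of a normal subgroup is normal in a factor system.** -/
theorem isNormal_imageAlong [Finite S] {p : ℕ} [Fact p.Prime] (hS : IsPGroup p S)
    (F : FusionSystem S) (hF : F.IsSaturated p) {S₀ : Subgroup Ω} (hS₀ : F.StronglyClosed S₀)
    {Ω' : Type*} [Group Ω'] {S' : Subgroup Ω'} (θ : S →* Ω') (E : FusionSystem S')
    (hE : F.IsFactorSystem S₀ θ E) {Q : Subgroup Ω} (hQ : F.IsNormal Q) :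
    E.IsNormal (imageAlong θ Q) := by
  have hsm := Cfsg.Agent.S5134.result p hS F hF S₀ hS₀ θ E hE
  obtain ⟨hS₀S, hker, hrange, hEiff⟩ := hE
  have hQS : Q ≤ S := hQ.1
  refine ⟨?_, fun P' φ' hφ' => ?_⟩
  · rw [← hrange]
    exact Cfsg.Agent.Lib.helper87.imageAlong_le_range θ Q
  · obtain ⟨hP'S', φ, hφ, hP, hφS, hP', hind⟩ := (hEiff P' φ').mp hφ'
    obtain ⟨ψ, hψ, hψP, hψQ⟩ := hQ.2 _ φ hφ
    have hPQS : preimageAlong θ P' ⊔ Q ≤ S := sup_le hP hQS
    have hψS : ∀ x, ψ x ∈ S := (F.le_of_mem hψ).2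
    obtain ⟨ψ', hψ', hψind⟩ := Cfsg.Agent.Lib.helper87.exists_induced hsm.1 hPQS hψ
    have hle : P' ⊔ imageAlong θ Q ≤ imageAlong θ (preimageAlong θ P' ⊔ Q) := by
      refine sup_le ?_ ?_
      · intro y hy
        have hyr : y ∈ θ.range := by rw [hrange]; exact hP'S' hy
        obtain ⟨s, rfl⟩ := hyr
        exact (Cfsg.Agent.Lib.helper87.mem_imageAlong θ _ _).mpr ⟨s, Subgroup.mem_sup_left
          ((Cfsg.Agent.Lib.helper87.mem_preimageAlong θ P' s).mpr ⟨s.2, hy⟩), rfl⟩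
      · intro y hy
        obtain ⟨s, hs, rfl⟩ := (Cfsg.Agent.Lib.helper87.mem_imageAlong θ Q y).mp hy
        exact (Cfsg.Agent.Lib.helper87.mem_imageAlong θ _ _).mpr
          ⟨s, Subgroup.mem_sup_right hs, rfl⟩
    refine ⟨ψ'.comp (Subgroup.inclusion hle), restrict_mem E hle hψ', ?_, ?_⟩
    · intro x'
      have hxr : (x' : Ω') ∈ θ.range := by rw [hrange]; exact hP'S' x'.2
      obtain ⟨s, hs⟩ := hxr
      have hsP : (s : Ω) ∈ preimageAlong θ P' :=
        (Cfsg.Agent.Lib.helper87.mem_preimageAlong θ P' s).mpr ⟨s.2, by rw [hs]; exact x'.2⟩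
      have e1 : Subgroup.inclusion hle (Subgroup.inclusion le_sup_left x') =
          Cfsg.Agent.Lib.helper87.piAlong θ hPQS ⟨s, Subgroup.mem_sup_left hsP⟩ := by
        apply Subtype.ext
        exact hs.symm
      have e2 : x' = ⟨θ ⟨(s : Ω), hP hsP⟩, hP' ⟨s, hsP⟩⟩ := Subtype.ext hs.symm
      show ψ' (Subgroup.inclusion hle (Subgroup.inclusion le_sup_left x')) = φ' x'
      rw [e1, hψind _ (hψS _), e2, hind ⟨s, hsP⟩]
      congr 1
      apply Subtype.ext
      exact hψP ⟨s, hsP⟩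
    · ext y
      constructor
      · rintro ⟨z, hz, rfl⟩
        have hzQ : ((z : ↥(P' ⊔ imageAlong θ Q)) : Ω') ∈ imageAlong θ Q :=
          Subgroup.mem_subgroupOf.mp hz
        obtain ⟨s, hs, hsz⟩ := (Cfsg.Agent.Lib.helper87.mem_imageAlong θ Q _).mp hzQ
        have e1 : Subgroup.inclusion hle z =
            Cfsg.Agent.Lib.helper87.piAlong θ hPQS ⟨s, Subgroup.mem_sup_right hs⟩ := by
          apply Subtype.ext
          exact hsz.symm
        show ψ' (Subgroup.inclusion hle z) ∈ imageAlong θ Q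
        rw [e1, hψind _ (hψS _)]
        refine (Cfsg.Agent.Lib.helper87.mem_imageAlong θ Q _).mpr ⟨⟨_, hψS _⟩, ?_, rfl⟩
        have h5 : ψ ⟨s, Subgroup.mem_sup_right hs⟩ ∈
            (Q.subgroupOf (preimageAlong θ P' ⊔ Q)).map ψ :=
          ⟨⟨s, Subgroup.mem_sup_right hs⟩, Subgroup.mem_subgroupOf.mpr hs, rfl⟩
        rw [hψQ] at h5
        exact h5
      · intro hy
        obtain ⟨s, hs, rfl⟩ := (Cfsg.Agent.Lib.helper87.mem_imageAlong θ Q y).mp hy
        have hs' : (s : Ω) ∈ (Q.subgroupOf (preimageAlong θ P' ⊔ Q)).map ψ := by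
          rw [hψQ]; exact hs
        obtain ⟨t, ht, hts⟩ := hs'
        have htQ : (t : Ω) ∈ Q := Subgroup.mem_subgroupOf.mp ht
        have hmem : θ ⟨(t : Ω), hPQS t.2⟩ ∈ P' ⊔ imageAlong θ Q :=
          Subgroup.mem_sup_right ((Cfsg.Agent.Lib.helper87.mem_imageAlong θ Q _).mpr
            ⟨⟨(t : Ω), hPQS t.2⟩, htQ, rfl⟩)
        refine ⟨⟨θ ⟨(t : Ω), hPQS t.2⟩, hmem⟩, ?_, ?_⟩
        · exact Subgroup.mem_subgroupOf.mpr ((Cfsg.Agent.Lib.helper87.mem_imageAlong θ Q _).mpr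
            ⟨⟨(t : Ω), hPQS t.2⟩, htQ, rfl⟩)
        · have e1 : Subgroup.inclusion hle ⟨θ ⟨(t : Ω), hPQS t.2⟩, hmem⟩ =
              Cfsg.Agent.Lib.helper87.piAlong θ hPQS t := Subtype.ext rfl
          show ψ' (Subgroup.inclusion hle ⟨θ ⟨(t : Ω), hPQS t.2⟩, hmem⟩) = θ s
          rw [e1, hψind _ (hψS _)]
          congr 1
          exact Subtype.ext hts

/-- **Constrained systems have constrained factor systems modulo pointwise fixed subgroups.**
If every map of the constrained system `F` fixes the elements of `Z₀` in its source, then the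
factor system of `F` modulo `Z₀` is constrained. With `Z₀ = ⊥` this transports constrainedness
along an isomorphism of fusion systems. -/
theorem isConstrained_factor_of_fixed [Finite S] {p : ℕ} [Fact p.Prime] (hS : IsPGroup p S)
    (F : FusionSystem S) (hF : F.IsConstrained p) {Z₀ : Subgroup Ω}
    (hfix : ∀ (P : Subgroup Ω) (φ : P →* Ω), φ ∈ F.Hom P → ∀ x : P, (x : Ω) ∈ Z₀ → φ x = x)
    {Ω' : Type*} [Group Ω'] {S' : Subgroup Ω'} (θ : S →* Ω') (E : FusionSystem S')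
    (hE : F.IsFactorSystem Z₀ θ E) : E.IsConstrained p := by
  obtain ⟨hFsat, Q₁, hQ₁n, hQ₁c⟩ := hF
  have hZ₀S : Z₀ ≤ S := hE.1
  have hZsc : F.StronglyClosed Z₀ :=
    ⟨hZ₀S, fun R hR φ hφ x => by rw [hfix R φ hφ x (hR x.2)]; exact hR x.2⟩
  have hEsat : E.IsSaturated p := factorSystem_saturated hS F hFsat hZsc θ E hE
  have hQn : F.IsNormal F.core := isNormal_core F
  have hQS : F.core ≤ S := hQn.1
  have hQc : F.IsCentric F.core := IsCentric.of_le hQ₁c (le_sSup hQ₁n) hQS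
  have hmax : ∀ N : Subgroup Ω, F.IsNormal N → N ≤ F.core := fun N hN => le_sSup hN
  have hQrad : F.IsRadical p F.core := isRadical_of_normal_centric_max hS F hFsat hQn hQc hmax
  have hQsc : F.StronglyClosed F.core := ((Cfsg.Agent.S5086.result p hS F hFsat _).mp hQn).1
  have hQbn : E.IsNormal (imageAlong θ F.core) :=
    isNormal_imageAlong hS F hFsat hZsc θ E hE hQn
  obtain ⟨-, hker, hrange, -⟩ := hE
  haveI hfinS' : Finite S' := by
    rw [← hrange]
    exact Set.finite_range θ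
  haveI hfinQ : Finite ↥F.core := finite_of_le hQS
  have hQp : IsPGroup p ↥F.core := hS.to_le hQS
  refine ⟨hEsat, imageAlong θ F.core, hQbn,
    Cfsg.Agent.Lib.helper87.isCentric_of_isNormal_of_le E hQbn ?_⟩
  rintro y ⟨hyS', hyC⟩
  have hyr : y ∈ θ.range := by rw [hrange]; exact hyS'
  obtain ⟨s, rfl⟩ := hyr
  have hsN : (s : Ω) ∈ Subgroup.normalizer ((F.core : Subgroup Ω) : Set Ω) :=
    mem_normalizer_of_conj_mem
      (fun x hx => Cfsg.Agent.Lib.helper89.conj_mem_of_stronglyClosed F hQsc s.2 hx)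
  -- the automorphisms of `Q` acting trivially modulo `Z₀`
  let A : Subgroup (MulAut ↥F.core) :=
    { carrier := {β | β ∈ F.autGroup F.core ∧ ∀ q : ↥F.core, ((β q : ↥F.core) : Ω) * (q : Ω)⁻¹ ∈ Z₀}
      mul_mem' := by
        rintro β γ ⟨hβ, hβ'⟩ ⟨hγ, hγ'⟩
        refine ⟨Subgroup.mul_mem _ hβ hγ, fun q => ?_⟩
        have h1 := hβ' (γ q)
        have h2 := hγ' q
        have h3 : (((β * γ) q : ↥F.core) : Ω) * (q : Ω)⁻¹ =
            (((β (γ q) : ↥F.core) : Ω) * ((γ q : ↥F.core) : Ω)⁻¹) *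
              (((γ q : ↥F.core) : Ω) * (q : Ω)⁻¹) := by
          rw [MulAut.mul_apply]
          group
        rw [h3]
        exact Z₀.mul_mem h1 h2
      one_mem' := ⟨Subgroup.one_mem _, fun q => by simp⟩
      inv_mem' := by
        rintro β ⟨hβ, hβ'⟩
        refine ⟨Subgroup.inv_mem _ hβ, fun q => ?_⟩
        have h1 := hβ' (β⁻¹ q)
        have h2 : β (β⁻¹ q) = q := by simp
        rw [h2] at h1
        have h3 : (((β⁻¹ q : ↥F.core) : Ω)) * (q : Ω)⁻¹ =
            ((q : Ω) * ((β⁻¹ q : ↥F.core) : Ω)⁻¹)⁻¹ := by group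
        rw [h3]
        exact Z₀.inv_mem h1 }
  have hAmem : ∀ β : MulAut ↥F.core, β ∈ A ↔ (β ∈ F.autGroup F.core ∧
      ∀ q : ↥F.core, ((β q : ↥F.core) : Ω) * (q : Ω)⁻¹ ∈ Z₀) := fun β => Iff.rfl
  have hAA : A ≤ F.autGroup F.core := fun β hβ => hβ.1
  -- elements of `Aut_F(Q)` fix `Z₀ ∩ Q` pointwise
  have hfixQ : ∀ a ∈ F.autGroup F.core, ∀ z : ↥F.core, (z : Ω) ∈ Z₀ → a z = z := by
    intro a ha z hz
    have haF : (F.core).subtype.comp a.toMonoidHom ∈ F.Hom F.core :=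
      (mem_autGroup_iff' F hQS a).1 ha
    exact Subtype.ext (hfix _ _ haF z hz)
  have hAn : ∀ a ∈ F.autGroup F.core, ∀ d ∈ A, a * d * a⁻¹ ∈ A := by
    intro a ha d hd
    refine ⟨Subgroup.mul_mem _ (Subgroup.mul_mem _ ha hd.1) (Subgroup.inv_mem _ ha), fun q => ?_⟩
    have h1 := hd.2 (a⁻¹ q)
    have h2 := hfixQ a ha (d (a⁻¹ q) * (a⁻¹ q)⁻¹) h1
    have h3 : ((a * d * a⁻¹) q : ↥F.core) * q⁻¹ = a (d (a⁻¹ q) * (a⁻¹ q)⁻¹) := by
      rw [map_mul, map_inv]
      simp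
    have h4 : (((a * d * a⁻¹) q : ↥F.core) : Ω) * (q : Ω)⁻¹ =
        ((((a * d * a⁻¹) q : ↥F.core) * q⁻¹ : ↥F.core) : Ω) := rfl
    rw [h4, h3, h2]
    exact h1
  have hAp : IsPGroup p A := by
    obtain ⟨m, hm⟩ := hQp.exists_card_eq
    rintro ⟨d, hd⟩
    refine ⟨m, Subtype.ext ?_⟩
    show d ^ p ^ m = 1
    have key : ∀ (q : ↥F.core) (n : ℕ), (d ^ n) q = (d q * q⁻¹) ^ n * q := by
      intro q n
      induction n with
      | zero => simp
      | succ n ih =>
        have hz := hfixQ d hd.1 (d q * q⁻¹) (hd.2 q)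
        rw [pow_succ', MulAut.mul_apply, ih, map_mul, map_pow, hz, pow_succ]
        group
    ext q
    rw [key q (p ^ m), ← hm, pow_card_eq_one']
    simp
  have hAI := Cfsg.Agent.Lib.helper86.le_inn_of_radical F hQrad A hAA hAn hAp
  have hcA : conjAut F.core (s : Ω) hsN ∈ A := by
    refine ⟨autInducedBy_le_autGroup F hQS (conjAut_mem S F.core s hsN s.2), fun q => ?_⟩
    rw [conjAut_apply]
    have hqS : (q : Ω) ∈ S := hQS q.2
    have hmem : (s : Ω) * q * (s : Ω)⁻¹ * (q : Ω)⁻¹ ∈ S :=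
      S.mul_mem (S.mul_mem (S.mul_mem s.2 hqS) (S.inv_mem s.2)) (S.inv_mem hqS)
    refine (hker ⟨_, hmem⟩).mp ?_
    have e1 : (⟨(s : Ω) * q * (s : Ω)⁻¹ * (q : Ω)⁻¹, hmem⟩ : S) =
        s * ⟨q, hqS⟩ * s⁻¹ * ⟨q, hqS⟩⁻¹ := rfl
    have hq' : θ ⟨q, hqS⟩ ∈ imageAlong θ F.core :=
      (Cfsg.Agent.Lib.helper87.mem_imageAlong θ _ _).mpr ⟨⟨q, hqS⟩, q.2, rfl⟩
    have hcomm := (Subgroup.mem_centralizer_iff.mp hyC) _ hq'
    rw [e1, map_mul, map_mul, map_mul, map_inv, map_inv, ← hcomm]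
    group
  by_contra hnot
  have hsQ : (s : Ω) ∉ F.core := by
    intro h
    exact hnot ((Cfsg.Agent.Lib.helper87.mem_imageAlong θ _ _).mpr ⟨s, h, rfl⟩)
  exact Cfsg.Agent.Lib.helper86.not_mem_inn_of_centric F hQc s.2 hsQ
    (conjAut_apply F.core (s : Ω) hsN) (hAI hcA)

end Cfsg.Agent.Lib.helper88
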