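import Cfsg.Agent.Lib.helper84.Def1Defs

/-!
# S4441 / S0960 piece Y5 (core): integrality of the characteristic polynomial (helper88)

`d1_charpoly_integral_of` is the piece Y5 with the two facts it needs from pieces C2a / C3
(`d1E S ∈ d1L S` and `ρ (ι (d1E S)) = |G|`) as explicit hypotheses.
-/

set_option autoImplicit false

namespace Cfsg.Agent.Lib.helper88

open Cfsg Cfsg.Agent.Lib.helper84

variable {G : Type*} [Group G] [Fintype G]

theorem d1_charpoly_integral_of (S : Finset (IrrCharacter G))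
    (hEmem : d1E S ∈ d1L S)
    (δ : d1L S →ₗ[ℤ] d1L S) (u : MonoidAlgebra ℤ G)
    (hu : ∀ (k : ℕ) (a : d1L S),
      (Fintype.card G : ℤ) ^ k • (((δ ^ k) a : d1L S) : MonoidAlgebra ℤ G)
        = (a : MonoidAlgebra ℤ G) * u ^ k)
    (n : ℕ) (ρ : Representation ℂ G (Fin n → ℂ))
    (hρE : ρ.asAlgebraHom (d1Iota (d1E S))
      = (Fintype.card G : ℂ) • (1 : (Fin n → ℂ) →ₗ[ℂ] (Fin n → ℂ)))
    (k : ℕ) :
    IsIntegral ℤ ((LinearMap.charpoly
      (ρ.asAlgebraHom ((((Fintype.card G : ℚ)⁻¹ : ℚ) : ℂ) • d1Iota u))).coeff k) := by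
  classical
  set z : MonoidAlgebra ℂ G := (((Fintype.card G : ℚ)⁻¹ : ℚ) : ℂ) • d1Iota u with hz
  set T := ρ.asAlgebraHom z with hT
  have hcard : (Fintype.card G : ℂ) ≠ 0 := by exact_mod_cast Fintype.card_ne_zero
  have hrel : ∀ (k : ℕ) (a : d1L S),
      d1Iota (((δ ^ k) a : d1L S) : MonoidAlgebra ℤ G)
        = d1Iota (a : MonoidAlgebra ℤ G) * z ^ k := by
    intro k a
    have h1 := congrArg d1Iota (hu k a)
    rw [map_zsmul, map_mul, map_pow] at h1
    rw [hz, smul_pow, mul_smul_comm, ← h1, ← Int.cast_smul_eq_zsmul ℂ, smul_smul]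
    have : ((((Fintype.card G : ℚ)⁻¹ : ℚ) : ℂ)) ^ k * (((Fintype.card G : ℤ) ^ k : ℤ) : ℂ)
        = 1 := by
      push_cast
      rw [← mul_pow, inv_mul_cancel₀ hcard, one_pow]
    rw [this, one_smul]
  let h := LinearMap.charpoly δ
  have hmonic : h.Monic := LinearMap.charpoly_monic δ
  have hCH : Polynomial.aeval δ h = 0 := LinearMap.aeval_self_charpoly δ
  have h2 : ∑ i ∈ Finset.range (h.natDegree + 1),
      h.coeff i • (((δ ^ i) ⟨d1E S, hEmem⟩ : d1L S) : MonoidAlgebra ℤ G) = 0 := by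
    have h2a : (Polynomial.aeval δ h) ⟨d1E S, hEmem⟩ = 0 := by rw [hCH]; rfl
    rw [Polynomial.aeval_eq_sum_range, LinearMap.sum_apply] at h2a
    have h2b := congrArg (fun a : d1L S => (a : MonoidAlgebra ℤ G)) h2a
    simp only [LinearMap.smul_apply, Submodule.coe_sum, Submodule.coe_smul,
      Submodule.coe_zero] at h2b
    exact h2b
  have h3 : d1Iota (d1E S) * ∑ i ∈ Finset.range (h.natDegree + 1), (h.coeff i : ℂ) • z ^ i
      = 0 := by
    have h3a := congrArg d1Iota h2
    rw [map_sum, map_zero] at h3a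
    rw [Finset.mul_sum, ← h3a]
    apply Finset.sum_congr rfl
    intro i _
    rw [map_zsmul, hrel, mul_smul_comm, Int.cast_smul_eq_zsmul]
  have h4 : ∑ i ∈ Finset.range (h.natDegree + 1), (h.coeff i : ℂ) • T ^ i = 0 := by
    have h4a := congrArg ρ.asAlgebraHom h3
    rw [map_mul, hρE, map_zero, map_sum] at h4a
    simp only [map_smul, map_pow] at h4a
    rw [smul_mul_assoc, one_mul] at h4a
    exact (smul_eq_zero.mp h4a).resolve_left hcard
  have hroots : ∀ μ ∈ (LinearMap.charpoly T).roots, IsIntegral ℤ μ := by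
    intro μ hμ
    have hroot : (LinearMap.charpoly T).IsRoot μ :=
      (Polynomial.mem_roots (LinearMap.charpoly_monic T).ne_zero).mp hμ
    have hev := (Module.End.hasEigenvalue_iff_isRoot_charpoly T μ).mpr hroot
    obtain ⟨v, hv⟩ := hev.exists_hasEigenvector
    have hTv : T v = μ • v := hv.apply_eq_smul
    have hpow : ∀ i : ℕ, (T ^ i) v = μ ^ i • v := by
      intro i
      induction i with
      | zero => simp
      | succ i ih =>
        rw [pow_succ, Module.End.mul_apply, hTv, map_smul, ih, smul_smul, pow_succ, mul_comm]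
    have h5 := congrArg (fun f : (Fin n → ℂ) →ₗ[ℂ] (Fin n → ℂ) => f v) h4
    simp only [LinearMap.sum_apply, LinearMap.smul_apply, hpow, LinearMap.zero_apply,
      smul_smul] at h5
    rw [← Finset.sum_smul] at h5
    have h6 : ∑ i ∈ Finset.range (h.natDegree + 1), (h.coeff i : ℂ) * μ ^ i = 0 :=
      (smul_eq_zero.mp h5).resolve_right hv.2
    refine ⟨h, hmonic, ?_⟩
    rw [Polynomial.eval₂_eq_sum_range]
    simpa using h6
  have hsplit : (LinearMap.charpoly T).Splits := IsAlgClosed.splits _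
  have hl := hsplit.mem_lift_of_roots_mem_range (LinearMap.charpoly_monic T)
    (algebraMap (integralClosure ℤ ℂ) ℂ) (fun a ha => ⟨⟨a, hroots a ha⟩, rfl⟩)
  rw [Polynomial.lifts_iff_coeff_lifts] at hl
  obtain ⟨c, hc⟩ := hl k
  rw [← hc]
  exact c.2

end Cfsg.Agent.Lib.helper88
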