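import Mathlib
import Cfsg.Agent.S5082
import Cfsg.Agent.Lib.helper88.TH1
import Cfsg.Agent.Lib.helper88.GT3

/-!
# Glauberman's theorem for fusion systems, part 1 (helper88): moved elements

For an element `x` of the centre of `S` and a fusion system `F` over `S`: `MovesHom F x` (some map
of `F` moves `x`), `Moves F x` (some automorphism in `F` moves `x`), `NormMoves F U x` (some
automorphism in `N_F(U)` moves `x`). By the Alperin-Goldschmidt fusion theorem a map moving `x`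
gives an automorphism, of `S` or of an essential subgroup at least as large as the source,
moving `x`.
-/

set_option autoImplicit false

namespace Cfsg.Agent.Lib.helper88

open Cfsg Cfsg.FusionSystem

variable {Ω : Type*} [Group Ω] {S : Subgroup Ω}

/-- Some map of the system moves `x`. -/
def MovesHom (F : FusionSystem S) (x : Ω) : Prop :=
  ∃ (P : Subgroup Ω) (φ : P →* Ω), φ ∈ F.Hom P ∧ ∃ hx : x ∈ P, φ ⟨x, hx⟩ ≠ x

/-- Some automorphism in the system moves `x`. -/
def Moves (F : FusionSystem S) (x : Ω) : Prop :=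
  ∃ (P : Subgroup Ω) (α : MulAut P), P.subtype.comp α.toMonoidHom ∈ F.Hom P ∧
    ∃ hx : x ∈ P, ((α ⟨x, hx⟩ : P) : Ω) ≠ x

/-- Some automorphism in the normalizer system `N_F(U)` moves `x`. -/
def NormMoves (F : FusionSystem S) (U : Subgroup Ω) (x : Ω) : Prop :=
  ∃ (P : Subgroup Ω) (α : MulAut P), P.subtype.comp α.toMonoidHom ∈ F.normalizerHom U P ∧
    ∃ hx : x ∈ P, ((α ⟨x, hx⟩ : P) : Ω) ≠ x

theorem Moves.movesHom {F : FusionSystem S} {x : Ω} (h : Moves F x) : MovesHom F x := by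
  obtain ⟨P, α, hα, hx, hne⟩ := h
  exact ⟨P, _, hα, hx, hne⟩

theorem NormMoves.moves {F : FusionSystem S} {U : Subgroup Ω} {x : Ω} (h : NormMoves F U x) :
    Moves F x := by
  obtain ⟨P, α, hα, hx, hne⟩ := h
  exact ⟨P, α, hα.1, hx, hne⟩

theorem moves_iff_of_isNormalizerSystem (F : FusionSystem S) (U : Subgroup Ω)
    (E : FusionSystem (normalizerIn S U)) (hE : F.IsNormalizerSystem U E) (x : Ω) :
    Moves E x ↔ NormMoves F U x := by
  constructor
  · rintro ⟨P, α, hα, hx, hne⟩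
    rw [hE P] at hα
    exact ⟨P, α, hα, hx, hne⟩
  · rintro ⟨P, α, hα, hx, hne⟩
    rw [← hE P] at hα
    exact ⟨P, α, hα, hx, hne⟩

theorem NormMoves.of_le [Finite S] {T : Subgroup Ω} [Finite T] {E : FusionSystem T}
    {F : FusionSystem S} (hTS : T ≤ S) (hle : ∀ P : Subgroup Ω, E.Hom P ⊆ F.Hom P) {U : Subgroup Ω}
    {x : Ω} (h : NormMoves E U x) : NormMoves F U x := by
  obtain ⟨P, α, hα, hx, hne⟩ := h
  refine ⟨P, α, ?_, hx, hne⟩
  rw [Cfsg.Agent.Lib.helper89.mem_normalizerHom_iff] at hα ⊢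
  obtain ⟨h1, h2, h3, R, ψ, hψ, hPR, hUR, h4, h5⟩ := hα
  have hmono : normalizerIn T U ≤ normalizerIn S U := fun x hx => ⟨hTS hx.1, hx.2⟩
  exact ⟨hle P h1, h2.trans hmono, fun x => hmono (h3 x), R, ψ, hle R hψ, hPR, hUR, h4, h5⟩

/-- An automorphism of `R` in the system is an automorphism of `N_F(R)`. -/
theorem normMoves_of_aut [Finite S] {F : FusionSystem S} {R : Subgroup Ω} (hRS : R ≤ S)
    {α : MulAut R} (hα : α ∈ F.autGroup R) {x : Ω} (hx : x ∈ R)
    (hne : ((α ⟨x, hx⟩ : R) : Ω) ≠ x) : NormMoves F R x := by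
  have hα' := (mem_autGroup_iff' F hRS α).mp hα
  refine ⟨R, α, ?_, hx, hne⟩
  rw [Cfsg.Agent.Lib.helper89.mem_normalizerHom_iff]
  refine ⟨hα', le_normalizerIn hRS, fun y => le_normalizerIn hRS (α y).2, ?_⟩
  exact ⟨R, _, hα', le_rfl, le_rfl, fun y hy hR => rfl, fun q hq hR => (α ⟨q, hR⟩).2⟩

theorem mul_comm_of_mem_centerOf {A : Type*} [Group A] {T : Subgroup A} {x g : A}
    (hx : x ∈ centerOf T) (hg : g ∈ T) : g * x = x * g :=
  (Subgroup.mem_centralizer_iff.mp hx.2 g hg)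

/-- The maps of `F` that, on subgroups of order greater than `m`, neither move `x` nor send
another element to `x`. -/
def fixSystem [Finite S] (F : FusionSystem S) (x : Ω) (hx : x ∈ centerOf S) (m : ℕ) :
    FusionSystem S where
  Hom P := {φ | φ ∈ F.Hom P ∧ (m < Nat.card P →
    (∀ hxP : x ∈ P, φ ⟨x, hxP⟩ = x) ∧ ∀ y : P, φ y = x → (y : Ω) = x)}
  le_of_mem h := F.le_of_mem h.1
  injective_of_mem h := F.injective_of_mem h.1
  conj_mem := by
    intro P g hP hg
    refine ⟨F.conj_mem hP hg, fun _ => ⟨fun hxP => ?_, fun y hy => ?_⟩⟩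
    · show g * x * g⁻¹ = x
      rw [mul_comm_of_mem_centerOf hx hg, mul_inv_cancel_right]
    · have h1 : g * (y : Ω) * g⁻¹ = x := hy
      have h2 : (y : Ω) = g⁻¹ * x * g := by rw [← h1]; group
      rw [h2, mul_assoc, ← mul_comm_of_mem_centerOf hx hg, inv_mul_cancel_left]
  comp_mem := by
    intro P Q φ ψ hφ hψ h
    refine ⟨F.comp_mem hφ.1 hψ.1 h, fun hm => ?_⟩
    have hQS : Q ≤ S := (F.le_of_mem hψ.1).1
    haveI : Finite Q := finite_of_le hQS
    have hinj : Function.Injective (φ.codRestrict Q h) := by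
      intro a b hab
      apply F.injective_of_mem hφ.1
      exact congrArg Subtype.val hab
    have hmQ : m < Nat.card Q := lt_of_lt_of_le hm (Nat.card_le_card_of_injective _ hinj)
    obtain ⟨hφ1, hφ2⟩ := hφ.2 hm
    obtain ⟨hψ1, hψ2⟩ := hψ.2 hmQ
    refine ⟨fun hxP => ?_, fun y hy => ?_⟩
    · have h1 : φ.codRestrict Q h ⟨x, hxP⟩ = ⟨x, (hφ1 hxP) ▸ h ⟨x, hxP⟩⟩ :=
        Subtype.ext (hφ1 hxP)
      show ψ (φ.codRestrict Q h ⟨x, hxP⟩) = x
      rw [h1]
      exact hψ1 _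
    · have h1 : ψ (φ.codRestrict Q h y) = x := hy
      have h2 : ((φ.codRestrict Q h y : Q) : Ω) = x := hψ2 _ h1
      exact hφ2 y h2
  inv_mem := by
    intro P φ hφ
    obtain ⟨ψ, hψ, hinv⟩ := F.inv_mem hφ.1
    refine ⟨ψ, ⟨hψ, fun hm => ?_⟩, hinv⟩
    have hcard : Nat.card φ.range = Nat.card P :=
      (Nat.card_congr (MonoidHom.ofInjective (F.injective_of_mem hφ.1)).toEquiv).symm
    rw [hcard] at hm
    obtain ⟨hφ1, hφ2⟩ := hφ.2 hm
    refine ⟨fun hxP => ?_, fun w hw => ?_⟩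
    · obtain ⟨y, hy⟩ := hxP
      have hyx : (y : Ω) = x := hφ2 y hy
      have h1 : (⟨x, ⟨y, hy⟩⟩ : φ.range) = ⟨φ y, ⟨y, rfl⟩⟩ := Subtype.ext hy.symm
      rw [h1, hinv y]
      exact hyx
    · obtain ⟨w, y, rfl⟩ := w
      rw [hinv y] at hw
      have hxP : x ∈ P := hw ▸ y.2
      have h1 : y = ⟨x, hxP⟩ := Subtype.ext hw
      show φ y = x
      rw [h1]
      exact hφ1 hxP

/-- **Alperin-Goldschmidt for moved elements.** If the automorphisms in `F` of `S` and of the
essential subgroups of order greater than `m` fix `x ∈ Z(S)`, then every map of `F` defined on a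
subgroup of order greater than `m` fixes `x`. -/
theorem hom_fixes_of_aut_fixes [Finite S] {p : ℕ} [Fact p.Prime] (hS : IsPGroup p S)
    (F : FusionSystem S) (hF : F.IsSaturated p) {x : Ω} (hx : x ∈ centerOf S) (m : ℕ)
    (h : ∀ R : Subgroup Ω, (R = S ∨ F.IsEssential p R) → m < Nat.card R →
      ∀ α ∈ F.autGroup R, ∀ hxR : x ∈ R, ((α ⟨x, hxR⟩ : R) : Ω) = x) :
    ∀ (P : Subgroup Ω) (φ : P →* Ω), φ ∈ F.Hom P → m < Nat.card P →
      ∀ hxP : x ∈ P, φ ⟨x, hxP⟩ = x := by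
  have hle : F ≤ fixSystem F x hx m := by
    apply Cfsg.Agent.S5082.result p hS F hF
    intro R hR α hα
    have hRS : R ≤ S := by
      rcases hR with hR | hR
      · exact hR.le
      · exact hR.1.1
    have hα' := (mem_autGroup_iff' F hRS α).mp hα
    rw [mem_autGroup_iff' _ hRS]
    refine ⟨hα', fun hm => ⟨fun hxR => h R hR hm α hα hxR, fun y hy => ?_⟩⟩
    have hy' : ((α y : R) : Ω) = x := hy
    have hxR : x ∈ R := hy' ▸ (α y).2
    have h1 := h R hR hm α hα hxR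
    have h2 : α y = α ⟨x, hxR⟩ := Subtype.ext (hy'.trans h1.symm)
    have h3 : y = ⟨x, hxR⟩ := α.injective h2
    rw [h3]
  intro P φ hφ hm hxP
  exact ((hle P hφ).2 hm).1 hxP

/-- A map moving `x ∈ Z(S)` gives an automorphism, of `S` or of an essential subgroup of order at
least the order of the source, moving `x`. -/
theorem exists_aut_moves [Finite S] {p : ℕ} [Fact p.Prime] (hS : IsPGroup p S)
    (F : FusionSystem S) (hF : F.IsSaturated p) {x : Ω} (hx : x ∈ centerOf S)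
    {P : Subgroup Ω} {φ : P →* Ω} (hφ : φ ∈ F.Hom P) (hxP : x ∈ P) (hne : φ ⟨x, hxP⟩ ≠ x) :
    ∃ R : Subgroup Ω, (R = S ∨ F.IsEssential p R) ∧ Nat.card P ≤ Nat.card R ∧
      ∃ α ∈ F.autGroup R, ∃ hxR : x ∈ R, ((α ⟨x, hxR⟩ : R) : Ω) ≠ x := by
  by_contra hcon
  push Not at hcon
  haveI : Finite P := finite_of_le (F.le_of_mem hφ).1
  have hpos : 0 < Nat.card P := Nat.card_pos
  apply hne
  refine hom_fixes_of_aut_fixes hS F hF hx (Nat.card P - 1) ?_ P φ hφ (by omega) hxP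
  intro R hR hm α hα hxR
  exact hcon R hR (by omega) α hα hxR

theorem fullyNormalized_self [Finite S] (F : FusionSystem S) : F.IsFullyNormalized S :=
  fullyNormalized_of_le_normalizer F le_rfl Subgroup.le_normalizer

/-- A map moving `x ∈ Z(S)` gives a fully normalized subgroup `R`, of order at least the order of
the source, with `N_F(R)` moving `x`. -/
theorem exists_normMoves [Finite S] {p : ℕ} [Fact p.Prime] (hS : IsPGroup p S)
    (F : FusionSystem S) (hF : F.IsSaturated p) {x : Ω} (hx : x ∈ centerOf S)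
    {P : Subgroup Ω} {φ : P →* Ω} (hφ : φ ∈ F.Hom P) (hxP : x ∈ P) (hne : φ ⟨x, hxP⟩ ≠ x) :
    ∃ R : Subgroup Ω, F.IsFullyNormalized R ∧ Nat.card P ≤ Nat.card R ∧ x ∈ R ∧
      NormMoves F R x := by
  obtain ⟨R, hR, hcard, α, hα, hxR, hne'⟩ := exists_aut_moves hS F hF hx hφ hxP hne
  have hfn : F.IsFullyNormalized R := by
    rcases hR with hR | hR
    · rw [hR]
      exact fullyNormalized_self F
    · exact hR.2.1
  exact ⟨R, hfn, hcard, hxR, normMoves_of_aut hfn.1 hα hxR hne'⟩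

theorem MovesHom.moves [Finite S] {p : ℕ} [Fact p.Prime] (hS : IsPGroup p S)
    {F : FusionSystem S} (hF : F.IsSaturated p) {x : Ω} (hx : x ∈ centerOf S)
    (h : MovesHom F x) : Moves F x := by
  obtain ⟨P, φ, hφ, hxP, hne⟩ := h
  obtain ⟨R, -, -, -, hR⟩ := exists_normMoves hS F hF hx hφ hxP hne
  exact hR.moves

end Cfsg.Agent.Lib.helper88
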