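import Mathlib
import Cfsg.Agent.Lib.helper88.GZ1

/-!
# Glauberman's theorem for fusion systems, part 2 (helper88): transport to a conjugate

`NormMoves F U x` is carried to `NormMoves F U₁ x` by a map of the system defined on `N_S(U)`
that carries `U` onto `U₁` and fixes `x`.
-/

set_option autoImplicit false

namespace Cfsg.Agent.Lib.helper88

open Cfsg Cfsg.FusionSystem

variable {Ω : Type*} [Group Ω] {S : Subgroup Ω}

theorem NormMoves.transport [Finite S] {F : FusionSystem S} {U U₁ : Subgroup Ω} (hUS : U ≤ S)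
    {φ : ↥(normalizerIn S U) →* Ω} (hφ : φ ∈ F.Hom (normalizerIn S U))
    (hφU : (U.subgroupOf (normalizerIn S U)).map φ = U₁) {x : Ω}
    (hxN : x ∈ normalizerIn S U) (hφx : φ ⟨x, hxN⟩ = x) (h : NormMoves F U x) :
    NormMoves F U₁ x := by
  have hφS := (F.le_of_mem hφ).2
  have hφinj := F.injective_of_mem hφ
  have hU₁S : U₁ ≤ S := by
    rw [← hφU]
    rintro _ ⟨y, -, rfl⟩
    exact hφS y
  have hfinU₁ : Finite U₁ := finite_of_le hU₁S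
  obtain ⟨P, α, hα, hxP, hne⟩ := h
  obtain ⟨hαF, hPN, hαN, ψ, hψ, hext, hmap⟩ := hα
  have hUN : U ≤ normalizerIn S U := le_normalizerIn hUS
  have hMN : P ⊔ U ≤ normalizerIn S U := sup_le hPN hUN
  have hMS : P ⊔ U ≤ S := hMN.trans (normalizerIn_le S U)
  have hψU : ∀ x : U, ψ (Subgroup.inclusion le_sup_right x) ∈ U := by
    intro x
    have h1 : ψ (Subgroup.inclusion le_sup_right x) ∈ (U.subgroupOf (P ⊔ U)).map ψ :=
      ⟨_, Subgroup.mem_subgroupOf.mpr x.2, rfl⟩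
    rw [hmap] at h1
    exact h1
  have hψP : ∀ x : P, ψ (Subgroup.inclusion le_sup_left x) = ((α x : P) : Ω) := hext
  have hψM : ∀ x : ↥(P ⊔ U), ψ x ∈ P ⊔ U := by
    intro x
    refine Cfsg.Agent.Lib.helper87.sup_hom_mem ψ _ (fun y => ?_) (fun y => ?_) x
    · rw [hψP y]
      exact (le_sup_left : P ≤ P ⊔ U) (α y).2
    · exact (le_sup_right : U ≤ P ⊔ U) (hψU y)
  obtain ⟨β, hβ⟩ := Cfsg.Agent.Lib.helper89.exists_aut_of_mem F hψ hψM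
  have hβF : β ∈ F.autGroup (P ⊔ U) := by
    rw [mem_autGroup_iff' F hMS]
    have h1 : (P ⊔ U).subtype.comp β.toMonoidHom = ψ := by
      ext x
      exact hβ x
    rw [h1]
    exact hψ
  have hφM : φ.comp (Subgroup.inclusion hMN) ∈ F.Hom (P ⊔ U) := restrict_mem F hMN hφ
  obtain ⟨e, he, heφ⟩ := exists_isoEquiv F hφM rfl
  have hβ₁F : MulAut.congr e β ∈ F.autGroup (φ.comp (Subgroup.inclusion hMN)).range :=
    he.congr_mem hβF
  have hM₁S : (φ.comp (Subgroup.inclusion hMN)).range ≤ S := he.le_right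
  have ha₁ : (φ.comp (Subgroup.inclusion hMN)).range.subtype.comp
      (MulAut.congr e β).toMonoidHom ∈ F.Hom (φ.comp (Subgroup.inclusion hMN)).range :=
    (mem_autGroup_iff' F hM₁S _).mp hβ₁F
  -- the key formula
  have hkey : ∀ x : ↥(P ⊔ U), (((MulAut.congr e β) (e x) :
      ↥(φ.comp (Subgroup.inclusion hMN)).range) : Ω) = φ ⟨ψ x, hMN (hψM x)⟩ := by
    intro x
    have h1 : (MulAut.congr e β) (e x) = e (β x) := by
      simp [MulAut.congr]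
    rw [h1, heφ]
    show φ (Subgroup.inclusion hMN (β x)) = _
    congr 1
    exact Subtype.ext (hβ x)
  have hecoe : ∀ (x : Ω) (hx : x ∈ P ⊔ U), ((e ⟨x, hx⟩ :
      ↥(φ.comp (Subgroup.inclusion hMN)).range) : Ω) = φ ⟨x, hMN hx⟩ := fun x hx => heφ ⟨x, hx⟩
  -- the image of `P`
  set P₁ : Subgroup Ω := (φ.comp (Subgroup.inclusion hPN)).range with hP₁
  have hP₁M₁ : P₁ ≤ (φ.comp (Subgroup.inclusion hMN)).range := by
    rintro _ ⟨x, rfl⟩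
    exact ⟨⟨x, (le_sup_left : P ≤ P ⊔ U) x.2⟩, rfl⟩
  have hU₁M₁ : U₁ ≤ (φ.comp (Subgroup.inclusion hMN)).range := by
    rw [← hφU]
    rintro _ ⟨x, hx, rfl⟩
    exact ⟨⟨x, (le_sup_right : U ≤ P ⊔ U) (Subgroup.mem_subgroupOf.mp hx)⟩, rfl⟩
  have hP₁S : P₁ ≤ S := hP₁M₁.trans hM₁S
  have hfinP₁ : Finite P₁ := finite_of_le hP₁S
  -- the transported map preserves `P₁` and `U₁`
  have ha₁P : ∀ (x : P), (((MulAut.congr e β) ⟨φ ⟨x, hPN x.2⟩, hP₁M₁ ⟨x, rfl⟩⟩ :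
      ↥(φ.comp (Subgroup.inclusion hMN)).range) : Ω) = φ ⟨((α x : P) : Ω), hPN (α x).2⟩ := by
    intro x
    have h1 := hkey ⟨x, (le_sup_left : P ≤ P ⊔ U) x.2⟩
    have h2 : e ⟨x, (le_sup_left : P ≤ P ⊔ U) x.2⟩ =
        ⟨φ ⟨x, hPN x.2⟩, hP₁M₁ ⟨x, rfl⟩⟩ := Subtype.ext (hecoe x _)
    rw [h2] at h1
    rw [h1]
    congr 1
    exact Subtype.ext (hψP x)
  have ha₁U : ∀ (y : Ω) (hy : y ∈ U₁), (((MulAut.congr e β) ⟨y, hU₁M₁ hy⟩ :
      ↥(φ.comp (Subgroup.inclusion hMN)).range) : Ω) ∈ U₁ := by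
    intro y hy
    have hy' := hy
    rw [← hφU] at hy'
    obtain ⟨x, hx, rfl⟩ := hy'
    have hxU : (x : Ω) ∈ U := Subgroup.mem_subgroupOf.mp hx
    have h1 := hkey ⟨x, (le_sup_right : U ≤ P ⊔ U) hxU⟩
    have h2 : e ⟨x, (le_sup_right : U ≤ P ⊔ U) hxU⟩ = ⟨φ x, hU₁M₁ hy⟩ :=
      Subtype.ext (hecoe x _)
    rw [h2] at h1
    rw [h1, ← hφU]
    exact ⟨_, Subgroup.mem_subgroupOf.mpr (hψU ⟨x, hxU⟩), rfl⟩
  have hb : ((φ.comp (Subgroup.inclusion hMN)).range.subtype.comp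
      (MulAut.congr e β).toMonoidHom).comp (Subgroup.inclusion hP₁M₁) ∈ F.Hom P₁ :=
    restrict_mem F hP₁M₁ ha₁
  have hbval : ∀ y : P₁, (((φ.comp (Subgroup.inclusion hMN)).range.subtype.comp
      (MulAut.congr e β).toMonoidHom).comp (Subgroup.inclusion hP₁M₁)) y ∈ P₁ := by
    rintro ⟨_, x, rfl⟩
    show (((MulAut.congr e β) ⟨φ ⟨x, hPN x.2⟩, hP₁M₁ ⟨x, rfl⟩⟩ :
      ↥(φ.comp (Subgroup.inclusion hMN)).range) : Ω) ∈ P₁
    rw [ha₁P x]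
    exact ⟨α x, rfl⟩
  obtain ⟨α₁, hα₁⟩ := Cfsg.Agent.Lib.helper89.exists_aut_of_mem F hb hbval
  have hxP₁ : x ∈ P₁ := ⟨⟨x, hxP⟩, hφx⟩
  refine ⟨P₁, α₁, ?_, hxP₁, ?_⟩
  · rw [Cfsg.Agent.Lib.helper89.mem_normalizerHom_iff]
    have hP₁N : P₁ ≤ normalizerIn S U₁ := by
      rintro _ ⟨x, rfl⟩
      refine ⟨hφS _, ?_⟩
      apply mem_normalizer_of_conj_mem
      intro u hu
      rw [← hφU] at hu ⊢
      obtain ⟨u', hu', rfl⟩ := hu
      have hxN : (x : Ω) ∈ Subgroup.normalizer (U : Set Ω) := (hPN x.2).2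
      refine ⟨Subgroup.inclusion hPN x * u' * (Subgroup.inclusion hPN x)⁻¹, ?_, ?_⟩
      · rw [SetLike.mem_coe, Subgroup.mem_subgroupOf]
        exact (Subgroup.mem_normalizer_iff.mp hxN u').mp (Subgroup.mem_subgroupOf.mp hu')
      · rw [map_mul, map_mul, map_inv]
        rfl
    refine ⟨?_, hP₁N, fun y => hP₁N (α₁ y).2, ?_⟩
    · have h1 : P₁.subtype.comp α₁.toMonoidHom =
          ((φ.comp (Subgroup.inclusion hMN)).range.subtype.comp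
            (MulAut.congr e β).toMonoidHom).comp (Subgroup.inclusion hP₁M₁) := by
        ext y
        exact hα₁ y
      rw [h1]
      exact hb
    · exact ⟨_, _, ha₁, hP₁M₁, hU₁M₁, fun x hx hR => (hα₁ ⟨x, hx⟩).symm,
        fun q hq hR => ha₁U q hq⟩
  · intro hcon
    apply hne
    have h1 : α₁ ⟨x, hxP₁⟩ = α₁ ⟨φ ⟨x, hPN hxP⟩, ⟨⟨x, hxP⟩, rfl⟩⟩ := by
      congr 1
      exact Subtype.ext hφx.symm
    have h2 : ((α₁ ⟨φ ⟨x, hPN hxP⟩, ⟨⟨x, hxP⟩, rfl⟩⟩ : P₁) : Ω) =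
        φ ⟨((α ⟨x, hxP⟩ : P) : Ω), hPN (α ⟨x, hxP⟩).2⟩ := by
      rw [hα₁]
      exact ha₁P ⟨x, hxP⟩
    rw [h1, h2] at hcon
    have h3 : φ ⟨((α ⟨x, hxP⟩ : P) : Ω), hPN (α ⟨x, hxP⟩).2⟩ = φ ⟨x, hxN⟩ := hcon.trans hφx.symm
    exact congrArg Subtype.val (hφinj h3)

end Cfsg.Agent.Lib.helper88
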