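import Mathlib
import Cfsg.Agent.Lib.helper88.GZ2
import Cfsg.Agent.Lib.helper88.GT4

/-!
# Glauberman's theorem for fusion systems, part 3 (helper88): factor systems

`NormMoves` lifts along a surjective morphism of fusion systems, and maps of the system induce
maps of the image system.
-/

set_option autoImplicit false

namespace Cfsg.Agent.Lib.helper88

open Cfsg Cfsg.FusionSystem

variable {Ω : Type*} [Group Ω] {S : Subgroup Ω} {Ω' : Type*} [Group Ω'] {S' : Subgroup Ω'}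

theorem NormMoves.lift [Finite S] [Finite S'] {F : FusionSystem S}
    {F' : FusionSystem S'} {θ : S →* Ω'} (hθ : F.IsSurjectiveMorphism F' θ) {V' : Subgroup Ω'}
    {x : Ω} (hxS : x ∈ S) (h : NormMoves F' V' (θ ⟨x, hxS⟩)) :
    NormMoves F (FusionSystem.preimageAlong θ V') x := by
  obtain ⟨P', α', hα', hx', hne'⟩ := h
  rw [Cfsg.Agent.Lib.helper89.mem_normalizerHom_iff] at hα'
  obtain ⟨hα'F, hP'N, -, R', ψ', hψ', hP'R', hV'R', hagree, hψ'V⟩ := hα'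
  obtain ⟨hmor, hrange, hsurj⟩ := hθ
  have hR'S' : R' ≤ S' := (F'.le_of_mem hψ').1
  obtain ⟨ψ, hψ, hRS, hψS, hθR, hind⟩ := hsurj R' hR'S' ψ' hψ'
  have hPR : FusionSystem.preimageAlong θ P' ≤ FusionSystem.preimageAlong θ R' :=
    Cfsg.Agent.Lib.helper87.preimageAlong_mono θ hP'R'
  have hLR : FusionSystem.preimageAlong θ V' ≤ FusionSystem.preimageAlong θ R' :=
    Cfsg.Agent.Lib.helper87.preimageAlong_mono θ hV'R'
  have hPS : FusionSystem.preimageAlong θ P' ≤ S := Cfsg.Agent.Lib.helper87.preimageAlong_le θ P'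
  have hLS : FusionSystem.preimageAlong θ V' ≤ S := Cfsg.Agent.Lib.helper87.preimageAlong_le θ V'
  have hmemP : ∀ x : Ω, x ∈ FusionSystem.preimageAlong θ P' ↔ ∃ hx : x ∈ S, θ ⟨x, hx⟩ ∈ P' :=
    fun x => Cfsg.Agent.Lib.helper87.mem_preimageAlong θ P' x
  have hmemL : ∀ x : Ω, x ∈ FusionSystem.preimageAlong θ V' ↔ ∃ hx : x ∈ S, θ ⟨x, hx⟩ ∈ V' :=
    fun x => Cfsg.Agent.Lib.helper87.mem_preimageAlong θ V' x
  have hψP : ∀ (x : Ω) (hx : x ∈ FusionSystem.preimageAlong θ P'),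
      θ ⟨ψ ⟨x, hPR hx⟩, hψS _⟩ =
        ((α' ⟨θ ⟨x, hPS hx⟩, ((hmemP x).mp hx).2⟩ : P') : Ω') := by
    intro x hx
    obtain ⟨hxS, hxP'⟩ := (hmemP x).mp hx
    have h1 := hind ⟨x, hPR hx⟩
    have h2 := hagree (θ ⟨x, hxS⟩) hxP' (hθR ⟨x, hPR hx⟩)
    rw [← h1]
    exact h2
  have hψP' : ∀ (x : Ω) (hx : x ∈ FusionSystem.preimageAlong θ P'),
      ψ ⟨x, hPR hx⟩ ∈ FusionSystem.preimageAlong θ P' := by
    intro x hx
    rw [hmemP]
    refine ⟨hψS _, ?_⟩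
    rw [hψP x hx]
    exact (α' _).2
  have hψL : ∀ (x : Ω) (hx : x ∈ FusionSystem.preimageAlong θ V'),
      ψ ⟨x, hLR hx⟩ ∈ FusionSystem.preimageAlong θ V' := by
    intro x hx
    obtain ⟨hxS, hxV'⟩ := (hmemL x).mp hx
    rw [hmemL]
    refine ⟨hψS _, ?_⟩
    rw [← hind ⟨x, hLR hx⟩]
    exact hψ'V (θ ⟨x, hxS⟩) hxV' _
  have ha : ψ.comp (Subgroup.inclusion hPR) ∈ F.Hom (FusionSystem.preimageAlong θ P') :=
    restrict_mem F hPR hψ
  obtain ⟨α, hα⟩ := Cfsg.Agent.Lib.helper89.exists_aut_of_mem F ha (fun x => hψP' x x.2)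
  have hxP : x ∈ FusionSystem.preimageAlong θ P' := (hmemP x).mpr ⟨hxS, hx'⟩
  refine ⟨FusionSystem.preimageAlong θ P', α, ?_, hxP, ?_⟩
  · rw [Cfsg.Agent.Lib.helper89.mem_normalizerHom_iff]
    have hPN : FusionSystem.preimageAlong θ P' ≤
        normalizerIn S (FusionSystem.preimageAlong θ V') := by
      intro x hx
      obtain ⟨hxS, hxP'⟩ := (hmemP x).mp hx
      refine ⟨hxS, ?_⟩
      haveI : Finite ↥(FusionSystem.preimageAlong θ V') := finite_of_le hLS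
      apply mem_normalizer_of_conj_mem
      intro l hl
      obtain ⟨hlS, hlV'⟩ := (hmemL l).mp hl
      rw [hmemL]
      refine ⟨S.mul_mem (S.mul_mem hxS hlS) (S.inv_mem hxS), ?_⟩
      have h1 : (⟨x * l * x⁻¹, S.mul_mem (S.mul_mem hxS hlS) (S.inv_mem hxS)⟩ : S) =
          ⟨x, hxS⟩ * ⟨l, hlS⟩ * ⟨x, hxS⟩⁻¹ := rfl
      rw [h1, map_mul, map_mul, map_inv]
      have h2 : θ ⟨x, hxS⟩ ∈ Subgroup.normalizer (V' : Set Ω') := (hP'N hxP').2
      exact (Subgroup.mem_normalizer_iff.mp h2 _).mp hlV'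
    have h1 : (FusionSystem.preimageAlong θ P').subtype.comp α.toMonoidHom =
        ψ.comp (Subgroup.inclusion hPR) := by
      ext x
      exact hα x
    exact ⟨h1 ▸ ha, hPN, fun x => hPN (α x).2, _, ψ, hψ, hPR, hLR,
      fun x hx hR => (hα ⟨x, hx⟩).symm, fun q hq hR => hψL q hq⟩
  · intro hcon
    apply hne'
    have h1 := hψP x hxP
    have h2 : (⟨ψ ⟨x, hPR hxP⟩, hψS _⟩ : S) = ⟨x, hxS⟩ :=
      Subtype.ext ((hα ⟨x, hxP⟩).symm.trans hcon)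
    rw [h2] at h1
    exact h1.symm

/-- If no map of the image system moves the image of `x`, every map of the system moves `x`
inside its coset of the kernel. -/
theorem image_fixed_of_not_movesHom {F : FusionSystem S} {F' : FusionSystem S'} {θ : S →* Ω'}
    (hθ : F.IsMorphism F' θ) {x : Ω} (hxS : x ∈ S) (h : ¬ MovesHom F' (θ ⟨x, hxS⟩))
    {P : Subgroup Ω} {φ : P →* Ω} (hφ : φ ∈ F.Hom P) (hxP : x ∈ P) :
    ∃ hφS : φ ⟨x, hxP⟩ ∈ S, θ ⟨φ ⟨x, hxP⟩, hφS⟩ = θ ⟨x, hxS⟩ := by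
  obtain ⟨φ', hφ', hPS, hφS, hP', hind⟩ := hθ.2 P φ hφ
  refine ⟨hφS _, ?_⟩
  rw [← hind ⟨x, hxP⟩]
  by_contra hne
  exact h ⟨_, φ', hφ', hP' ⟨x, hxP⟩, hne⟩

end Cfsg.Agent.Lib.helper88
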