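import Mathlib
import Cfsg.Agent.Lib.helper88.GZ3
import Cfsg.Agent.Lib.helper88.TH2
import Cfsg.Agent.Lib.helper87.Model

/-!
# Glauberman's theorem for fusion systems, part 4 (helper88): the realized case

`GlaubermanWC p` is the statement of Glauberman's theorem on weakly closed elements of Sylow
subgroups (statement S2799). With it, if `G` realizes `F` on a Sylow `p`-subgroup and some map
of `F` moves `x ∈ Z(S)`, then some automorphism of `J(S)` in `F` moves `x`.
-/

set_option autoImplicit false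

namespace Cfsg.Agent.Lib.helper88

open Cfsg Cfsg.FusionSystem

universe u

/-- The centre of a finite group lies in every abelian subgroup of largest order. -/
theorem center_le_of_mem_maxAbelianSubgroups {P : Type*} [Group P] [Finite P] {A : Subgroup P}
    (hA : A ∈ Cfsg.maxAbelianSubgroups P) : Subgroup.center P ≤ A := by
  obtain ⟨hAc, hmax⟩ := hA
  have hle : A ⊔ Subgroup.center P ≤ Subgroup.centralizer ((A ⊔ Subgroup.center P : Subgroup P) : Set P) := by
    apply sup_le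
    · rw [Subgroup.le_centralizer_iff]
      apply sup_le
      · intro a ha
        rw [Subgroup.mem_centralizer_iff]
        intro b hb
        exact (isMulCommutative_iff_forall A).mp hAc b hb a ha
      · exact Subgroup.center_le_centralizer _
    · exact Subgroup.center_le_centralizer _
  have hc : IsMulCommutative ↥(A ⊔ Subgroup.center P) := by
    rw [isMulCommutative_iff_forall]
    intro x hx y hy
    exact (Subgroup.mem_centralizer_iff.mp (hle hy) x hx)
  have h1 := hmax _ hc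
  have h2 : A = A ⊔ Subgroup.center P := Subgroup.eq_of_le_of_card_ge le_sup_left h1
  rw [h2]
  exact le_sup_right

theorem exists_mem_maxAbelianSubgroups (P : Type*) [Group P] [Finite P] :
    ∃ A : Subgroup P, A ∈ Cfsg.maxAbelianSubgroups P := by
  have hfin : {B : Subgroup P | IsMulCommutative B}.Finite := Set.toFinite _
  have hne : (⊥ : Subgroup P) ∈ {B : Subgroup P | IsMulCommutative B} := by
    show IsMulCommutative ↥(⊥ : Subgroup P)
    rw [isMulCommutative_iff_forall]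
    intro x hx y hy
    rw [Subgroup.mem_bot.mp hx, Subgroup.mem_bot.mp hy]
  obtain ⟨A, hA, hmax⟩ := Set.exists_max_image _ (fun B : Subgroup P => Nat.card B) hfin ⟨⊥, hne⟩
  exact ⟨A, hA, fun B hB => hmax B hB⟩

theorem center_le_thompsonSubgroupA (P : Type*) [Group P] [Finite P] :
    Subgroup.center P ≤ Cfsg.thompsonSubgroupA P := by
  obtain ⟨A, hA⟩ := exists_mem_maxAbelianSubgroups P
  exact (center_le_of_mem_maxAbelianSubgroups hA).trans (le_sSup hA)

/-- `Z(T) ≤ J(T)` for a finite subgroup `T`. -/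
theorem centerOf_le_thompsonSubgroupAOf {A : Type*} [Group A] (T : Subgroup A) [Finite T] :
    centerOf T ≤ Cfsg.thompsonSubgroupAOf T := by
  intro x hx
  have h1 : (⟨x, hx.1⟩ : T) ∈ Subgroup.center T := by
    rw [Subgroup.mem_center_iff]
    intro g
    apply Subtype.ext
    exact Subgroup.mem_centralizer_iff.mp hx.2 g g.2
  exact ⟨⟨x, hx.1⟩, center_le_thompsonSubgroupA T h1, rfl⟩

/-- The statement of Glauberman's theorem on weakly closed elements of a Sylow `p`-subgroup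
(statement S2799), for the groups of one universe. -/
def GlaubermanWC (p : ℕ) : Prop :=
  ∀ {G : Type u} [Group G] [Finite G] (S : Sylow p G) (x : G), x ∈ (S : Subgroup G) →
    x ∈ (Subgroup.center ↥(Subgroup.normalizer
      ((Cfsg.thompsonSubgroupAOf (S : Subgroup G)) : Set G))).map
        (Subgroup.normalizer ((Cfsg.thompsonSubgroupAOf (S : Subgroup G)) : Set G)).subtype →
    (p ≠ 2 ∨ (∃ z ∈ (S : Subgroup G) ⊓ Subgroup.centralizer ((S : Subgroup G) : Set G),
      z ^ p = x) ∨ ¬ Cfsg.Involves (Equiv.Perm (Fin 4)) G) →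
    ∀ g : G, g * x * g⁻¹ ∈ (S : Subgroup G) → g * x * g⁻¹ = x

variable {Ω : Type*} [Group Ω] {S : Subgroup Ω}

theorem centerOf_iff_of_realized {G : Type*} [Group G] {ι : S →* G}
    (hinj : Function.Injective ι) (T : Subgroup G) (hT : T = ι.range) (x : S) :
    (x : Ω) ∈ centerOf S ↔ ι x ∈ centerOf T := by
  constructor
  · intro hx
    obtain ⟨-, hxC⟩ := Subgroup.mem_inf.mp hx
    rw [Subgroup.mem_centralizer_iff] at hxC
    refine Subgroup.mem_inf.mpr ⟨by rw [hT]; exact ⟨x, rfl⟩, ?_⟩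
    rw [Subgroup.mem_centralizer_iff]
    intro t ht
    rw [SetLike.mem_coe, hT] at ht
    obtain ⟨y, rfl⟩ := ht
    rw [← map_mul, ← map_mul]
    congr 1
    exact Subtype.ext (hxC y y.2)
  · intro hx
    obtain ⟨-, hxC⟩ := Subgroup.mem_inf.mp hx
    rw [Subgroup.mem_centralizer_iff] at hxC
    refine Subgroup.mem_inf.mpr ⟨x.2, ?_⟩
    rw [Subgroup.mem_centralizer_iff]
    intro y hy
    have h1 := hxC (ι ⟨y, hy⟩) (by rw [SetLike.mem_coe, hT]; exact ⟨_, rfl⟩)
    rw [← map_mul, ← map_mul] at h1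
    exact congrArg Subtype.val (hinj h1)

theorem thompsonSubgroupAOf_iff_of_realized {G : Type*} [Group G] {ι : S →* G}
    (hinj : Function.Injective ι) (T : Subgroup G) (hT : T = ι.range) (x : S) :
    (x : Ω) ∈ Cfsg.thompsonSubgroupAOf S ↔ ι x ∈ Cfsg.thompsonSubgroupAOf T := by
  have h1 : Cfsg.thompsonSubgroupAOf S =
      (Cfsg.thompsonSubgroupAOf (⊤ : Subgroup S)).map S.subtype :=
    thompsonSubgroupAOf_eq_map_top S
  have h2 : Cfsg.thompsonSubgroupAOf T =
      (Cfsg.thompsonSubgroupAOf (⊤ : Subgroup S)).map ι := by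
    rw [hT, MonoidHom.range_eq_map, thompsonSubgroupAOf_map hinj]
  rw [h1, h2]
  constructor
  · rintro ⟨y, hy, hyx⟩
    have h3 : y = x := Subtype.ext hyx
    exact ⟨y, hy, by rw [h3]⟩
  · rintro ⟨y, hy, hyx⟩
    have h3 : y = x := hinj hyx
    exact ⟨y, hy, by rw [h3]; rfl⟩

/-- **The realized case**: with Glauberman's theorem for groups, if `G` realizes `F` on a Sylow
`p`-subgroup and some map of `F` moves `x ∈ Z(S)`, then some automorphism in `N_F(J(S))`
moves `x`. -/
theorem normMoves_of_realized {Ω : Type*} [Group Ω] {S : Subgroup Ω} [Finite S] {p : ℕ}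
    [Fact p.Prime] (hG : GlaubermanWC.{u} p)
    (F : FusionSystem S) {G : Type u} [Group G] [Finite G] {ι : S →* G} (hR : F.IsRealizedBy ι)
    (T : Sylow p G) (hT : (T : Subgroup G) = ι.range) {x : Ω} (hx : x ∈ centerOf S)
    (hc : p ≠ 2 ∨ (∃ z ∈ centerOf S, z ^ p = x) ∨ ¬ Cfsg.Involves (Equiv.Perm (Fin 4)) G)
    (h : MovesHom F x) : NormMoves F (Cfsg.thompsonSubgroupAOf S) x := by
  by_contra hcon
  obtain ⟨P, φ, hφ, hxP, hne⟩ := h
  have hinj := hR.1
  have hJS : Cfsg.thompsonSubgroupAOf S ≤ S := thompsonSubgroupAOf_le S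
  have hJ'T : Cfsg.thompsonSubgroupAOf (T : Subgroup G) ≤ ι.range := by
    rw [← hT]
    exact thompsonSubgroupAOf_le _
  have hJJ := thompsonSubgroupAOf_iff_of_realized hinj (T : Subgroup G) hT
  have hxJ : x ∈ Cfsg.thompsonSubgroupAOf S := centerOf_le_thompsonSubgroupAOf S hx
  have hxT : ι ⟨x, hx.1⟩ ∈ (T : Subgroup G) := by rw [hT]; exact ⟨_, rfl⟩
  have hTN : (T : Subgroup G) ≤
      Subgroup.normalizer (Cfsg.thompsonSubgroupAOf (T : Subgroup G) : Set G) :=
    Subgroup.le_normalizer.trans (normalizer_le_normalizer_thompsonSubgroupAOf _)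
  have hcent : ∀ g ∈ Subgroup.normalizer (Cfsg.thompsonSubgroupAOf (T : Subgroup G) : Set G),
      g * ι ⟨x, hx.1⟩ * g⁻¹ = ι ⟨x, hx.1⟩ := by
    intro g hg
    have hconj : ∀ y : ↥(Cfsg.thompsonSubgroupAOf S), g * ι ⟨y, hJS y.2⟩ * g⁻¹ ∈ ι.range :=
      fun y => hJ'T ((Subgroup.mem_normalizer_iff.mp hg _).mp ((hJJ ⟨y, hJS y.2⟩).mp y.2))
    obtain ⟨ψ, hψ, hψι⟩ := Cfsg.Agent.Lib.helper87.exists_mem_hom_of_conj hR hJS g hconj
    have hψS := (F.le_of_mem hψ).2
    have hψJ : ∀ y : ↥(Cfsg.thompsonSubgroupAOf S), ψ y ∈ Cfsg.thompsonSubgroupAOf S := by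
      intro y
      have h1 := hJJ ⟨ψ y, hψS y⟩
      rw [h1, hψι]
      exact (Subgroup.mem_normalizer_iff.mp hg _).mp ((hJJ ⟨y, hJS y.2⟩).mp y.2)
    obtain ⟨α, hα⟩ := Cfsg.Agent.Lib.helper89.exists_aut_of_mem F hψ hψJ
    have hαF : α ∈ F.autGroup (Cfsg.thompsonSubgroupAOf S) := by
      rw [mem_autGroup_iff' F hJS]
      have h1 : (Cfsg.thompsonSubgroupAOf S).subtype.comp α.toMonoidHom = ψ := by
        ext y
        exact hα y
      rw [h1]
      exact hψ
    by_contra hne'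
    apply hcon
    refine normMoves_of_aut hJS hαF hxJ ?_
    intro h1
    apply hne'
    rw [← hψι ⟨x, hxJ⟩ (hψS _)]
    congr 1
    exact Subtype.ext ((hα ⟨x, hxJ⟩).symm.trans h1)
  have hxZ : ι ⟨x, hx.1⟩ ∈ (Subgroup.center ↥(Subgroup.normalizer
      ((Cfsg.thompsonSubgroupAOf (T : Subgroup G)) : Set G))).map
        (Subgroup.normalizer ((Cfsg.thompsonSubgroupAOf (T : Subgroup G)) : Set G)).subtype := by
    refine ⟨⟨ι ⟨x, hx.1⟩, hTN hxT⟩, ?_, rfl⟩
    rw [SetLike.mem_coe, Subgroup.mem_center_iff]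
    intro g
    apply Subtype.ext
    show (g : G) * ι ⟨x, hx.1⟩ = ι ⟨x, hx.1⟩ * (g : G)
    exact mul_inv_eq_iff_eq_mul.mp (hcent g g.2)
  have hc' : p ≠ 2 ∨ (∃ z ∈ (T : Subgroup G) ⊓ Subgroup.centralizer ((T : Subgroup G) : Set G),
      z ^ p = ι ⟨x, hx.1⟩) ∨ ¬ Cfsg.Involves (Equiv.Perm (Fin 4)) G := by
    rcases hc with h | ⟨z, hz, hzx⟩ | h
    · exact Or.inl h
    · right
      left
      refine ⟨ι ⟨z, hz.1⟩, (centerOf_iff_of_realized hinj (T : Subgroup G) hT
        ⟨z, hz.1⟩).mp hz, ?_⟩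
      rw [← map_pow]
      congr 1
      exact Subtype.ext hzx
    · exact Or.inr (Or.inr h)
  have hwc := hG T _ hxT hxZ hc'
  have hPS : P ≤ S := (F.le_of_mem hφ).1
  have hφS := (F.le_of_mem hφ).2
  obtain ⟨g, hg⟩ := (hR.2 P hPS φ hφS).mp hφ
  have h1 := hg ⟨x, hxP⟩
  have h2 := hwc g (by rw [← h1, hT]; exact ⟨_, rfl⟩)
  apply hne
  have h3 : ι ⟨φ ⟨x, hxP⟩, hφS _⟩ = ι ⟨x, hx.1⟩ := h1.trans h2
  exact congrArg Subtype.val (hinj h3)

end Cfsg.Agent.Lib.helper88
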