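import Mathlib
import Cfsg.Agent.Lib.helper88.TH2
import Cfsg.Agent.Lib.helper88.GT5
import Cfsg.Agent.Lib.helper88.SecFree4
import Cfsg.Prelude.Def_FusionReduction

/-!
# Thompson's normal `p`-complement theorem for fusion systems, part 3 (helper88): the theorem

`thompson_fusion`: let `F` be saturated over the finite `p`-group `S`, with `p` odd or `F`
`S₄`-free. If some automorphism of `F` is not a `p`-element then some automorphism of `C_F(Z(S))`
or of `N_F(J(S))` is not a `p`-element.

Same induction as `gt_fusion` (on `|S|`, then on `|S| - |O_p(F)|`), with Thompson's theorem for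
groups in the constrained case; for `p = 2` the `S₄`-freeness is inherited by normalizer systems
(`sectionFree_normalizer`) and by factor systems (hypothesis `FactorHeredity`).
-/

set_option autoImplicit false

namespace Cfsg.Agent.Lib.helper88

open Cfsg Cfsg.FusionSystem

universe u w

/-- Heredity of `H`-freeness to the factor systems modulo subgroups normal in the system. -/
def FactorHeredity (p : ℕ) (H : Type w) [Group H] : Prop :=
  ∀ {Ω : Type u} [Group Ω] {S : Subgroup Ω} [Finite S], IsPGroup p S →
    ∀ F : FusionSystem S, F.IsSaturated p → ∀ Q : Subgroup Ω, F.IsNormal Q →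
      F.IsSectionFree p H → ∀ {Ω' : Type u} [Group Ω'] {S' : Subgroup Ω'} (θ : S →* Ω')
        (E : FusionSystem S'), F.IsFactorSystem Q θ E → E.IsSectionFree p H

theorem thompson_fusion_aux {p : ℕ} [Fact p.Prime]
    (hfac : p = 2 → FactorHeredity.{u} p (Equiv.Perm (Fin 4))) (n : ℕ) :
    ∀ (d : ℕ) {Ω : Type u} [Group Ω] (S : Subgroup Ω) [Finite S], IsPGroup p S → Nat.card S = n →
      ∀ F : FusionSystem S, F.IsSaturated p →
        (p ≠ 2 ∨ F.IsSectionFree p (Equiv.Perm (Fin 4))) →
        Nat.card S - Nat.card F.core = d → NonInner p F →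
        CentNonInner p F (centerOf S) ∨ NormNonInner p F (Cfsg.thompsonSubgroupAOf S) := by
  induction n using Nat.strong_induction_on with
  | _ n IH1 =>
  intro d
  induction d using Nat.strong_induction_on with
  | _ d IH2 =>
  intro Ω _ S _ hS hn F hF hp hd hNI
  have hQn : F.IsNormal F.core := isNormal_core F
  have hQS : F.core ≤ S := hQn.1
  have hcardQ : Nat.card F.core ≤ Nat.card S := Subgroup.card_le_of_le hQS
  -- a normal subgroup of `S` larger than the core whose normalizer system is not inner
  have step_normal : ∀ L : Subgroup Ω, L ≤ S → S ≤ Subgroup.normalizer (L : Set Ω) →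
      NormNonInner p F L → Nat.card F.core < Nat.card L →
      CentNonInner p F (centerOf S) ∨ NormNonInner p F (Cfsg.thompsonSubgroupAOf S) := by
    intro L hLS hSL hNL hlt
    have hfn : F.IsFullyNormalized L := fullyNormalized_of_le_normalizer F hLS hSL
    have hE := Cfsg.Agent.Lib.helper89.isNormalizerSystem_normalizerSystem F L hLS
    have hEsat := Cfsg.Agent.S5098.result p hS F hF L hfn _ hE
    have hT : normalizerIn S L = S := normalizerIn_eq_of_le_normalizer hSL
    haveI hfinT : Finite ↥(normalizerIn S L) := finite_of_le (normalizerIn_le S L)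
    have hTp : IsPGroup p ↥(normalizerIn S L) := hS.to_le (normalizerIn_le S L)
    have hcardT : Nat.card ↥(normalizerIn S L) = n := by rw [hT]; exact hn
    have hEn := isNormal_of_isNormalizerSystem F hLS _ hE
    have hLcore : L ≤ (Cfsg.Agent.Lib.helper89.normalizerSystem F L hLS).core := le_sSup hEn
    have hcore_le : (Cfsg.Agent.Lib.helper89.normalizerSystem F L hLS).core ≤ normalizerIn S L :=
      (isNormal_core _).1
    have h1 : Nat.card L ≤ Nat.card (Cfsg.Agent.Lib.helper89.normalizerSystem F L hLS).core := by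
      haveI : Finite ↥(Cfsg.Agent.Lib.helper89.normalizerSystem F L hLS).core :=
        finite_of_le hcore_le
      exact Subgroup.card_le_of_le hLcore
    have h2 : Nat.card (Cfsg.Agent.Lib.helper89.normalizerSystem F L hLS).core ≤
        Nat.card ↥(normalizerIn S L) := Subgroup.card_le_of_le hcore_le
    have hENI : NonInner p (Cfsg.Agent.Lib.helper89.normalizerSystem F L hLS) :=
      (nonInner_iff_of_isNormalizerSystem F L _ hE).mpr hNL
    have hpE : p ≠ 2 ∨ (Cfsg.Agent.Lib.helper89.normalizerSystem F L hLS).IsSectionFree p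
        (Equiv.Perm (Fin 4)) :=
      hp.imp id (fun h => sectionFree_normalizer hS F hF _ h hfn _ hE)
    have h3 := IH2 (Nat.card ↥(normalizerIn S L) -
      Nat.card (Cfsg.Agent.Lib.helper89.normalizerSystem F L hLS).core) (by omega)
      (normalizerIn S L) hTp hcardT _ hEsat hpE rfl hENI
    have hle : ∀ P : Subgroup Ω, (Cfsg.Agent.Lib.helper89.normalizerSystem F L hLS).Hom P ⊆
        F.Hom P := fun P φ hφ => by rw [hE P] at hφ; exact hφ.1
    have h4 : CentNonInner p F (centerOf (normalizerIn S L)) ∨
        NormNonInner p F (Cfsg.thompsonSubgroupAOf (normalizerIn S L)) :=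
      h3.imp (CentNonInner.of_le (normalizerIn_le S L) hle)
        (NormNonInner.of_le (normalizerIn_le S L) hle)
    rw [hT] at h4
    exact h4
  by_cases hcen : F.IsCentric F.core
  · -- constrained case: a model
    obtain ⟨G, _, ι, hM⟩ := exists_model hS F ⟨hF, F.core, hQn, hcen⟩
    have hpG : p ≠ 2 ∨ ¬ Cfsg.Involves (Equiv.Perm (Fin 4)) G := by
      rcases hp with hp | hp
      · exact Or.inl hp
      · right
        have hsc := Cfsg.Agent.Lib.helper86.stronglyClosed_of_isNormal F hQn
        have hfn : F.IsFullyNormalized F.core := fullyNormalized_of_stronglyClosed F hsc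
        have hE := Cfsg.Agent.Lib.helper89.isNormalizerSystem_normalizerSystem F F.core hQS
        exact hp F.core hfn hcen _ hE G _ (model_normalizerSystem_of_isNormal hM hQn _ hE)
    obtain ⟨hfin, hR, ⟨T, hT⟩, -⟩ := hM
    exact thNonInner_of_realized F hR T hT hpG hNI
  by_cases hQ1 : F.core = ⊥
  · -- trivial core: normalizer tower
    obtain ⟨U₀, hU₀S, hU₀ne, hU₀⟩ := hNI.exists_normNonInner
    obtain ⟨U₁, hfn₁, -, hne₁, hN₁⟩ := hU₀.exists_fullyNormalized hS hF hU₀S
    have hfinX : {U : Subgroup Ω | U ≠ ⊥ ∧ F.IsFullyNormalized U ∧ NormNonInner p F U}.Finite :=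
      Set.Finite.subset finite_le (fun U hU => hU.2.1.1)
    obtain ⟨U, hUX, hmax⟩ := Set.exists_max_image _ (fun U => Nat.card (normalizerIn S U)) hfinX
      ⟨U₁, hne₁ hU₀ne, hfn₁, hN₁⟩
    obtain ⟨hUne, hUfn, hUN⟩ := hUX
    have hUS : U ≤ S := hUfn.1
    haveI hfinU : Finite U := finite_of_le hUS
    by_cases hTS : normalizerIn S U = S
    · refine step_normal U hUS ?_ hUN ?_
      · intro x hx
        rw [← hTS] at hx
        exact hx.2
      · rw [hQ1, Subgroup.card_bot]
        exact (Subgroup.one_lt_card_iff_ne_bot _).mpr hUne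
    · exfalso
      have hTle : normalizerIn S U ≤ S := normalizerIn_le S U
      haveI hfinT : Finite ↥(normalizerIn S U) := finite_of_le hTle
      have hTp : IsPGroup p ↥(normalizerIn S U) := hS.to_le hTle
      have hcardT : Nat.card ↥(normalizerIn S U) < n := by
        rw [← hn]
        exact lt_of_le_of_ne (Subgroup.card_le_of_le hTle)
          (fun h => hTS (Subgroup.eq_of_le_of_card_ge hTle h.ge))
      have hE := Cfsg.Agent.Lib.helper89.isNormalizerSystem_normalizerSystem F U hUS
      have hEsat := Cfsg.Agent.S5098.result p hS F hF U hUfn _ hE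
      have hENI : NonInner p (Cfsg.Agent.Lib.helper89.normalizerSystem F U hUS) :=
        (nonInner_iff_of_isNormalizerSystem F U _ hE).mpr hUN
      have hpE : p ≠ 2 ∨ (Cfsg.Agent.Lib.helper89.normalizerSystem F U hUS).IsSectionFree p
          (Equiv.Perm (Fin 4)) :=
        hp.imp id (fun h => sectionFree_normalizer hS F hF _ h hUfn _ hE)
      have h1 := IH1 _ hcardT _ (normalizerIn S U) hTp rfl _ hEsat hpE rfl hENI
      have hle : ∀ P : Subgroup Ω, (Cfsg.Agent.Lib.helper89.normalizerSystem F U hUS).Hom P ⊆
          F.Hom P := fun P φ hφ => by rw [hE P] at hφ; exact hφ.1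
      have hTne : normalizerIn S U ≠ ⊥ := by
        intro h
        apply hUne
        have h3 : U ≤ normalizerIn S U := le_normalizerIn hUS
        rw [h] at h3
        exact le_bot_iff.mp h3
      have hexW : ∃ W : Subgroup Ω, W ≤ normalizerIn S U ∧ W ≠ ⊥ ∧
          Subgroup.normalizer ((normalizerIn S U : Subgroup Ω) : Set Ω) ≤
            Subgroup.normalizer (W : Set Ω) ∧ NormNonInner p F W := by
        rcases h1 with hc | hn
        · exact ⟨centerOf (normalizerIn S U), centerOf_le _, centerOf_ne_bot _ hTp hTne,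
            normalizer_le_normalizer_centerOf _, NormNonInner.of_le hTle hle hc.normNonInner⟩
        · exact ⟨Cfsg.thompsonSubgroupAOf (normalizerIn S U), thompsonSubgroupAOf_le _,
            thompsonSubgroupAOf_ne_bot _ hTp hTne, normalizer_le_normalizer_thompsonSubgroupAOf _,
            NormNonInner.of_le hTle hle hn⟩
      obtain ⟨W, hVT, hVne, hWnorm, h2⟩ := hexW
      obtain ⟨V₁, hfnV, hcardV, hneV, hNV⟩ := h2.exists_fullyNormalized hS hF (hVT.trans hTle)
      have h3 := hmax V₁ ⟨hneV hVne, hfnV, hNV⟩
      obtain ⟨g, hgN, hgT⟩ := exists_mem_normalizerIn_not_mem hS hTle hTS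
      have hNTV : normalizerIn S (normalizerIn S U) ≤ normalizerIn S W :=
        fun x hx => ⟨hx.1, hWnorm hx.2⟩
      have hTV : normalizerIn S U ≤ normalizerIn S W :=
        (le_normalizerIn hTle).trans hNTV
      haveI : Finite ↥(normalizerIn S W) :=
        finite_of_le (normalizerIn_le S _)
      have h4 : Nat.card ↥(normalizerIn S U) <
          Nat.card ↥(normalizerIn S W) := by
        by_contra h5
        push Not at h5
        have h6 := Subgroup.eq_of_le_of_card_ge hTV h5
        apply hgT
        rw [h6]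
        exact hNTV hgN
      have h7 : Nat.card ↥(normalizerIn S V₁) ≤ Nat.card ↥(normalizerIn S U) := h3
      omega
  · -- nontrivial, non-centric core: the factor system
    by_contra hcon
    have hsc : F.StronglyClosed F.core :=
      Cfsg.Agent.Lib.helper86.stronglyClosed_of_isNormal F hQn
    haveI hQ'n : (F.core.subgroupOf S).Normal := by
      refine ⟨fun x hx g => ?_⟩
      rw [Subgroup.mem_subgroupOf] at hx ⊢
      exact Cfsg.Agent.Lib.helper89.conj_mem_of_stronglyClosed F hsc g.2 hx
    obtain ⟨E', hE'⟩ := Cfsg.Agent.S5132.result p hS F F.core hsc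
    have hsm := Cfsg.Agent.S5134.result p hS F hF F.core hsc _ E' hE'
    have hE'sat : E'.IsSaturated p := Cfsg.Agent.S5133.result p hS F hF E' _ hsm
    have hker : ∀ s : S, (QuotientGroup.mk' (F.core.subgroupOf S)) s = 1 ↔ (s : Ω) ∈ F.core :=
      hE'.2.1
    have hTp : IsPGroup p ↥(⊤ : Subgroup (S ⧸ F.core.subgroupOf S)) :=
      (hS.to_quotient (F.core.subgroupOf S)).to_subgroup ⊤
    haveI hfinQ : Finite ↥F.core := finite_of_le hQS
    have hcardlt : Nat.card ↥(⊤ : Subgroup (S ⧸ F.core.subgroupOf S)) < n := by
      rw [Subgroup.card_top, ← hn,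
        Subgroup.card_eq_card_quotient_mul_card_subgroup (F.core.subgroupOf S)]
      have h1 : Nat.card ↥(F.core.subgroupOf S) = Nat.card ↥F.core :=
        Nat.card_congr (Subgroup.subgroupOfEquivOfLe hQS).toEquiv
      have h2 : 1 < Nat.card ↥F.core := (Subgroup.one_lt_card_iff_ne_bot _).mpr hQ1
      rw [h1]
      exact (Nat.lt_mul_iff_one_lt_right Nat.card_pos).mpr h2
    have hB1 : ∀ W' : Subgroup (S ⧸ F.core.subgroupOf S),
        Subgroup.normalizer (((⊤ : Subgroup (S ⧸ F.core.subgroupOf S)) : Subgroup _) : Set _) ≤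
          Subgroup.normalizer (W' : Set (S ⧸ F.core.subgroupOf S)) → W' ≠ ⊥ →
        ¬ NormNonInner p E' W' := by
      intro W' hW'norm hWne h1
      have h2 := h1.lift hsm
      have hLS := Cfsg.Agent.Lib.helper87.preimageAlong_le
        (QuotientGroup.mk' (F.core.subgroupOf S))
        W'
      have hmemL := Cfsg.Agent.Lib.helper87.mem_preimageAlong
        (QuotientGroup.mk' (F.core.subgroupOf S))
        W'
      haveI hfinL : Finite ↥(FusionSystem.preimageAlong (QuotientGroup.mk' (F.core.subgroupOf S))
        W') := finite_of_le hLS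
      have hSL : S ≤ Subgroup.normalizer ((FusionSystem.preimageAlong
          (QuotientGroup.mk' (F.core.subgroupOf S))
          W' : Subgroup Ω) :
            Set Ω) := by
        intro x hx
        apply mem_normalizer_of_conj_mem
        intro l hl
        obtain ⟨hlS, hlW⟩ := (hmemL l).mp hl
        rw [hmemL]
        refine ⟨S.mul_mem (S.mul_mem hx hlS) (S.inv_mem hx), ?_⟩
        have h3 : (⟨x * l * x⁻¹, S.mul_mem (S.mul_mem hx hlS) (S.inv_mem hx)⟩ : S) =
            ⟨x, hx⟩ * ⟨l, hlS⟩ * ⟨x, hx⟩⁻¹ := rfl
        rw [h3, map_mul, map_mul, map_inv]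
        have h4 : (QuotientGroup.mk' (F.core.subgroupOf S)) ⟨x, hx⟩ ∈ Subgroup.normalizer
            ((⊤ : Subgroup (S ⧸ F.core.subgroupOf S)) : Set (S ⧸ F.core.subgroupOf S)) := by
          rw [Subgroup.mem_normalizer_iff]
          intro h
          simp
        exact (Subgroup.mem_normalizer_iff.mp (hW'norm h4) _).mp hlW
      have hQL : F.core ≤ FusionSystem.preimageAlong (QuotientGroup.mk' (F.core.subgroupOf S))
          W' :=
        Cfsg.Agent.Lib.helper87.le_preimageAlong _ hQS hker _
      obtain ⟨⟨w, hw⟩, hw1⟩ := (Subgroup.ne_bot_iff_exists_ne_one).mp hWne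
      obtain ⟨s, rfl⟩ := QuotientGroup.mk'_surjective (F.core.subgroupOf S) w
      have hsL : (s : Ω) ∈ FusionSystem.preimageAlong (QuotientGroup.mk' (F.core.subgroupOf S))
          W' :=
        (hmemL s).mpr ⟨s.2, hw⟩
      have hsQ : (s : Ω) ∉ F.core := by
        intro h3
        apply hw1
        apply Subtype.ext
        exact (hker s).mpr h3
      have hlt : Nat.card F.core < Nat.card ↥(FusionSystem.preimageAlong
          (QuotientGroup.mk' (F.core.subgroupOf S))
          W') := by
        by_contra h5
        push Not at h5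
        have h6 := Subgroup.eq_of_le_of_card_ge hQL h5
        apply hsQ
        rw [h6]
        exact hsL
      exact hcon (step_normal _ hLS hSL h2 hlt)
    have hB2 : ¬ NonInner p E' := by
      intro h1
      have hpE' : p ≠ 2 ∨ E'.IsSectionFree p (Equiv.Perm (Fin 4)) := by
        by_cases h2 : p = 2
        · exact hp.imp id (fun h => hfac h2 hS F hF F.core hQn h _ E' hE')
        · exact Or.inl h2
      have h2 := IH1 _ hcardlt _ (⊤ : Subgroup (S ⧸ F.core.subgroupOf S)) hTp rfl E' hE'sat hpE'
        rfl h1
      have htop : (⊤ : Subgroup (S ⧸ F.core.subgroupOf S)) ≠ ⊥ := h1.ne_bot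
      rcases h2 with hc | hn
      · exact hB1 _ (normalizer_le_normalizer_centerOf _) (centerOf_ne_bot _ hTp htop)
          hc.normNonInner
      · exact hB1 _ (normalizer_le_normalizer_thompsonSubgroupAOf _)
          (thompsonSubgroupAOf_ne_bot _ hTp htop) hn
    exact hcen (isCentric_core_of_factor hS F hF hsm.1 hker hB2)

/-- **Thompson's normal `p`-complement theorem for fusion systems**: if `F` is saturated over the
finite `p`-group `S`, `p` is odd or `F` is `S₄`-free, and some automorphism of `F` is not a
`p`-element, then some automorphism of `C_F(Z(S))` or of `N_F(J(S))` is not a `p`-element. -/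
theorem thompson_fusion {Ω : Type u} [Group Ω] {S : Subgroup Ω} [Finite S] {p : ℕ} [Fact p.Prime]
    (hfac : p = 2 → FactorHeredity.{u} p (Equiv.Perm (Fin 4))) (hS : IsPGroup p S)
    (F : FusionSystem S)
    (hF : F.IsSaturated p) (hp : p ≠ 2 ∨ F.IsSectionFree p (Equiv.Perm (Fin 4)))
    (h : NonInner p F) :
    CentNonInner p F (centerOf S) ∨ NormNonInner p F (Cfsg.thompsonSubgroupAOf S) :=
  thompson_fusion_aux hfac _ _ S hS rfl F hF hp rfl h

end Cfsg.Agent.Lib.helper88
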