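import Mathlib
import Cfsg.Agent.Lib.helper88.GZ4
import Cfsg.Agent.Lib.helper88.TH3
import Cfsg.Agent.Lib.helper88.CentricRadical
import Cfsg.Agent.Lib.helper87.QdFree1

/-!
# Glauberman's theorem for fusion systems, part 5 (helper88): the induction

`glauberman_fusion`: let `F` be saturated over the finite `p`-group `S` and `x ∈ Z(S)`, with
`p` odd, or `x` a `p`-th power of an element of `Z(S)`, or `F` `S₄`-free. If some automorphism in
`F` moves `x`, then some automorphism in `N_F(J(S))` moves `x`.

Induction on `|S|`, then on `|S| - |O_p(F)|`; Glauberman's theorem for groups (`GlaubermanWC`)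
is used in a model when `O_p(F)` is centric.
-/

set_option autoImplicit false

namespace Cfsg.Agent.Lib.helper88

open Cfsg Cfsg.FusionSystem

universe u

theorem mem_centerOf_normalizerIn {Ω : Type*} [Group Ω] {S : Subgroup Ω} {x : Ω}
    (hx : x ∈ centerOf S) {U : Subgroup Ω} (hUS : U ≤ S) : x ∈ centerOf (normalizerIn S U) := by
  have hxN : x ∈ normalizerIn S U := by
    refine Subgroup.mem_inf.mpr ⟨hx.1, ?_⟩
    rw [Subgroup.mem_normalizer_iff]
    intro u
    have h1 : ∀ v ∈ U, x * v * x⁻¹ = v := by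
      intro v hv
      have h2 := Subgroup.mem_centralizer_iff.mp hx.2 v (hUS hv)
      rw [← h2, mul_inv_cancel_right]
    constructor
    · intro hu
      rw [h1 u hu]
      exact hu
    · intro hu
      have h3 := h1 _ hu
      have h4 : u = x * u * x⁻¹ := by
        have h5 : x * (x * u * x⁻¹) * x⁻¹ = x * u * x⁻¹ := h3
        have h6 : x⁻¹ * (x * (x * u * x⁻¹) * x⁻¹) * x = x⁻¹ * (x * u * x⁻¹) * x := by rw [h5]
        have h7 : x⁻¹ * (x * (x * u * x⁻¹) * x⁻¹) * x = x * u * x⁻¹ := by group
        have h8 : x⁻¹ * (x * u * x⁻¹) * x = u := by group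
        rw [h7, h8] at h6
        exact h6.symm
      rw [h4]
      exact hu
  refine Subgroup.mem_inf.mpr ⟨hxN, ?_⟩
  rw [Subgroup.mem_centralizer_iff]
  intro t ht
  exact Subgroup.mem_centralizer_iff.mp hx.2 t ht.1

theorem glauberman_fusion_aux {p : ℕ} [Fact p.Prime] (hG : GlaubermanWC.{u} p)
    (hfac : p = 2 → FactorHeredity.{u} p (Equiv.Perm (Fin 4))) (n : ℕ) :
    ∀ (d : ℕ) {Ω : Type u} [Group Ω] (S : Subgroup Ω) [Finite S], IsPGroup p S → Nat.card S = n →
      ∀ F : FusionSystem S, F.IsSaturated p → ∀ x : Ω, x ∈ centerOf S →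
        (p ≠ 2 ∨ (∃ z ∈ centerOf S, z ^ p = x) ∨ F.IsSectionFree p (Equiv.Perm (Fin 4))) →
        Nat.card S - Nat.card F.core = d → Moves F x →
        NormMoves F (Cfsg.thompsonSubgroupAOf S) x := by
  induction n using Nat.strong_induction_on with
  | _ n IH1 =>
  intro d
  induction d using Nat.strong_induction_on with
  | _ d IH2 =>
  intro Ω _ S _ hS hn F hF x hx hc hd hM
  have hQn : F.IsNormal F.core := isNormal_core F
  have hQS : F.core ≤ S := hQn.1
  have hcardQ : Nat.card F.core ≤ Nat.card S := Subgroup.card_le_of_le hQS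
  have hxS : x ∈ S := hx.1
  obtain ⟨P₀, φ₀, hφ₀, hxP₀, hne₀⟩ := hM.movesHom
  have hx1 : x ≠ 1 := by
    rintro rfl
    exact hne₀ (map_one φ₀)
  -- heredity of the hypotheses to normalizer systems
  have hcN : ∀ U : Subgroup Ω, F.IsFullyNormalized U →
      ∀ E : FusionSystem (normalizerIn S U), F.IsNormalizerSystem U E →
        (p ≠ 2 ∨ (∃ z ∈ centerOf (normalizerIn S U), z ^ p = x) ∨
          E.IsSectionFree p (Equiv.Perm (Fin 4))) := by
    intro U hUfn E hE
    rcases hc with h | ⟨z, hz, hzx⟩ | h
    · exact Or.inl h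
    · exact Or.inr (Or.inl ⟨z, mem_centerOf_normalizerIn hz hUfn.1, hzx⟩)
    · exact Or.inr (Or.inr (sectionFree_normalizer hS F hF _ h hUfn _ hE))
  -- a normal subgroup of `S` larger than the core whose normalizer system moves `x`
  have step_normal : ∀ L : Subgroup Ω, L ≤ S → S ≤ Subgroup.normalizer (L : Set Ω) →
      NormMoves F L x → Nat.card F.core < Nat.card L →
      NormMoves F (Cfsg.thompsonSubgroupAOf S) x := by
    intro L hLS hSL hNL hlt
    have hfn : F.IsFullyNormalized L := fullyNormalized_of_le_normalizer F hLS hSL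
    have hE := Cfsg.Agent.Lib.helper89.isNormalizerSystem_normalizerSystem F L hLS
    have hEsat := Cfsg.Agent.S5098.result p hS F hF L hfn _ hE
    have hT : normalizerIn S L = S := normalizerIn_eq_of_le_normalizer hSL
    haveI hfinT : Finite ↥(normalizerIn S L) := finite_of_le (normalizerIn_le S L)
    have hTp : IsPGroup p ↥(normalizerIn S L) := hS.to_le (normalizerIn_le S L)
    have hcardT : Nat.card ↥(normalizerIn S L) = n := by rw [hT]; exact hn
    have hEn := isNormal_of_isNormalizerSystem F hLS _ hE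
    have hLcore : L ≤ (Cfsg.Agent.Lib.helper89.normalizerSystem F L hLS).core := le_sSup hEn
    have hcore_le : (Cfsg.Agent.Lib.helper89.normalizerSystem F L hLS).core ≤ normalizerIn S L :=
      (isNormal_core _).1
    have h1 : Nat.card L ≤ Nat.card (Cfsg.Agent.Lib.helper89.normalizerSystem F L hLS).core := by
      haveI : Finite ↥(Cfsg.Agent.Lib.helper89.normalizerSystem F L hLS).core :=
        finite_of_le hcore_le
      exact Subgroup.card_le_of_le hLcore
    have h2 : Nat.card (Cfsg.Agent.Lib.helper89.normalizerSystem F L hLS).core ≤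
        Nat.card ↥(normalizerIn S L) := Subgroup.card_le_of_le hcore_le
    have hEM : Moves (Cfsg.Agent.Lib.helper89.normalizerSystem F L hLS) x :=
      (moves_iff_of_isNormalizerSystem F L _ hE x).mpr hNL
    have h3 := IH2 (Nat.card ↥(normalizerIn S L) -
      Nat.card (Cfsg.Agent.Lib.helper89.normalizerSystem F L hLS).core) (by omega)
      (normalizerIn S L) hTp hcardT _ hEsat x (mem_centerOf_normalizerIn hx hLS)
      (hcN L hfn _ hE) rfl hEM
    have hle : ∀ P : Subgroup Ω, (Cfsg.Agent.Lib.helper89.normalizerSystem F L hLS).Hom P ⊆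
        F.Hom P := fun P φ hφ => by rw [hE P] at hφ; exact hφ.1
    have h4 : NormMoves F (Cfsg.thompsonSubgroupAOf (normalizerIn S L)) x :=
      NormMoves.of_le (normalizerIn_le S L) hle h3
    rw [hT] at h4
    exact h4
  by_cases hcen : F.IsCentric F.core
  · -- constrained case: a model
    obtain ⟨G, _, ι, hM'⟩ := exists_model hS F ⟨hF, F.core, hQn, hcen⟩
    have hcG : p ≠ 2 ∨ (∃ z ∈ centerOf S, z ^ p = x) ∨
        ¬ Cfsg.Involves (Equiv.Perm (Fin 4)) G := by
      rcases hc with h | h | h
      · exact Or.inl h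
      · exact Or.inr (Or.inl h)
      · right
        right
        have hsc := Cfsg.Agent.Lib.helper86.stronglyClosed_of_isNormal F hQn
        have hfn : F.IsFullyNormalized F.core := fullyNormalized_of_stronglyClosed F hsc
        have hE := Cfsg.Agent.Lib.helper89.isNormalizerSystem_normalizerSystem F F.core hQS
        exact h F.core hfn hcen _ hE G _ (model_normalizerSystem_of_isNormal hM' hQn _ hE)
    obtain ⟨hfin, hR, ⟨T, hT⟩, -⟩ := hM'
    exact normMoves_of_realized hG F hR T hT hx hcG hM.movesHom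
  by_cases hQ1 : F.core = ⊥
  · -- trivial core: normalizer tower
    by_contra hcon
    obtain ⟨U₁, hfn₁, -, hxU₁, hN₁⟩ := exists_normMoves hS F hF hx hφ₀ hxP₀ hne₀
    have hne₁ : U₁ ≠ ⊥ := by
      rintro rfl
      exact hx1 (Subgroup.mem_bot.mp hxU₁)
    have hfinX : {U : Subgroup Ω | U ≠ ⊥ ∧ F.IsFullyNormalized U ∧ NormMoves F U x}.Finite :=
      Set.Finite.subset finite_le (fun U hU => hU.2.1.1)
    obtain ⟨U, hUX, hmax⟩ := Set.exists_max_image _ (fun U => Nat.card (normalizerIn S U)) hfinX
      ⟨U₁, hne₁, hfn₁, hN₁⟩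
    obtain ⟨hUne, hUfn, hUN⟩ := hUX
    have hUS : U ≤ S := hUfn.1
    haveI hfinU : Finite U := finite_of_le hUS
    by_cases hTS : normalizerIn S U = S
    · apply hcon
      refine step_normal U hUS ?_ hUN ?_
      · intro y hy
        rw [← hTS] at hy
        exact hy.2
      · rw [hQ1, Subgroup.card_bot]
        exact (Subgroup.one_lt_card_iff_ne_bot _).mpr hUne
    · have hTle : normalizerIn S U ≤ S := normalizerIn_le S U
      haveI hfinT : Finite ↥(normalizerIn S U) := finite_of_le hTle
      have hTp : IsPGroup p ↥(normalizerIn S U) := hS.to_le hTle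
      have hcardT : Nat.card ↥(normalizerIn S U) < n := by
        rw [← hn]
        exact lt_of_le_of_ne (Subgroup.card_le_of_le hTle)
          (fun h => hTS (Subgroup.eq_of_le_of_card_ge hTle h.ge))
      have hE := Cfsg.Agent.Lib.helper89.isNormalizerSystem_normalizerSystem F U hUS
      have hEsat := Cfsg.Agent.S5098.result p hS F hF U hUfn _ hE
      have hEM : Moves (Cfsg.Agent.Lib.helper89.normalizerSystem F U hUS) x :=
        (moves_iff_of_isNormalizerSystem F U _ hE x).mpr hUN
      have hxT : x ∈ centerOf (normalizerIn S U) := mem_centerOf_normalizerIn hx hUS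
      have h1 := IH1 _ hcardT _ (normalizerIn S U) hTp rfl _ hEsat x hxT (hcN U hUfn _ hE) rfl hEM
      have hle : ∀ P : Subgroup Ω, (Cfsg.Agent.Lib.helper89.normalizerSystem F U hUS).Hom P ⊆
          F.Hom P := fun P φ hφ => by rw [hE P] at hφ; exact hφ.1
      have h2 : NormMoves F (Cfsg.thompsonSubgroupAOf (normalizerIn S U)) x :=
        NormMoves.of_le hTle hle h1
      have hTne : normalizerIn S U ≠ ⊥ := by
        intro h
        apply hUne
        have h3 : U ≤ normalizerIn S U := le_normalizerIn hUS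
        rw [h] at h3
        exact le_bot_iff.mp h3
      have hKT : Cfsg.thompsonSubgroupAOf (normalizerIn S U) ≤ normalizerIn S U :=
        thompsonSubgroupAOf_le _
      have hKS : Cfsg.thompsonSubgroupAOf (normalizerIn S U) ≤ S := hKT.trans hTle
      have hKne : Cfsg.thompsonSubgroupAOf (normalizerIn S U) ≠ ⊥ :=
        thompsonSubgroupAOf_ne_bot _ hTp hTne
      obtain ⟨g, hgN, hgT⟩ := exists_mem_normalizerIn_not_mem hS hTle hTS
      have hNTK : normalizerIn S (normalizerIn S U) ≤
          normalizerIn S (Cfsg.thompsonSubgroupAOf (normalizerIn S U)) :=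
        fun y hy => ⟨hy.1, normalizer_le_normalizer_thompsonSubgroupAOf _ hy.2⟩
      have hTK : normalizerIn S U ≤
          normalizerIn S (Cfsg.thompsonSubgroupAOf (normalizerIn S U)) :=
        (le_normalizerIn hTle).trans hNTK
      haveI : Finite ↥(normalizerIn S (Cfsg.thompsonSubgroupAOf (normalizerIn S U))) :=
        finite_of_le (normalizerIn_le S _)
      have h4 : Nat.card ↥(normalizerIn S U) <
          Nat.card ↥(normalizerIn S (Cfsg.thompsonSubgroupAOf (normalizerIn S U))) := by
        by_contra h5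
        push Not at h5
        have h6 := Subgroup.eq_of_le_of_card_ge hTK h5
        apply hgT
        rw [h6]
        exact hNTK hgN
      -- a fully normalized conjugate of `J(N_S(U))`
      obtain ⟨K₁, hconj, hfnK⟩ := exists_fullyNormalized_conj F hKS
      obtain ⟨χ, hχ, hχK⟩ := exists_map_normalizer_of_fullyNormalized hS F hF hfnK hconj
      have hxNK : x ∈ normalizerIn S (Cfsg.thompsonSubgroupAOf (normalizerIn S U)) :=
        hTK hxT.1
      have hχx : χ ⟨x, hxNK⟩ = x := by
        by_contra hne'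
        obtain ⟨R, hRfn, hRcard, hxR, hRN⟩ := exists_normMoves hS F hF hx hχ hxNK hne'
        have hRne : R ≠ ⊥ := by
          rintro rfl
          exact hx1 (Subgroup.mem_bot.mp hxR)
        have h5 := hmax R ⟨hRne, hRfn, hRN⟩
        haveI : Finite ↥(normalizerIn S R) := finite_of_le (normalizerIn_le S _)
        have h6 : Nat.card R ≤ Nat.card ↥(normalizerIn S R) :=
          Subgroup.card_le_of_le (le_normalizerIn hRfn.1)
        have h7 : Nat.card ↥(normalizerIn S R) ≤ Nat.card ↥(normalizerIn S U) := h5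
        omega
      have h7 : NormMoves F K₁ x := NormMoves.transport hKS hχ hχK hxNK hχx h2
      have hK₁ne : K₁ ≠ ⊥ := by
        intro hK₁
        apply hKne
        have h8 : Nat.card ↥(Cfsg.thompsonSubgroupAOf (normalizerIn S U)) = Nat.card K₁ :=
          isConj_card F hconj
        rw [hK₁, Subgroup.card_bot] at h8
        exact Subgroup.eq_bot_of_card_eq _ h8
      have h8 : Nat.card ↥(normalizerIn S K₁) ≤ Nat.card ↥(normalizerIn S U) :=
        hmax K₁ ⟨hK₁ne, hfnK, h7⟩
      have h9 : Nat.card ↥(normalizerIn S (Cfsg.thompsonSubgroupAOf (normalizerIn S U))) ≤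
          Nat.card ↥(normalizerIn S K₁) := hfnK.2 _ (isConj_symm F hconj)
      omega
  · -- nontrivial, non-centric core: the factor system
    by_contra hcon
    have hsc : F.StronglyClosed F.core :=
      Cfsg.Agent.Lib.helper86.stronglyClosed_of_isNormal F hQn
    haveI hQ'n : (F.core.subgroupOf S).Normal := by
      refine ⟨fun y hy g => ?_⟩
      rw [Subgroup.mem_subgroupOf] at hy ⊢
      exact Cfsg.Agent.Lib.helper89.conj_mem_of_stronglyClosed F hsc g.2 hy
    obtain ⟨E', hE'⟩ := Cfsg.Agent.S5132.result p hS F F.core hsc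
    have hsm := Cfsg.Agent.S5134.result p hS F hF F.core hsc _ E' hE'
    have hE'sat : E'.IsSaturated p := Cfsg.Agent.S5133.result p hS F hF E' _ hsm
    have hker : ∀ s : S, (QuotientGroup.mk' (F.core.subgroupOf S)) s = 1 ↔ (s : Ω) ∈ F.core :=
      hE'.2.1
    have hTp : IsPGroup p ↥(⊤ : Subgroup (S ⧸ F.core.subgroupOf S)) :=
      (hS.to_quotient (F.core.subgroupOf S)).to_subgroup ⊤
    haveI hfinQ : Finite ↥F.core := finite_of_le hQS
    have hcardlt : Nat.card ↥(⊤ : Subgroup (S ⧸ F.core.subgroupOf S)) < n := by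
      rw [Subgroup.card_top, ← hn,
        Subgroup.card_eq_card_quotient_mul_card_subgroup (F.core.subgroupOf S)]
      have h1 : Nat.card ↥(F.core.subgroupOf S) = Nat.card ↥F.core :=
        Nat.card_congr (Subgroup.subgroupOfEquivOfLe hQS).toEquiv
      have h2 : 1 < Nat.card ↥F.core := (Subgroup.one_lt_card_iff_ne_bot _).mpr hQ1
      rw [h1]
      exact (Nat.lt_mul_iff_one_lt_right Nat.card_pos).mpr h2
    have hB0 : ∀ L : Subgroup Ω, L ≤ S → S ≤ Subgroup.normalizer (L : Set Ω) →
        Nat.card F.core < Nat.card L → ¬ NormMoves F L x :=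
      fun L hLS hSL hlt h => hcon (step_normal L hLS hSL h hlt)
    have hx' : (QuotientGroup.mk' (F.core.subgroupOf S)) ⟨x, hxS⟩ ∈
        centerOf (⊤ : Subgroup (S ⧸ F.core.subgroupOf S)) := by
      refine Subgroup.mem_inf.mpr ⟨Subgroup.mem_top _, ?_⟩
      rw [Subgroup.mem_centralizer_iff]
      intro y _
      obtain ⟨s, rfl⟩ := QuotientGroup.mk'_surjective (F.core.subgroupOf S) y
      rw [← map_mul, ← map_mul]
      congr 1
      exact Subtype.ext (Subgroup.mem_centralizer_iff.mp hx.2 s s.2)
    have hcoreS : F.core ≠ S := by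
      intro h
      apply hcen
      refine Cfsg.Agent.Lib.helper87.isCentric_of_isNormal_of_le F hQn ?_
      rw [h]
      exact inf_le_left
    have htop : (⊤ : Subgroup (S ⧸ F.core.subgroupOf S)) ≠ ⊥ := by
      intro h
      apply hcoreS
      apply le_antisymm hQS
      intro s hs
      have h1 : (QuotientGroup.mk' (F.core.subgroupOf S)) ⟨s, hs⟩ ∈
          (⊤ : Subgroup (S ⧸ F.core.subgroupOf S)) := Subgroup.mem_top _
      rw [h, Subgroup.mem_bot] at h1
      exact (hker _).mp h1
    have hB2 : ¬ Moves E' ((QuotientGroup.mk' (F.core.subgroupOf S)) ⟨x, hxS⟩) := by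
      intro h1
      have hc' : p ≠ 2 ∨ (∃ z ∈ centerOf (⊤ : Subgroup (S ⧸ F.core.subgroupOf S)),
          z ^ p = (QuotientGroup.mk' (F.core.subgroupOf S)) ⟨x, hxS⟩) ∨
          E'.IsSectionFree p (Equiv.Perm (Fin 4)) := by
        by_cases h2 : p = 2
        · rcases hc with h | ⟨z, hz, hzx⟩ | h
          · exact Or.inl h
          · right
            left
            refine ⟨(QuotientGroup.mk' (F.core.subgroupOf S)) ⟨z, hz.1⟩,
              Subgroup.mem_inf.mpr ⟨Subgroup.mem_top _, ?_⟩, ?_⟩
            · rw [Subgroup.mem_centralizer_iff]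
              intro y _
              obtain ⟨s, rfl⟩ := QuotientGroup.mk'_surjective (F.core.subgroupOf S) y
              rw [← map_mul, ← map_mul]
              congr 1
              exact Subtype.ext (Subgroup.mem_centralizer_iff.mp hz.2 s s.2)
            · rw [← map_pow]
              congr 1
              exact Subtype.ext hzx
          · exact Or.inr (Or.inr (hfac h2 hS F hF F.core hQn h _ E' hE'))
        · exact Or.inl h2
      have h2 := IH1 _ hcardlt _ (⊤ : Subgroup (S ⧸ F.core.subgroupOf S)) hTp rfl E' hE'sat _ hx'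
        hc' rfl h1
      have h3 := NormMoves.lift hsm hxS h2
      have hLS := Cfsg.Agent.Lib.helper87.preimageAlong_le
        (QuotientGroup.mk' (F.core.subgroupOf S))
        (Cfsg.thompsonSubgroupAOf (⊤ : Subgroup (S ⧸ F.core.subgroupOf S)))
      have hmemL := Cfsg.Agent.Lib.helper87.mem_preimageAlong
        (QuotientGroup.mk' (F.core.subgroupOf S))
        (Cfsg.thompsonSubgroupAOf (⊤ : Subgroup (S ⧸ F.core.subgroupOf S)))
      haveI hfinL : Finite ↥(FusionSystem.preimageAlong (QuotientGroup.mk' (F.core.subgroupOf S))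
        (Cfsg.thompsonSubgroupAOf (⊤ : Subgroup (S ⧸ F.core.subgroupOf S)))) := finite_of_le hLS
      have hSL : S ≤ Subgroup.normalizer ((FusionSystem.preimageAlong
          (QuotientGroup.mk' (F.core.subgroupOf S))
          (Cfsg.thompsonSubgroupAOf (⊤ : Subgroup (S ⧸ F.core.subgroupOf S))) : Subgroup Ω) :
            Set Ω) := by
        intro y hy
        apply mem_normalizer_of_conj_mem
        intro l hl
        obtain ⟨hlS, hlW⟩ := (hmemL l).mp hl
        rw [hmemL]
        refine ⟨S.mul_mem (S.mul_mem hy hlS) (S.inv_mem hy), ?_⟩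
        have h3 : (⟨y * l * y⁻¹, S.mul_mem (S.mul_mem hy hlS) (S.inv_mem hy)⟩ : S) =
            ⟨y, hy⟩ * ⟨l, hlS⟩ * ⟨y, hy⟩⁻¹ := rfl
        rw [h3, map_mul, map_mul, map_inv]
        have h4 : (QuotientGroup.mk' (F.core.subgroupOf S)) ⟨y, hy⟩ ∈ Subgroup.normalizer
            ((⊤ : Subgroup (S ⧸ F.core.subgroupOf S)) : Set (S ⧸ F.core.subgroupOf S)) := by
          rw [Subgroup.mem_normalizer_iff]
          intro h
          simp
        exact (Subgroup.mem_normalizer_iff.mp
          (normalizer_le_normalizer_thompsonSubgroupAOf _ h4) _).mp hlW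
      have hQL : F.core ≤ FusionSystem.preimageAlong (QuotientGroup.mk' (F.core.subgroupOf S))
          (Cfsg.thompsonSubgroupAOf (⊤ : Subgroup (S ⧸ F.core.subgroupOf S))) :=
        Cfsg.Agent.Lib.helper87.le_preimageAlong _ hQS hker _
      have hWne := thompsonSubgroupAOf_ne_bot _ hTp htop
      obtain ⟨⟨w, hw⟩, hw1⟩ := (Subgroup.ne_bot_iff_exists_ne_one).mp hWne
      obtain ⟨s, rfl⟩ := QuotientGroup.mk'_surjective (F.core.subgroupOf S) w
      have hsL : (s : Ω) ∈ FusionSystem.preimageAlong (QuotientGroup.mk' (F.core.subgroupOf S))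
          (Cfsg.thompsonSubgroupAOf (⊤ : Subgroup (S ⧸ F.core.subgroupOf S))) :=
        (hmemL s).mpr ⟨s.2, hw⟩
      have hsQ : (s : Ω) ∉ F.core := by
        intro h3
        apply hw1
        apply Subtype.ext
        exact (hker s).mpr h3
      have hlt : Nat.card F.core < Nat.card ↥(FusionSystem.preimageAlong
          (QuotientGroup.mk' (F.core.subgroupOf S))
          (Cfsg.thompsonSubgroupAOf (⊤ : Subgroup (S ⧸ F.core.subgroupOf S)))) := by
        by_contra h5
        push Not at h5
        have h6 := Subgroup.eq_of_le_of_card_ge hQL h5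
        apply hsQ
        rw [h6]
        exact hsL
      exact hB0 _ hLS hSL hlt h3
    have hB2' : ¬ MovesHom E' ((QuotientGroup.mk' (F.core.subgroupOf S)) ⟨x, hxS⟩) :=
      fun h => hB2 (h.moves hTp hE'sat hx')
    -- every map of `F` moves `x` inside `x O_p(F)`
    have hB3 : ∀ (P : Subgroup Ω) (φ : P →* Ω), φ ∈ F.Hom P → ∀ hxP : x ∈ P,
        x⁻¹ * φ ⟨x, hxP⟩ ∈ F.core := by
      intro P φ hφ hxP
      obtain ⟨hφS, h1⟩ := image_fixed_of_not_movesHom hsm.1 hxS hB2' hφ hxP
      have h2 : (QuotientGroup.mk' (F.core.subgroupOf S))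
          (⟨x, hxS⟩⁻¹ * ⟨φ ⟨x, hxP⟩, hφS⟩ : S) = 1 := by
        rw [map_mul, map_inv, h1, inv_mul_cancel]
      exact (hker _).mp h2
    -- the final contradiction: no map of `F` moves `x`
    apply hne₀
    obtain ⟨ψ, hψ, hext, hmap⟩ := hQn.2 P₀ φ₀ hφ₀
    have hψS := (F.le_of_mem hψ).2
    have hψQ : ∀ q : F.core, ψ (Subgroup.inclusion le_sup_right q) ∈ F.core := by
      intro q
      have h1 : ψ (Subgroup.inclusion le_sup_right q) ∈ (F.core.subgroupOf (P₀ ⊔ F.core)).map ψ :=
        ⟨_, Subgroup.mem_subgroupOf.mpr q.2, rfl⟩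
      rw [hmap] at h1
      exact h1
    have hψx : ψ ⟨x, (le_sup_left : P₀ ≤ P₀ ⊔ F.core) hxP₀⟩ = φ₀ ⟨x, hxP₀⟩ := hext ⟨x, hxP₀⟩
    rw [← hψx]
    have hconjS : ∀ (L : Subgroup Ω), L ≤ S → (∀ s ∈ S, ∀ l ∈ L, s * l * s⁻¹ ∈ L) →
        S ≤ Subgroup.normalizer (L : Set Ω) := by
      intro L hLS h s hs
      haveI : Finite L := finite_of_le hLS
      exact mem_normalizer_of_conj_mem (h s hs)
    by_cases hxQ : x ∈ F.core
    · -- `x ∈ O_p(F)`: extend the automorphism of the core to `O_p(F) C_S(O_p(F))`
      have hfnQ : F.IsFullyNormalized F.core := fullyNormalized_of_stronglyClosed F hsc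
      obtain ⟨-, hrec⟩ := fullyAutomized_receptive_of_fullyNormalized hS F hF hfnQ
      have hβ : ψ.comp (Subgroup.inclusion (le_sup_right : F.core ≤ P₀ ⊔ F.core)) ∈
          F.Hom F.core := restrict_mem F le_sup_right hψ
      have hβrange : (ψ.comp (Subgroup.inclusion (le_sup_right : F.core ≤ P₀ ⊔ F.core))).range =
          F.core := by
        apply le_antisymm
        · rintro _ ⟨q, rfl⟩
          exact hψQ q
        · intro q hq
          have hq' : q ∈ (F.core.subgroupOf (P₀ ⊔ F.core)).map ψ := by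
            rw [hmap]
            exact hq
          obtain ⟨y, hy, rfl⟩ := hq'
          exact ⟨⟨y, Subgroup.mem_subgroupOf.mp hy⟩, rfl⟩
      obtain ⟨β', hβ', hβ'ext⟩ := hrec.2 F.core _ hβ hβrange
      have hβ'S := (F.le_of_mem hβ').2
      have hle1 : F.core ≤ extender S F.core
          (ψ.comp (Subgroup.inclusion (le_sup_right : F.core ≤ P₀ ⊔ F.core))) := le_extender F hβ
      have hle2 : centralizerIn S F.core ≤ extender S F.core
          (ψ.comp (Subgroup.inclusion (le_sup_right : F.core ≤ P₀ ⊔ F.core))) :=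
        centralizerIn_le_extender S F.core _
      have hR₀le : F.core ⊔ centralizerIn S F.core ≤ extender S F.core
          (ψ.comp (Subgroup.inclusion (le_sup_right : F.core ≤ P₀ ⊔ F.core))) := sup_le hle1 hle2
      have hR₀S : F.core ⊔ centralizerIn S F.core ≤ S := sup_le hQS inf_le_left
      have hρ : β'.comp (Subgroup.inclusion hR₀le) ∈ F.Hom (F.core ⊔ centralizerIn S F.core) :=
        restrict_mem F hR₀le hβ'
      -- values of `β'` on the core
      have hβ'Q : ∀ (q : Ω) (hq : q ∈ F.core), β' ⟨q, hle1 hq⟩ =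
          ψ ⟨q, (le_sup_right : F.core ≤ P₀ ⊔ F.core) hq⟩ := fun q hq => hβ'ext q hq (hle1 hq)
      have hρval : ∀ y : ↥(F.core ⊔ centralizerIn S F.core),
          (β'.comp (Subgroup.inclusion hR₀le)) y ∈ F.core ⊔ centralizerIn S F.core := by
        intro y
        refine Cfsg.Agent.Lib.helper87.sup_hom_mem _ _ (fun q => ?_) (fun c => ?_) y
        · apply (le_sup_left : F.core ≤ F.core ⊔ centralizerIn S F.core)
          show β' ⟨(q : Ω), _⟩ ∈ F.core
          rw [hβ'Q q q.2]
          exact hψQ q
        · apply (le_sup_right : centralizerIn S F.core ≤ F.core ⊔ centralizerIn S F.core)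
          refine Subgroup.mem_inf.mpr ⟨hβ'S _, ?_⟩
          rw [Subgroup.mem_centralizer_iff]
          intro q hq
          have hq' : q ∈ (ψ.comp
              (Subgroup.inclusion (le_sup_right : F.core ≤ P₀ ⊔ F.core))).range := by
            rw [hβrange]
            exact hq
          obtain ⟨q', hq'⟩ := hq'
          have h1 : β' ⟨(q' : Ω), hle1 q'.2⟩ = q := by
            rw [hβ'Q q' q'.2]
            exact hq'
          have hcomm : (q' : Ω) * (c : Ω) = (c : Ω) * (q' : Ω) :=
            Subgroup.mem_centralizer_iff.mp c.2.2 q' q'.2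
          have h2 : (⟨(q' : Ω), hle1 q'.2⟩ : extender S F.core
              (ψ.comp (Subgroup.inclusion (le_sup_right : F.core ≤ P₀ ⊔ F.core)))) *
              ⟨(c : Ω), hle2 c.2⟩ = ⟨(c : Ω), hle2 c.2⟩ * ⟨(q' : Ω), hle1 q'.2⟩ :=
            Subtype.ext hcomm
          have h3 := congrArg β' h2
          rw [map_mul, map_mul, h1] at h3
          exact h3
      obtain ⟨α, hα⟩ := Cfsg.Agent.Lib.helper89.exists_aut_of_mem F hρ hρval
      have hαF : α ∈ F.autGroup (F.core ⊔ centralizerIn S F.core) := by
        rw [mem_autGroup_iff' F hR₀S]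
        have h1 : (F.core ⊔ centralizerIn S F.core).subtype.comp α.toMonoidHom =
            β'.comp (Subgroup.inclusion hR₀le) := by
          ext y
          exact hα y
        rw [h1]
        exact hρ
      have hSR₀ : S ≤ Subgroup.normalizer ((F.core ⊔ centralizerIn S F.core : Subgroup Ω) :
          Set Ω) := by
        apply hconjS _ hR₀S
        intro s hs l hl
        have hle : F.core ⊔ centralizerIn S F.core ≤
            (F.core ⊔ centralizerIn S F.core).comap (MulAut.conj s).toMonoidHom := by
          apply sup_le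
          · intro q hq
            exact (le_sup_left : F.core ≤ F.core ⊔ centralizerIn S F.core)
              (Cfsg.Agent.Lib.helper89.conj_mem_of_stronglyClosed F hsc hs hq)
          · intro c hc
            apply (le_sup_right : centralizerIn S F.core ≤ F.core ⊔ centralizerIn S F.core)
            refine Subgroup.mem_inf.mpr ⟨S.mul_mem (S.mul_mem hs hc.1) (S.inv_mem hs), ?_⟩
            rw [Subgroup.mem_centralizer_iff]
            intro q hq
            have hq' : s⁻¹ * q * s ∈ F.core := by
              have := Cfsg.Agent.Lib.helper89.conj_mem_of_stronglyClosed F hsc (S.inv_mem hs) hq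
              rwa [inv_inv] at this
            have h1 := Subgroup.mem_centralizer_iff.mp hc.2 _ hq'
            show q * (s * c * s⁻¹) = s * c * s⁻¹ * q
            have h2 : q * (s * c * s⁻¹) = s * (s⁻¹ * q * s * c) * s⁻¹ := by group
            have h3 : s * c * s⁻¹ * q = s * (c * (s⁻¹ * q * s)) * s⁻¹ := by group
            rw [h2, h3, h1]
        exact hle hl
      have hxR₀ : x ∈ F.core ⊔ centralizerIn S F.core :=
        (le_sup_left : F.core ≤ F.core ⊔ centralizerIn S F.core) hxQ
      have hlt : Nat.card F.core < Nat.card ↥(F.core ⊔ centralizerIn S F.core) := by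
        apply Cfsg.Agent.Lib.helper89.card_lt_of_lt _ hR₀S
        refine lt_of_le_of_ne le_sup_left ?_
        intro h
        apply hcen
        refine Cfsg.Agent.Lib.helper87.isCentric_of_isNormal_of_le F hQn ?_
        have h1 : centralizerIn S F.core ≤ F.core ⊔ centralizerIn S F.core := le_sup_right
        rw [← h] at h1
        exact h1
      have h5 : ((α ⟨x, hxR₀⟩ : ↥(F.core ⊔ centralizerIn S F.core)) : Ω) = x := by
        by_contra h6
        exact hB0 _ hR₀S hSR₀ hlt (normMoves_of_aut hR₀S hαF hxR₀ h6)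
      rw [hα] at h5
      have h6 : β' ⟨x, hle1 hxQ⟩ = x := h5
      rw [hβ'Q x hxQ] at h6
      exact h6
    · -- `x ∉ O_p(F)`: the subgroup `⟨x⟩ O_p(F)`
      have hzS : Subgroup.zpowers x ≤ S := Subgroup.zpowers_le.mpr hxS
      have hXS : Subgroup.zpowers x ⊔ F.core ≤ S := sup_le hzS hQS
      have hzP : Subgroup.zpowers x ≤ P₀ := Subgroup.zpowers_le.mpr hxP₀
      have hXM : Subgroup.zpowers x ⊔ F.core ≤ P₀ ⊔ F.core := sup_le_sup_right hzP _
      have hρ : ψ.comp (Subgroup.inclusion hXM) ∈ F.Hom (Subgroup.zpowers x ⊔ F.core) :=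
        restrict_mem F hXM hψ
      have hxX : x ∈ Subgroup.zpowers x ⊔ F.core :=
        (le_sup_left : Subgroup.zpowers x ≤ _) (Subgroup.mem_zpowers x)
      have hψxX : ψ ⟨x, (le_sup_left : P₀ ≤ P₀ ⊔ F.core) hxP₀⟩ ∈ Subgroup.zpowers x ⊔ F.core := by
        rw [hψx]
        have h1 : φ₀ ⟨x, hxP₀⟩ = x * (x⁻¹ * φ₀ ⟨x, hxP₀⟩) := by group
        rw [h1]
        exact Subgroup.mul_mem _ hxX
          ((le_sup_right : F.core ≤ Subgroup.zpowers x ⊔ F.core) (hB3 P₀ φ₀ hφ₀ hxP₀))
      have hρval : ∀ y : ↥(Subgroup.zpowers x ⊔ F.core),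
          (ψ.comp (Subgroup.inclusion hXM)) y ∈ Subgroup.zpowers x ⊔ F.core := by
        intro y
        refine Cfsg.Agent.Lib.helper87.sup_hom_mem _ _ (fun w => ?_) (fun q => ?_) y
        · obtain ⟨w, hw⟩ := w
          obtain ⟨k, rfl⟩ := Subgroup.mem_zpowers_iff.mp hw
          have h1 : (Subgroup.inclusion hXM (Subgroup.inclusion
              (le_sup_left : Subgroup.zpowers x ≤ Subgroup.zpowers x ⊔ F.core) ⟨x ^ k, hw⟩)) =
              (⟨x, (le_sup_left : P₀ ≤ P₀ ⊔ F.core) hxP₀⟩ : ↥(P₀ ⊔ F.core)) ^ k :=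
            Subtype.ext rfl
          show ψ _ ∈ _
          rw [h1, map_zpow]
          exact Subgroup.zpow_mem _ hψxX k
        · exact (le_sup_right : F.core ≤ Subgroup.zpowers x ⊔ F.core) (hψQ q)
      obtain ⟨α, hα⟩ := Cfsg.Agent.Lib.helper89.exists_aut_of_mem F hρ hρval
      have hαF : α ∈ F.autGroup (Subgroup.zpowers x ⊔ F.core) := by
        rw [mem_autGroup_iff' F hXS]
        have h1 : (Subgroup.zpowers x ⊔ F.core).subtype.comp α.toMonoidHom =
            ψ.comp (Subgroup.inclusion hXM) := by
          ext y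
          exact hα y
        rw [h1]
        exact hρ
      have hSX : S ≤ Subgroup.normalizer ((Subgroup.zpowers x ⊔ F.core : Subgroup Ω) :
          Set Ω) := by
        apply hconjS _ hXS
        intro s hs l hl
        have hle : Subgroup.zpowers x ⊔ F.core ≤
            (Subgroup.zpowers x ⊔ F.core).comap (MulAut.conj s).toMonoidHom := by
          apply sup_le
          · rw [Subgroup.zpowers_le, Subgroup.mem_comap]
            show s * x * s⁻¹ ∈ _
            rw [mul_comm_of_mem_centerOf hx hs, mul_inv_cancel_right]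
            exact hxX
          · intro q hq
            exact (le_sup_right : F.core ≤ Subgroup.zpowers x ⊔ F.core)
              (Cfsg.Agent.Lib.helper89.conj_mem_of_stronglyClosed F hsc hs hq)
        exact hle hl
      have hlt : Nat.card F.core < Nat.card ↥(Subgroup.zpowers x ⊔ F.core) := by
        apply Cfsg.Agent.Lib.helper89.card_lt_of_lt _ hXS
        refine lt_of_le_of_ne le_sup_right ?_
        intro h
        apply hxQ
        rw [h]
        exact hxX
      have h5 : ((α ⟨x, hxX⟩ : ↥(Subgroup.zpowers x ⊔ F.core)) : Ω) = x := by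
        by_contra h6
        exact hB0 _ hXS hSX hlt (normMoves_of_aut hXS hαF hxX h6)
      rw [hα] at h5
      exact h5

/-- **Glauberman's theorem for fusion systems** (moved-element form): let `F` be saturated over
the finite `p`-group `S` and `x ∈ Z(S)`, with `p` odd, or `x` a `p`-th power of an element of
`Z(S)`, or `F` `S₄`-free. If some automorphism in `F` moves `x`, then some automorphism in
`N_F(J(S))` moves `x`. -/
theorem glauberman_fusion {Ω : Type u} [Group Ω] {S : Subgroup Ω} [Finite S] {p : ℕ}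
    [Fact p.Prime] (hG : GlaubermanWC.{u} p)
    (hfac : p = 2 → FactorHeredity.{u} p (Equiv.Perm (Fin 4))) (hS : IsPGroup p S)
    (F : FusionSystem S) (hF : F.IsSaturated p) {x : Ω} (hx : x ∈ centerOf S)
    (hc : p ≠ 2 ∨ (∃ z ∈ centerOf S, z ^ p = x) ∨ F.IsSectionFree p (Equiv.Perm (Fin 4)))
    (h : Moves F x) : NormMoves F (Cfsg.thompsonSubgroupAOf S) x :=
  glauberman_fusion_aux hG hfac _ _ S hS rfl F hF x hx hc rfl h

end Cfsg.Agent.Lib.helper88
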