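import Mathlib
import Cfsg.Agent.Lib.helper88.GZ5
import Cfsg.Agent.S5084

/-!
# Glauberman's theorem for fusion systems, part 6 (helper88): the centre form

`glauberman_center` (statement S5193, modulo Glauberman's theorem for groups `GlaubermanWC` and
the heredity of `S₄`-freeness to factor systems): `℧¹(Z(S)) ∩ Z(N_F(J(S))) ≤ Z(F)`, and
`Z(N_F(J(S))) = Z(F)` if `p` is odd or `F` is `S₄`-free.
-/

set_option autoImplicit false

namespace Cfsg.Agent.Lib.helper88

open Cfsg Cfsg.FusionSystem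

universe u

variable {Ω : Type u} [Group Ω] {S : Subgroup Ω}

/-- A map of the system fixes the elements of its source that lie in a central subgroup. -/
theorem central_fixed_of_mem (F : FusionSystem S) {Z : Subgroup Ω} (hZ : F.IsCentral Z)
    {P : Subgroup Ω} {φ : P →* Ω} (hφ : φ ∈ F.Hom P) (w : P) (hw : (w : Ω) ∈ Z) :
    φ w = w := by
  obtain ⟨ψ, -, h1, h2⟩ := hZ.2 P φ hφ
  have e1 := h1 w
  have e2 := h2 ⟨w, hw⟩
  have e3 : (Subgroup.inclusion le_sup_left w : (P ⊔ Z : Subgroup Ω)) =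
      Subgroup.inclusion le_sup_right ⟨(w : Ω), hw⟩ := rfl
  rw [e3, e2] at e1
  exact e1.symm

/-- A subgroup none of whose elements is moved by a map of the saturated system is central. -/
theorem isCentral_of_not_movesHom [Finite S] {p : ℕ} [Fact p.Prime] (hS : IsPGroup p S)
    (F : FusionSystem S) (hF : F.IsSaturated p) {Q : Subgroup Ω} (hQS : Q ≤ S)
    (h : ∀ x ∈ Q, ¬ MovesHom F x) : F.IsCentral Q := by
  rw [Cfsg.Agent.S5084.result p hS F hF Q]
  refine ⟨hQS, ?_⟩
  rintro x hx y ⟨φ, hφ, rfl⟩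
  by_contra hne
  exact h x hx ⟨_, φ, hφ, Subgroup.mem_zpowers x, hne⟩

/-- The `p`-th powers of the elements of `Z(S)` form a subgroup. -/
theorem exists_pow_of_mem_closure {p : ℕ} {x : Ω}
    (hx : x ∈ Subgroup.closure ((fun z : Ω => z ^ p) '' ((centerOf S : Subgroup Ω) : Set Ω))) :
    ∃ z ∈ centerOf S, z ^ p = x := by
  induction hx using Subgroup.closure_induction with
  | mem y hy =>
    obtain ⟨z, hz, rfl⟩ := hy
    exact ⟨z, hz, rfl⟩
  | one => exact ⟨1, Subgroup.one_mem _, one_pow p⟩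
  | mul a b _ _ ha hb =>
    obtain ⟨z₁, hz₁, rfl⟩ := ha
    obtain ⟨z₂, hz₂, rfl⟩ := hb
    refine ⟨z₁ * z₂, Subgroup.mul_mem _ hz₁ hz₂, ?_⟩
    have hcomm : Commute z₁ z₂ := (mul_comm_of_mem_centerOf hz₂ hz₁.1)
    exact hcomm.mul_pow p
  | inv a _ ha =>
    obtain ⟨z, hz, rfl⟩ := ha
    exact ⟨z⁻¹, Subgroup.inv_mem _ hz, inv_pow z p⟩

/-- **Glauberman's theorem for fusion systems** (statement S5193), modulo Glauberman's theorem on
weakly closed elements for groups and the heredity of `S₄`-freeness to factor systems. -/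
theorem glauberman_center [Finite S] {p : ℕ} [Fact p.Prime] (hG : GlaubermanWC.{u} p)
    (hfac : p = 2 → FactorHeredity.{u} p (Equiv.Perm (Fin 4))) (hS : IsPGroup p S)
    (F : FusionSystem S) (hF : F.IsSaturated p)
    (N : FusionSystem (normalizerIn S (Cfsg.thompsonSubgroupAOf S)))
    (hN : F.IsNormalizerSystem (Cfsg.thompsonSubgroupAOf S) N) :
    Subgroup.closure ((fun z : Ω => z ^ p) ''
      ((S ⊓ Subgroup.centralizer (S : Set Ω) : Subgroup Ω) : Set Ω)) ⊓ N.center ≤ F.center ∧
    (p ≠ 2 ∨ F.IsSectionFree p (Equiv.Perm (Fin 4)) → N.center = F.center) := by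
  have hSJ : S ≤ Subgroup.normalizer (Cfsg.thompsonSubgroupAOf S : Set Ω) :=
    Subgroup.le_normalizer.trans (normalizer_le_normalizer_thompsonSubgroupAOf S)
  have hJS : Cfsg.thompsonSubgroupAOf S ≤ S := thompsonSubgroupAOf_le S
  have hT : normalizerIn S (Cfsg.thompsonSubgroupAOf S) = S := normalizerIn_eq_of_le_normalizer hSJ
  have hTle : normalizerIn S (Cfsg.thompsonSubgroupAOf S) ≤ S := normalizerIn_le S _
  haveI hfinT : Finite ↥(normalizerIn S (Cfsg.thompsonSubgroupAOf S)) := finite_of_le hTle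
  have hTp : IsPGroup p ↥(normalizerIn S (Cfsg.thompsonSubgroupAOf S)) := hS.to_le hTle
  have hfn : F.IsFullyNormalized (Cfsg.thompsonSubgroupAOf S) :=
    fullyNormalized_of_le_normalizer F hJS hSJ
  have hNsat : N.IsSaturated p := Cfsg.Agent.S5098.result p hS F hF _ hfn N hN
  have hNc : N.IsCentral N.center := isCentral_center N
  have hNcS : N.center ≤ S := hNc.1.trans hTle
  have hle : ∀ P : Subgroup Ω, N.Hom P ⊆ F.Hom P := fun P φ hφ => by rw [hN P] at hφ; exact hφ.1
  -- the elements of `Z(N)` are central in `S` and not moved by `N`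
  have hK1 : ∀ y ∈ N.center, y ∈ centerOf S := by
    intro y hy
    refine Subgroup.mem_inf.mpr ⟨hNcS hy, ?_⟩
    rw [Subgroup.mem_centralizer_iff]
    intro s hs
    have hsT : s ∈ normalizerIn S (Cfsg.thompsonSubgroupAOf S) := by rw [hT]; exact hs
    have h1 : conjHom N.center s ∈ N.Hom N.center := N.conj_mem hNc.1 hsT
    have h2 := central_fixed_of_mem N hNc h1 ⟨y, hy⟩ hy
    have h3 : s * y * s⁻¹ = y := h2
    exact mul_inv_eq_iff_eq_mul.mp h3
  have hK2 : ∀ y ∈ N.center, ¬ NormMoves F (Cfsg.thompsonSubgroupAOf S) y := by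
    intro y hy h
    obtain ⟨P, φ, hφ, hyP, hne⟩ :=
      ((moves_iff_of_isNormalizerSystem F _ N hN y).mpr h).movesHom
    exact hne (central_fixed_of_mem N hNc hφ ⟨y, hyP⟩ hy)
  have hmain : ∀ y ∈ N.center,
      (p ≠ 2 ∨ (∃ z ∈ centerOf S, z ^ p = y) ∨ F.IsSectionFree p (Equiv.Perm (Fin 4))) →
      ¬ MovesHom F y := by
    intro y hy hc h
    exact hK2 y hy (glauberman_fusion hG hfac hS F hF (hK1 y hy) hc
      (h.moves hS hF (hK1 y hy)))
  constructor
  · apply le_sSup
    show F.IsCentral _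
    apply isCentral_of_not_movesHom hS F hF (inf_le_right.trans hNcS)
    intro x hx
    obtain ⟨hx1, hx2⟩ := Subgroup.mem_inf.mp hx
    exact hmain x hx2 (Or.inr (Or.inl (exists_pow_of_mem_closure hx1)))
  · intro hp
    apply le_antisymm
    · apply le_sSup
      show F.IsCentral _
      apply isCentral_of_not_movesHom hS F hF hNcS
      intro x hx
      exact hmain x hx (hp.elim Or.inl (fun h => Or.inr (Or.inr h)))
    · apply le_sSup
      show N.IsCentral _
      have hFc : F.IsCentral F.center := isCentral_center F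
      rw [Cfsg.Agent.S5084.result p hTp N hNsat F.center]
      refine ⟨?_, ?_⟩
      · rw [hT]
        exact hFc.1
      · rintro x hx y ⟨φ, hφ, rfl⟩
        exact ((Cfsg.Agent.S5084.result p hS F hF F.center).mp hFc).2 x hx _
          ⟨φ, hle _ hφ, rfl⟩

end Cfsg.Agent.Lib.helper88
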