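import Mathlib
import Cfsg.Prelude.Def_LieTypeChar
import Cfsg.Agent.Lib.helper44.LODefs
import Cfsg.Agent.Lib.helper6.LOARITH
import Cfsg.Agent.S1067

set_option autoImplicit false

namespace Cfsg.Agent.Lib.helper44.LO

open Cfsg

theorem h88_td4_ineq (q : ℕ) (hq : 1 ≤ q) :
    (q ^ 2 - 1) * (q ^ 6 - 1) * (q ^ 8 + q ^ 4 + 1) < q ^ 16 := by
  obtain ⟨t, rfl⟩ : ∃ t, q = t + 1 := ⟨q - 1, by omega⟩
  have h2 : (t + 1) ^ 2 - 1 = t ^ 2 + 2 * t := by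
    have : (t + 1) ^ 2 = t ^ 2 + 2 * t + 1 := by ring
    omega
  have h6 : (t + 1) ^ 6 - 1 < (t + 1) ^ 6 := by
    have : 1 ≤ (t + 1) ^ 6 := Nat.one_le_pow _ _ (by omega)
    omega
  have h10 : (t ^ 2 + 2 * t) * ((t + 1) ^ 8 + (t + 1) ^ 4 + 1) < (t + 1) ^ 10 := by
    have : (t + 1) ^ 10 = (t ^ 2 + 2 * t) * ((t + 1) ^ 8 + (t + 1) ^ 4 + 1) +
        ((t + 1) ^ 6 * (t ^ 2 + 2 * t) + (t + 1) ^ 2 * (t ^ 2 + 2 * t) + 1) := by ring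
    rw [this]
    exact Nat.lt_add_of_pos_right (by positivity)
  rw [h2]
  calc (t ^ 2 + 2 * t) * ((t + 1) ^ 6 - 1) * ((t + 1) ^ 8 + (t + 1) ^ 4 + 1)
      = ((t + 1) ^ 6 - 1) * ((t ^ 2 + 2 * t) * ((t + 1) ^ 8 + (t + 1) ^ 4 + 1)) := by ring
    _ ≤ (t + 1) ^ 6 * ((t ^ 2 + 2 * t) * ((t + 1) ^ 8 + (t + 1) ^ 4 + 1)) :=
        Nat.mul_le_mul_right _ h6.le
    _ < (t + 1) ^ 6 * (t + 1) ^ 10 := Nat.mul_lt_mul_of_pos_left h10 (by positivity)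
    _ = (t + 1) ^ 16 := by ring

/-- TD4 (racer copy, verbatim statement of `lo_td4`). -/
theorem h88_lo_td4 {K : Type} [Field K] [Fintype K] (p : ℕ) (hp : p.Prime) [CharP K p] (q : ℕ)
    (hq : IsPrimePow q) (hK : Fintype.card K = q ^ 3) :
    LOGood p (Nat.card ↥(Cfsg.Lie.twistedD4 K q)) := by
  obtain ⟨f', -, hf'⟩ := FiniteField.card K p
  have hqdvd : q ∣ p ^ (f' : ℕ) := by
    rw [← hf', hK]; exact Dvd.intro (q ^ 2) (by ring)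
  obtain ⟨j, -, hj⟩ := (Nat.dvd_prime_pow hp).1 hqdvd
  have hj1 : 1 ≤ j := by
    rcases Nat.eq_zero_or_pos j with h0 | h0
    · exfalso
      subst h0
      rw [pow_zero] at hj
      subst hj
      exact hq.ne_one rfl
    · exact h0
  have hS := Cfsg.Agent.S1067.result hq hK
  subst hj
  have hpq : p ∣ p ^ j := dvd_pow_self p (by omega)
  have hq1 : 1 ≤ p ^ j := Nat.one_le_pow _ _ hp.pos
  have hnd : ∀ a : ℕ, 1 ≤ a → ¬ p ∣ (p ^ j) ^ a - 1 := by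
    intro a ha h
    have hpa : p ∣ (p ^ j) ^ a := dvd_pow hpq (by omega)
    have h1 : 1 ≤ (p ^ j) ^ a := Nat.one_le_pow _ _ hq1
    have h6 : p ∣ 1 := (Nat.dvd_add_right h).1 (by rw [Nat.sub_add_cancel h1]; exact hpa)
    exact hp.one_lt.ne' (Nat.dvd_one.1 h6)
  have hMp : ¬ p ∣ ((p ^ j) ^ 2 - 1) * ((p ^ j) ^ 6 - 1) * ((p ^ j) ^ 8 + (p ^ j) ^ 4 + 1) := by
    intro h
    rcases (Nat.Prime.dvd_mul hp).1 h with h | h
    · rcases (Nat.Prime.dvd_mul hp).1 h with h | h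
      · exact hnd 2 (by norm_num) h
      · exact hnd 6 (by norm_num) h
    · have h8 : p ∣ (p ^ j) ^ 8 + (p ^ j) ^ 4 :=
        dvd_add (dvd_pow hpq (by norm_num)) (dvd_pow hpq (by norm_num))
      exact hp.one_lt.ne' (Nat.dvd_one.1 ((Nat.dvd_add_right h8).1 h))
  refine lo_good hp j hj1 1 _ 12 (((p ^ j) ^ 2 - 1) * ((p ^ j) ^ 6 - 1) * ((p ^ j) ^ 8 + (p ^ j) ^ 4 + 1))
    16 ?_ ?_ hMp ?_ (by norm_num) (by norm_num)
  · rw [one_mul, hS]; ring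
  · intro h; exact hp.one_lt.ne' (Nat.dvd_one.1 h)
  · rw [one_mul]; exact h88_td4_ineq _ hq1

end Cfsg.Agent.Lib.helper44.LO
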