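import Cfsg.Prelude.Def_FusionSystem
import Cfsg.Agent.Lib.helper88.Saturated
import Cfsg.Agent.Lib.helper73.PearlFD3

set_option autoImplicit false

/-! S5239 leaf ENT (`essential_ne_top`), racer copy by helper88. -/

namespace Cfsg.Agent.Lib.helper79.P3

open Cfsg Cfsg.FusionSystem

theorem h88_autInducedBy_self_normal {Ω : Type*} [Group Ω] (S : Subgroup Ω) :
    (autInducedBy S S).Normal := by
  constructor
  intro a ha σ
  unfold autInducedBy at ha ⊢
  induction ha using Subgroup.closure_induction with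
  | mem a ha =>
    obtain ⟨g, hg, hga⟩ := ha
    apply Subgroup.subset_closure
    refine ⟨((σ ⟨g, hg⟩ : S) : Ω), (σ ⟨g, hg⟩).2, fun x => ?_⟩
    have h1 : a (σ⁻¹ x) = ⟨g, hg⟩ * σ⁻¹ x * (⟨g, hg⟩ : S)⁻¹ := Subtype.ext (by simpa using hga (σ⁻¹ x))
    have h2 : (σ * a * σ⁻¹) x = σ (a (σ⁻¹ x)) := rfl
    rw [h2, h1, map_mul, map_mul, map_inv]
    have h3 : σ (σ⁻¹ x) = x := by
      have : (σ * σ⁻¹) x = x := by rw [mul_inv_cancel]; rfl
      exact this
    rw [h3]
    simp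
  | one =>
    rw [mul_one, mul_inv_cancel]
    exact Subgroup.one_mem _
  | mul a b _ _ iha ihb =>
    have : σ * (a * b) * σ⁻¹ = (σ * a * σ⁻¹) * (σ * b * σ⁻¹) := by group
    rw [this]
    exact Subgroup.mul_mem _ iha ihb
  | inv a _ iha =>
    have : σ * a⁻¹ * σ⁻¹ = (σ * a * σ⁻¹)⁻¹ := by group
    rw [this]
    exact Subgroup.inv_mem _ iha

theorem h88_essential_ne_top {Ω : Type*} [Group Ω] {S : Subgroup Ω} [Finite S] (p : ℕ) [Fact p.Prime]
    (hS : IsPGroup p S) (F : Cfsg.FusionSystem S) (hF : F.IsSaturated p) (E : Subgroup Ω)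
    (hE : F.IsEssential p E) : E ≠ S := by
  intro hES
  have hE' : F.IsEssential p S := hES ▸ hE
  obtain ⟨hfa, -⟩ :=
    Cfsg.Agent.Lib.helper88.fullyAutomized_receptive_of_fullyNormalized hS F hF hE'.2.1
  obtain ⟨-, R, hR⟩ := hfa
  haveI := h88_autInducedBy_self_normal S
  have hnorm : ((autInducedBy S S).subgroupOf (F.autGroup S)).Normal := inferInstance
  have hRn : (R : Subgroup (F.autGroup S)).Normal := by rw [hR]; exact hnorm
  obtain ⟨-, -, hN, Y, hY⟩ := hE'
  haveI := hN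
  exact Cfsg.Agent.Lib.helper88.PearlF.not_stronglyPEmbedded_of_normal_sylow p R hRn
    ((Inn S).subgroupOf (F.autGroup S)) Y hY

end Cfsg.Agent.Lib.helper79.P3
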