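import Mathlib

set_option autoImplicit false

/-! S5239 leaf EXP27 (`p3_exp27`), racer copy by helper88. -/

namespace Cfsg.Agent.Lib.helper79.P3

theorem h88_p3_exp27 {G : Type*} [Group G] [Finite G] (hG : Nat.card G = 27) (hna : ∃ a b : G, a * b ≠ b * a)
    (E : Subgroup G) (hE : Nat.card E = 9) (hEe : ∀ e ∈ E, e ^ 3 = 1) (ψ : G →* G)
    (hψ : Function.Injective ψ) (hψE : ∀ e ∈ E, ψ e = e⁻¹) : ∀ g : G, g ^ 3 = 1 := by
  classical
  haveI : Fact (Nat.Prime 3) := ⟨by norm_num⟩
  have hGp : IsPGroup 3 G := IsPGroup.of_card (n := 3) (by rw [hG]; norm_num)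
  -- the centre has order 3
  have hZ : Nat.card (Subgroup.center G) = 3 := by
    haveI : Nontrivial G := by
      obtain ⟨a, b, hab⟩ := hna
      exact ⟨⟨a * b, b * a, hab⟩⟩
    have hnt : Nontrivial (Subgroup.center G) := hGp.center_nontrivial
    have hdvd : Nat.card (Subgroup.center G) ∣ 27 := hG ▸ Subgroup.card_subgroup_dvd_card _
    have h1 : Nat.card (Subgroup.center G) ≠ 1 := by
      intro h
      have := (Nat.card_eq_one_iff_unique.mp h).1
      exact not_subsingleton (Subgroup.center G) this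
    have h27 : Nat.card (Subgroup.center G) ≠ 27 := by
      intro h
      have htop : Subgroup.center G = ⊤ := Subgroup.eq_top_of_card_eq _ (h.trans hG.symm)
      obtain ⟨a, b, hab⟩ := hna
      have hb : b ∈ Subgroup.center G := htop ▸ Subgroup.mem_top b
      exact hab (Subgroup.mem_center_iff.mp hb a)
    have h9 : Nat.card (Subgroup.center G) ≠ 9 := by
      intro h
      have hq : Nat.card (G ⧸ Subgroup.center G) = 3 := by
        have := Subgroup.card_eq_card_quotient_mul_card_subgroup (Subgroup.center G)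
        rw [hG, h] at this
        omega
      haveI : IsCyclic (G ⧸ Subgroup.center G) := isCyclic_of_prime_card hq
      obtain ⟨a, b, hab⟩ := hna
      exact hab (commutative_of_cyclic_center_quotient (QuotientGroup.mk' (Subgroup.center G))
        (by rw [QuotientGroup.ker_mk']) a b)
    have hmem : Nat.card (Subgroup.center G) ∈ Nat.divisors 27 :=
      Nat.mem_divisors.mpr ⟨hdvd, by norm_num⟩
    have hdiv : Nat.divisors 27 = {1, 3, 9, 27} := by decide
    rw [hdiv] at hmem
    simp only [Finset.mem_insert, Finset.mem_singleton] at hmem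
    omega
  -- commutators are central
  have hcc : ∀ a b : G, a⁻¹ * b⁻¹ * a * b ∈ Subgroup.center G := by
    have hq : Nat.card (G ⧸ Subgroup.center G) = 3 ^ 2 := by
      have := Subgroup.card_eq_card_quotient_mul_card_subgroup (Subgroup.center G)
      rw [hG, hZ] at this
      omega
    have hc := IsPGroup.commutative_of_card_eq_prime_sq hq
    intro a b
    rw [← QuotientGroup.eq_one_iff]
    simp only [QuotientGroup.mk_mul, QuotientGroup.mk_inv]
    rw [mul_assoc, hc (a : G ⧸ Subgroup.center G) (b : G ⧸ Subgroup.center G)]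
    group
  have hEcomm : ∀ a ∈ E, ∀ b ∈ E, a * b = b * a := by
    have hc := IsPGroup.commutative_of_card_eq_prime_sq (show Nat.card E = 3 ^ 2 by rw [hE]; norm_num)
    intro a ha b hb
    exact congrArg Subtype.val (hc ⟨a, ha⟩ ⟨b, hb⟩)
  have hEidx : E.index = 3 := by
    have := Subgroup.card_mul_index E
    rw [hE, hG] at this
    omega
  have hEn : E.Normal := Subgroup.normal_of_index_eq_minFac_card (by rw [hEidx, hG]; norm_num)
  -- the centralizer of `E` is `E`
  have hCE : ∀ u : G, (∀ e ∈ E, e * u = u * e) → u ∈ E := by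
    intro u hu
    by_contra huE
    have hlt : E < E ⊔ Subgroup.zpowers u :=
      lt_of_le_of_ne le_sup_left (fun h => huE (h ▸
        (le_sup_right : Subgroup.zpowers u ≤ E ⊔ Subgroup.zpowers u) (Subgroup.mem_zpowers u)))
    have hsup : E ⊔ Subgroup.zpowers u = ⊤ := by
      have h1 : Nat.card E ∣ Nat.card (E ⊔ Subgroup.zpowers u : Subgroup G) :=
        Subgroup.card_dvd_of_le le_sup_left
      have h2 : Nat.card (E ⊔ Subgroup.zpowers u : Subgroup G) ∣ 27 :=
        hG ▸ Subgroup.card_subgroup_dvd_card _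
      have h3 : Nat.card (E ⊔ Subgroup.zpowers u : Subgroup G) ≠ 9 := by
        intro h
        exact hlt.ne (Subgroup.eq_of_le_of_card_ge le_sup_left (by rw [h, hE]))
      rw [hE] at h1
      have hmem : Nat.card (E ⊔ Subgroup.zpowers u : Subgroup G) ∈ Nat.divisors 27 :=
        Nat.mem_divisors.mpr ⟨h2, by norm_num⟩
      have hdiv : Nat.divisors 27 = {1, 3, 9, 27} := by decide
      rw [hdiv] at hmem
      simp only [Finset.mem_insert, Finset.mem_singleton] at hmem
      have h27 : Nat.card (E ⊔ Subgroup.zpowers u : Subgroup G) = 27 := by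
        rcases hmem with h | h | h | h
        · rw [h] at h1; omega
        · rw [h] at h1; omega
        · exact absurd h h3
        · exact h
      exact Subgroup.eq_top_of_card_eq _ (h27.trans hG.symm)
    have hEZ : E ≤ Subgroup.center G := by
      intro e he
      rw [Subgroup.mem_center_iff]
      intro g
      have hg : g ∈ E ⊔ Subgroup.zpowers u := hsup ▸ Subgroup.mem_top g
      have hle : E ⊔ Subgroup.zpowers u ≤ Subgroup.centralizer ({e} : Set G) := by
        apply sup_le
        · intro a ha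
          rw [Subgroup.mem_centralizer_iff]
          intro x hx
          rw [Set.mem_singleton_iff.mp hx]
          exact hEcomm e he a ha
        · rw [Subgroup.zpowers_le, Subgroup.mem_centralizer_iff]
          intro x hx
          rw [Set.mem_singleton_iff.mp hx]
          exact hu e he
      have h4 := hle hg
      rw [Subgroup.mem_centralizer_iff] at h4
      exact (h4 e rfl).symm
    have h5 := Subgroup.card_le_of_le hEZ
    rw [hE, hZ] at h5
    omega
  intro y
  -- `u := ψ y * y⁻¹` centralizes `E`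
  have hu : ∀ e ∈ E, e * (ψ y * y⁻¹) = (ψ y * y⁻¹) * e := by
    intro e he
    -- apply the key identity to `a := e⁻¹`
    have ha : e⁻¹ ∈ E := E.inv_mem he
    have hB : y⁻¹ * e * y ∈ E := by
      have := hEn.conj_mem e he y⁻¹
      simpa using this
    have hcomE : e * (y⁻¹ * e⁻¹ * y) ∈ E := by
      refine E.mul_mem he ?_
      have := hEn.conj_mem e⁻¹ ha y⁻¹
      simpa using this
    have h1 : ψ (e * (y⁻¹ * e⁻¹ * y)) = (e * (y⁻¹ * e⁻¹ * y))⁻¹ := hψE _ hcomE
    rw [map_mul, map_mul, map_mul, map_inv, map_inv, hψE e he] at h1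
    -- h1 : e⁻¹ * ((ψ y)⁻¹ * e⁻¹⁻¹ * ψ y) = (e * (y⁻¹ * e⁻¹ * y))⁻¹
    have h2 : (ψ y)⁻¹ * e * ψ y = y⁻¹ * e * y := by
      have h3 : (ψ y)⁻¹ * e * ψ y = e * (e * (y⁻¹ * e⁻¹ * y))⁻¹ := by
        rw [← h1]
        group
      rw [h3]
      have h4 : e * (e * (y⁻¹ * e⁻¹ * y))⁻¹ = e * (y⁻¹ * e * y) * e⁻¹ := by group
      rw [h4, hEcomm e he _ hB]
      group
    calc e * (ψ y * y⁻¹) = ψ y * ((ψ y)⁻¹ * e * ψ y) * y⁻¹ := by group
      _ = ψ y * (y⁻¹ * e * y) * y⁻¹ := by rw [h2]
      _ = (ψ y * y⁻¹) * e := by group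
  have huE : ψ y * y⁻¹ ∈ E := hCE _ hu
  obtain ⟨u, hudef⟩ : ∃ u : G, u = ψ y * y⁻¹ := ⟨_, rfl⟩
  rw [← hudef] at huE
  have hw : ψ y = u * y := by rw [hudef]; group
  -- `y ^ 3 ∈ E`
  have hy3 : y ^ 3 ∈ E := by
    haveI := hEn
    rw [← QuotientGroup.eq_one_iff, QuotientGroup.mk_pow]
    have hq : Nat.card (G ⧸ E) = 3 := hEidx
    rw [← hq]
    exact pow_card_eq_one'
  -- the commutator `t`
  obtain ⟨t, htdef⟩ : ∃ t : G, t = u⁻¹ * y * u * y⁻¹ := ⟨_, rfl⟩
  have htZ : t ∈ Subgroup.center G := by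
    have := hcc u y⁻¹
    rw [inv_inv] at this
    rw [htdef]
    exact this
  have htE : t ∈ E := by
    rw [htdef]
    have h1 : y * u * y⁻¹ ∈ E := hEn.conj_mem u huE y
    have : u⁻¹ * y * u * y⁻¹ = u⁻¹ * (y * u * y⁻¹) := by group
    rw [this]
    exact E.mul_mem (E.inv_mem huE) h1
  have ht : ∀ g : G, t * g = g * t := fun g => (Subgroup.mem_center_iff.mp htZ g).symm
  have e1 : y * u = u * t * y := by rw [htdef]; group
  have hcube : (u * y) ^ 3 = u ^ 3 * t ^ 3 * y ^ 3 := by
    calc (u * y) ^ 3 = u * (y * u) * (y * u) * y := by rw [pow_three']; group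
      _ = u * (u * t * y) * (u * t * y) * y := by rw [e1]
      _ = u * u * t * (y * u) * t * y * y := by group
      _ = u * u * t * (u * t * y) * t * y * y := by rw [e1]
      _ = u * u * (t * u) * t * (y * t) * y * y := by group
      _ = u * u * (u * t) * t * (t * y) * y * y := by rw [ht u, ← ht y]
      _ = u ^ 3 * t ^ 3 * y ^ 3 := by rw [pow_three', pow_three', pow_three']; group
  have h6 : ψ (y ^ 3) = y ^ 3 := by
    rw [map_pow, hw, hcube, hEe u huE, hEe t htE, one_mul, one_mul]
  have h7 : ψ (y ^ 3) = (y ^ 3)⁻¹ := hψE _ hy3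
  have h8 : (y ^ 3) * (y ^ 3) = 1 := by
    have : (y ^ 3)⁻¹ = y ^ 3 := h7.symm.trans h6
    calc (y ^ 3) * (y ^ 3) = (y ^ 3)⁻¹ * (y ^ 3) := by rw [this]
      _ = 1 := inv_mul_cancel _
  have h9 : (y ^ 3) ^ 3 = 1 := hEe _ hy3
  calc y ^ 3 = (y ^ 3) ^ 3 * ((y ^ 3) * (y ^ 3))⁻¹ := by group
    _ = 1 := by rw [h9, h8, inv_one, one_mul]

end Cfsg.Agent.Lib.helper79.P3
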