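import Cfsg.Prelude.Def_FusionSystem
import Cfsg.Agent.Lib.helper88.GL2Gen
import Cfsg.Agent.Lib.helper30.AutElemAb
import Cfsg.Agent.Lib.helper53.SPE

set_option autoImplicit false

/-! S5239 leaf INV (`pearl_inv_mem`), racer copy by helper88. -/

namespace Cfsg.Agent.Lib.helper79.P3

open Cfsg Cfsg.FusionSystem Cfsg.Agent.Lib.helper88

theorem h88_gl2_central_invol (g : GL (Fin 2) (ZMod 3)) (hu : g * uG 1 = uG 1 * g)
    (hl : g * lG 1 = lG 1 * g) (h2 : g * g = 1) (h1 : g ≠ 1) :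
    (g : Matrix (Fin 2) (Fin 2) (ZMod 3)) 0 0 = -1 ∧
    (g : Matrix (Fin 2) (Fin 2) (ZMod 3)) 0 1 = 0 ∧
    (g : Matrix (Fin 2) (Fin 2) (ZMod 3)) 1 0 = 0 ∧
    (g : Matrix (Fin 2) (Fin 2) (ZMod 3)) 1 1 = -1 := by
  have e1 := congrArg (fun m : GL (Fin 2) (ZMod 3) => (m : Matrix (Fin 2) (Fin 2) (ZMod 3)) 0 0) hu
  have e2 := congrArg (fun m : GL (Fin 2) (ZMod 3) => (m : Matrix (Fin 2) (Fin 2) (ZMod 3)) 0 1) hu
  have e3 := congrArg (fun m : GL (Fin 2) (ZMod 3) => (m : Matrix (Fin 2) (Fin 2) (ZMod 3)) 0 0) hl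
  have e4 := congrArg (fun m : GL (Fin 2) (ZMod 3) => (m : Matrix (Fin 2) (Fin 2) (ZMod 3)) 0 0) h2
  simp only [Units.val_mul, uG_val, lG_val, Matrix.mul_apply, Fin.sum_univ_two, Matrix.of_apply,
    Matrix.cons_val_zero, Matrix.cons_val_one, Matrix.cons_val', Matrix.empty_val',
    Matrix.cons_val_fin_one, mul_one, mul_zero, add_zero, one_mul, zero_mul, zero_add,
    Units.val_one, Matrix.one_apply_eq] at e1 e2 e3 e4
  have h10 : (g : Matrix (Fin 2) (Fin 2) (ZMod 3)) 1 0 = 0 := by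
    have := e1
    linear_combination -this
  have h01 : (g : Matrix (Fin 2) (Fin 2) (ZMod 3)) 0 1 = 0 := by
    linear_combination e3
  have h11 : (g : Matrix (Fin 2) (Fin 2) (ZMod 3)) 1 1 = (g : Matrix (Fin 2) (Fin 2) (ZMod 3)) 0 0 := by
    linear_combination -e2
  have hsq : (g : Matrix (Fin 2) (Fin 2) (ZMod 3)) 0 0 * (g : Matrix (Fin 2) (Fin 2) (ZMod 3)) 0 0 = 1 := by
    rw [h01] at e4
    linear_combination e4
  have hdec : ∀ a : ZMod 3, a * a = 1 → a = 1 ∨ a = -1 := by decide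
  rcases hdec _ hsq with h | h
  · exfalso
    apply h1
    apply glTwo_ext
    · simpa using h
    · simpa using h01
    · simpa using h10
    · rw [h11]; simpa using h
  · exact ⟨h, h01, h10, h11.trans h⟩

theorem h88_pearl_inv_mem {Ω : Type*} [Group Ω] {S : Subgroup Ω} [Finite S] (hS : IsPGroup 3 S)
    (F : Cfsg.FusionSystem S) (hF : F.IsSaturated 3) [Fact (Nat.Prime 3)] (E : Subgroup Ω)
    (hE : F.IsEssential 3 E) (hcE : Nat.card E = 9) :
    ∃ α ∈ F.autGroup E, ∀ e : E, α e = e⁻¹ := by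
  obtain ⟨hcen, hfn, hN, Y, hY⟩ := hE
  haveI := hN
  have hcard : Nat.card E = 3 ^ 2 := by rw [hcE]; norm_num
  have hpp : (3 : ℕ).Prime := Fact.out
  haveI : Finite E := Nat.finite_of_card_ne_zero (by rw [hcE]; norm_num)
  have hcomm : ∀ a b : E, a * b = b * a := by
    haveI := IsPGroup.isMulCommutative_of_card_eq_prime_sq hcard
    exact fun a b => mul_comm' a b
  have hInn0 : Cfsg.Inn E = ⊥ := by
    rw [eq_bot_iff]
    rintro _ ⟨g, rfl⟩
    rw [Subgroup.mem_bot]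
    ext y
    simp only [MulAut.conj_apply, MulAut.one_apply]
    rw [hcomm g y, mul_inv_cancel_right]
  have hInn : (Cfsg.Inn E).subgroupOf (F.autGroup E) = ⊥ := by
    rw [hInn0]
    exact Subgroup.bot_subgroupOf _
  let e : (F.autGroup E ⧸ (Cfsg.Inn E).subgroupOf (F.autGroup E)) ≃* F.autGroup E :=
    (QuotientGroup.quotientMulEquivOfEq hInn).trans QuotientGroup.quotientBot
  obtain ⟨P, hPne, hPE, hPnorm⟩ := Cfsg.Agent.Lib.helper53.spe_exists_sylow hY
  have hex : ∃ x ∈ P.toSubgroup, ∃ h, h * x * h⁻¹ ∉ P.toSubgroup := by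
    by_contra hcon
    push Not at hcon
    have hnorm : P.toSubgroup.Normal := ⟨fun x hx h => hcon x hx h⟩
    have htop := Subgroup.normalizer_eq_top P.toSubgroup
    have hle := hPnorm P.toSubgroup le_rfl hPne
    rw [htop] at hle
    exact hY.2.1 (top_le_iff.mp hle)
  obtain ⟨x, hx, h, hxh⟩ := hex
  have hncyc : ¬ IsCyclic E := by
    intro hcyc
    have hAcomm : ∀ σ τ : MulAut E, σ * τ = τ * σ := by
      intro σ τ
      obtain ⟨m, hm⟩ := MonoidHom.map_cyclic σ.toMonoidHom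
      obtain ⟨n, hn⟩ := MonoidHom.map_cyclic τ.toMonoidHom
      ext v
      have h1 : σ (τ v) = (v ^ n) ^ m := by
        have h3 := hm (τ v)
        have h2 := hn v
        simp only [MulEquiv.toMonoidHom_eq_coe, MonoidHom.coe_coe] at h3 h2
        rw [h3, h2]
      have h2 : τ (σ v) = (v ^ m) ^ n := by
        have h4 := hn (σ v)
        have h3 := hm v
        simp only [MulEquiv.toMonoidHom_eq_coe, MonoidHom.coe_coe] at h4 h3
        rw [h4, h3]
      rw [MulAut.mul_apply, MulAut.mul_apply, h1, h2, ← zpow_mul, ← zpow_mul, mul_comm]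
    have hfix : h * x * h⁻¹ = x := by
      apply e.injective
      rw [map_mul, map_mul, map_inv]
      have hc : e h * e x = e x * e h := Subtype.ext (hAcomm _ _)
      rw [hc, mul_inv_cancel_right]
    exact hxh (by rw [hfix]; exact hx)
  have hexp : ∀ a : E, a ^ 3 = 1 := by
    intro a
    have h1 : orderOf a ∣ 3 ^ 2 := hcard ▸ orderOf_dvd_natCard a
    obtain ⟨j, hj, hj2⟩ := (Nat.dvd_prime_pow hpp).mp h1
    have hj1 : j ≤ 1 := by
      by_contra hcon
      have hj3 : j = 2 := by omega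
      subst hj3
      exact hncyc (isCyclic_of_orderOf_eq_card a (hj2.trans hcard.symm))
    rw [← orderOf_dvd_iff_pow_eq_one, hj2]
    calc 3 ^ j ∣ 3 ^ 1 := pow_dvd_pow 3 hj1
      _ = 3 := pow_one 3
  letI : CommGroup E := { (inferInstance : Group E) with mul_comm := hcomm }
  obtain ⟨Ψ, hΨ⟩ := Cfsg.Agent.Lib.helper30.exists_mulAut_to_GL2 3 (V := E) hexp hcard
  obtain ⟨Φ, hΦdef⟩ : ∃ Φ : (F.autGroup E ⧸ (Cfsg.Inn E).subgroupOf (F.autGroup E)) →*
      GL (Fin 2) (ZMod 3), Φ = (Ψ.comp (F.autGroup E).subtype).comp e.toMonoidHom := ⟨_, rfl⟩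
  have hΦ : Function.Injective Φ := by
    rw [hΦdef]
    exact (hΨ.comp Subtype.val_injective).comp e.injective
  have hΦap : ∀ a, Φ a = Ψ ((e a : F.autGroup E) : MulAut E) := by
    intro a
    rw [hΦdef]
    rfl
  have hle : (Matrix.SpecialLinearGroup.toGL :
      Matrix.SpecialLinearGroup (Fin 2) (ZMod 3) →* GL (Fin 2) (ZMod 3)).range ≤ Φ.range := by
    refine sl_range_le_of_pgroup 3 Φ.range (P.toSubgroup.map Φ) (P.isPGroup'.map Φ) ?_ (Φ x) (Φ h)
      ⟨x, hx, rfl⟩ ⟨h, rfl⟩ ?_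
    · rintro _ ⟨y, -, rfl⟩
      exact ⟨y, rfl⟩
    · rintro ⟨y, hy, hyeq⟩
      have hyy : y = h * x * h⁻¹ := hΦ (by rw [hyeq, map_mul, map_mul, map_inv])
      exact hxh (hyy ▸ hy)
  -- the inversion
  obtain ⟨ι, hι⟩ : ∃ ι : MulAut E, ∀ v : E, ι v = v⁻¹ := ⟨MulEquiv.inv E, fun v => rfl⟩
  have hιc : ∀ σ : MulAut E, ι * σ = σ * ι := by
    intro σ
    ext v
    simp only [MulAut.mul_apply, hι, map_inv]
  have hu : uG (1 : ZMod 3) ∈ Φ.range :=
    hle ⟨Matrix.SpecialLinearGroup.transvection (by decide : (0 : Fin 2) ≠ 1) 1,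
      toGL_transvection_zero_one _ 1⟩
  have hl : lG (1 : ZMod 3) ∈ Φ.range :=
    hle ⟨Matrix.SpecialLinearGroup.transvection (by decide : (1 : Fin 2) ≠ 0) 1,
      toGL_transvection_one_zero _ 1⟩
  have hcu : Ψ ι * uG 1 = uG 1 * Ψ ι := by
    obtain ⟨a, ha⟩ := hu
    rw [← ha, hΦap, ← map_mul, ← map_mul, hιc]
  have hcl : Ψ ι * lG 1 = lG 1 * Ψ ι := by
    obtain ⟨a, ha⟩ := hl
    rw [← ha, hΦap, ← map_mul, ← map_mul, hιc]
  have hsq : Ψ ι * Ψ ι = 1 := by
    rw [← map_mul]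
    have : ι * ι = 1 := by
      ext v
      simp only [MulAut.mul_apply, hι, inv_inv, MulAut.one_apply]
    rw [this, map_one]
  have hne1 : Ψ ι ≠ 1 := by
    intro h1
    have hι1 : ι = 1 := hΨ (by rw [h1, map_one])
    -- then every element is its own inverse, so has order dividing 2 and 3
    have hall : ∀ v : E, v = 1 := by
      intro v
      have hv : v⁻¹ = v := by
        have := hι v
        rw [hι1, MulAut.one_apply] at this
        exact this.symm
      have h3 := hexp v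
      have h2 : v * v = 1 := by
        calc v * v = v⁻¹ * v := by rw [hv]
          _ = 1 := inv_mul_cancel v
      calc v = v ^ 3 * (v * v)⁻¹ := by group
        _ = 1 := by rw [h3, h2, inv_one, one_mul]
    have hc1 : Nat.card E = 1 := by
      haveI : Subsingleton E := ⟨fun a b => (hall a).trans (hall b).symm⟩
      exact Nat.card_unique
    rw [hcE] at hc1
    omega
  obtain ⟨g00, g01, g10, g11⟩ := h88_gl2_central_invol (Ψ ι) hcu hcl hsq hne1
  have hmem : Ψ ι ∈ Φ.range := by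
    apply hle
    refine ⟨⟨!![-1, 0; 0, -1], by simp [Matrix.det_fin_two_of]⟩, ?_⟩
    apply glTwo_ext <;> simp [Matrix.SpecialLinearGroup.toGL, g00, g01, g10, g11]
  obtain ⟨b, hb⟩ := hmem
  rw [hΦap] at hb
  have hιeq : ((e b : F.autGroup E) : MulAut E) = ι := hΨ hb
  exact ⟨ι, hιeq ▸ (e b).2, hι⟩

end Cfsg.Agent.Lib.helper79.P3
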