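import Cfsg.Agent.Lib.helper88.Invariant
import Cfsg.Agent.Lib.helper88.Saturated2
import Cfsg.Agent.Lib.helper87.ImgOf
import Cfsg.Agent.Lib.helper87.StabAut

/-!
The `Δ`-valued relation attached to a normal subsystem `E` over `T` of `F` and a homomorphism
`χ : Aut_F(T) → Δ`: a map `φ` of `F` with source `P` is related to `δ` when on `P ∩ T` it is a map of
`E` followed by an element of `Aut_F(T)` of `χ`-value `δ`.
-/

set_option autoImplicit false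

namespace Cfsg.Agent.Lib.helper88

open Cfsg Cfsg.FusionSystem

variable {Ω : Type*} [Group Ω] {S T : Subgroup Ω}

/-- On `P ∩ T`, the map `φ` is a map of `E` followed by an element of `Aut_F(T)` whose `χ`-value
is `δ`. -/
def Th (F : FusionSystem S) (E : FusionSystem T) {Δ : Type*} [Group Δ]
    (χ : ↥(F.autGroup T) →* Δ) {P : Subgroup Ω} (φ : P →* Ω) (δ : Δ) : Prop :=
  ∃ γ : ↥(F.autGroup T), χ γ = δ ∧ ∃ R : Subgroup Ω, (∀ y : Ω, y ∈ R ↔ y ∈ P ∧ y ∈ T) ∧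
    ∃ ε ∈ E.Hom R, ∀ (x : P) (y : R) (t : T), (y : Ω) = x → (t : Ω) = ε y →
      φ x = (((γ : MulAut T) t : T) : Ω)

theorem th_exists {F : FusionSystem S} {E : FusionSystem T} (hinv : E.IsInvariantIn F)
    {Δ : Type*} [Group Δ] (χ : ↥(F.autGroup T) →* Δ) {P : Subgroup Ω} {φ : P →* Ω}
    (hφ : φ ∈ F.Hom P) : ∃ δ, Th F E χ φ δ := by
  obtain ⟨-, -, -, hfrat⟩ := hinv
  have hφ' : φ.comp (Subgroup.inclusion (inf_le_left : P ⊓ T ≤ P)) ∈ F.Hom (P ⊓ T) :=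
    restrict_mem F inf_le_left hφ
  obtain ⟨α, hα, φ₀, hφ₀, hfr⟩ := hfrat (P ⊓ T) inf_le_right _ hφ'
  refine ⟨χ ⟨α, hα⟩, ⟨α, hα⟩, rfl, P ⊓ T, fun y => Subgroup.mem_inf, φ₀, hφ₀, ?_⟩
  intro x y t hy ht
  have hφ₀y : φ₀ y ∈ T := ht ▸ t.2
  have h1 := hfr y hφ₀y
  have h2 : Subgroup.inclusion (inf_le_left : P ⊓ T ≤ P) y = x := Subtype.ext hy
  have h3 : t = ⟨φ₀ y, hφ₀y⟩ := Subtype.ext ht
  rw [h3, ← h1]
  show φ x = φ (Subgroup.inclusion _ y)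
  rw [h2]

theorem th_restrict {F : FusionSystem S} {E : FusionSystem T} {Δ : Type*} [Group Δ]
    {χ : ↥(F.autGroup T) →* Δ} {P P' : Subgroup Ω} (hle : P' ≤ P) {φ : P →* Ω} {δ : Δ}
    (h : Th F E χ φ δ) : Th F E χ (φ.comp (Subgroup.inclusion hle)) δ := by
  obtain ⟨γ, hγ, R, hR, ε, hε, heq⟩ := h
  have hle' : P' ⊓ T ≤ R := fun y hy => (hR y).mpr ⟨hle hy.1, hy.2⟩
  refine ⟨γ, hγ, P' ⊓ T, fun y => Subgroup.mem_inf, ε.comp (Subgroup.inclusion hle'),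
    restrict_mem E hle' hε, ?_⟩
  intro x y t hy ht
  exact heq (Subgroup.inclusion hle x) (Subgroup.inclusion hle' y) t hy ht

theorem th_of_mem {F : FusionSystem S} {E : FusionSystem T} {Δ : Type*} [Group Δ]
    (χ : ↥(F.autGroup T) →* Δ) {R : Subgroup Ω} {ε : R →* Ω} (hε : ε ∈ E.Hom R) :
    Th F E χ ε 1 := by
  have hRT : R ≤ T := (E.le_of_mem hε).1
  refine ⟨1, map_one χ, R, fun y => ⟨fun hy => ⟨hy, hRT hy⟩, fun hy => hy.1⟩, ε, hε, ?_⟩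
  intro x y t hy ht
  have : y = x := Subtype.ext hy
  rw [this] at ht
  rw [← ht]
  rfl

theorem th_subtype (F : FusionSystem S) (E : FusionSystem T) {Δ : Type*} [Group Δ]
    (χ : ↥(F.autGroup T) →* Δ) (P : Subgroup Ω) : Th F E χ P.subtype 1 := by
  refine ⟨1, map_one χ, P ⊓ T, fun y => Subgroup.mem_inf, (P ⊓ T).subtype,
    subtype_mem E inf_le_right, ?_⟩
  intro x y t hy ht
  show (x : Ω) = t
  rw [ht, ← hy]
  rfl

theorem th_comp {F : FusionSystem S} {E : FusionSystem T} (hinv : AutInvariant E F)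
    {Δ : Type*} [Group Δ] {χ : ↥(F.autGroup T) →* Δ} {P Q : Subgroup Ω} {φ : P →* Ω}
    {ψ : Q →* Ω} (h : ∀ x : P, φ x ∈ Q) {δ₁ δ₂ : Δ} (h₁ : Th F E χ φ δ₁)
    (h₂ : Th F E χ ψ δ₂) : Th F E χ (ψ.comp (φ.codRestrict Q h)) (δ₂ * δ₁) := by
  obtain ⟨γ₁, hγ₁, R₁, hR₁, ε₁, hε₁, heq₁⟩ := h₁
  obtain ⟨γ₂, hγ₂, R₂, hR₂, ε₂, hε₂, heq₂⟩ := h₂
  have hR₁P : R₁ ≤ P := fun y hy => ((hR₁ y).mp hy).1
  have hε₁T : ∀ y : R₁, ε₁ y ∈ T := fun y => (E.le_of_mem hε₁).2 y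
  have hε₂T : ∀ y : R₂, ε₂ y ∈ T := fun y => (E.le_of_mem hε₂).2 y
  have hφγ : ∀ y : R₁, φ ⟨y, hR₁P y.2⟩ = (((γ₁ : MulAut T) ⟨ε₁ y, hε₁T y⟩ : T) : Ω) :=
    fun y => heq₁ ⟨y, hR₁P y.2⟩ y ⟨ε₁ y, hε₁T y⟩ rfl rfl
  have hBR₂ : (φ.comp (Subgroup.inclusion hR₁P)).range ≤ R₂ := by
    rintro _ ⟨y, rfl⟩
    refine (hR₂ _).mpr ⟨h _, ?_⟩
    show φ ⟨y, hR₁P y.2⟩ ∈ T
    rw [hφγ y]
    exact ((γ₁ : MulAut T) _).2
  have hBT : (φ.comp (Subgroup.inclusion hR₁P)).range ≤ T :=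
    fun y hy => ((hR₂ y).mp (hBR₂ hy)).2
  have hε₂B := restrict_mem E hBR₂ hε₂
  have hαinv : ∀ y : R₁, (γ₁ : MulAut T)⁻¹ ⟨φ ⟨y, hR₁P y.2⟩, hBT ⟨y, rfl⟩⟩ = ⟨ε₁ y, hε₁T y⟩ := by
    intro y
    have h1 : (⟨φ ⟨y, hR₁P y.2⟩, hBT ⟨y, rfl⟩⟩ : T) = (γ₁ : MulAut T) ⟨ε₁ y, hε₁T y⟩ :=
      Subtype.ext (hφγ y)
    rw [h1, MulAut.inv_apply_self]
  obtain ⟨χ', hχ', hχ'eq⟩ := hinv.exists' hBT hε₂B (inv_mem γ₁.2) ε₁.range (by
      intro y
      constructor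
      · rintro ⟨x, rfl⟩
        exact ⟨⟨φ ⟨x, hR₁P x.2⟩, ⟨x, rfl⟩⟩, congrArg Subtype.val (hαinv x)⟩
      · rintro ⟨⟨_, x, rfl⟩, rfl⟩
        exact ⟨x, (congrArg Subtype.val (hαinv x)).symm⟩)
  have hcomp := E.comp_mem hε₁ hχ' (fun x => ⟨x, rfl⟩)
  refine ⟨γ₂ * γ₁, by rw [map_mul, hγ₁, hγ₂], R₁, hR₁, _, hcomp, ?_⟩
  intro x y t hy ht
  have hxy : x = ⟨y, hR₁P y.2⟩ := Subtype.ext hy.symm
  subst hxy
  have hB : φ ⟨y, hR₁P y.2⟩ ∈ (φ.comp (Subgroup.inclusion hR₁P)).range := ⟨y, rfl⟩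
  have h1 := hχ'eq ⟨φ ⟨y, hR₁P y.2⟩, hB⟩ ⟨ε₁ y, ⟨y, rfl⟩⟩
    ⟨ε₂ ⟨φ ⟨y, hR₁P y.2⟩, hBR₂ hB⟩, hε₂T _⟩ (congrArg Subtype.val (hαinv y)).symm rfl
  have h2 : t = (γ₁ : MulAut T)⁻¹ ⟨ε₂ ⟨φ ⟨y, hR₁P y.2⟩, hBR₂ hB⟩, hε₂T _⟩ :=
    Subtype.ext (ht.trans h1)
  rw [h2]
  simp only [MonoidHom.comp_apply, Subgroup.coe_mul, MulAut.mul_apply, MulAut.apply_inv_self]
  exact heq₂ ⟨φ ⟨y, hR₁P y.2⟩, h _⟩ ⟨φ ⟨y, hR₁P y.2⟩, hBR₂ hB⟩ _ rfl rfl

theorem th_pow {F : FusionSystem S} {E : FusionSystem T} (hinv : AutInvariant E F)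
    {Δ : Type*} [Group Δ] {χ : ↥(F.autGroup T) →* Δ} {P : Subgroup Ω} (a : MulAut P) {d : Δ}
    (h : Th F E χ (P.subtype.comp a.toMonoidHom) d) (k : ℕ) :
    Th F E χ (P.subtype.comp (a ^ k).toMonoidHom) (d ^ k) := by
  induction k with
  | zero =>
    rw [pow_zero, pow_zero]
    exact th_subtype F E χ P
  | succ k ih =>
    have hc : ∀ x : P, (P.subtype.comp (a ^ k).toMonoidHom) x ∈ P := fun x => ((a ^ k) x).2
    have h1 := th_comp hinv hc ih h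
    have h2 : (P.subtype.comp a.toMonoidHom).comp
        ((P.subtype.comp (a ^ k).toMonoidHom).codRestrict P hc) =
        P.subtype.comp (a ^ (k + 1)).toMonoidHom := by
      ext x
      rw [pow_succ']
      rfl
    rw [h2, ← pow_succ'] at h1
    exact h1

/-- Uniqueness of the value, given that the inclusion only has the value `1`. -/
theorem th_unique_aux {F : FusionSystem S} {E : FusionSystem T} (hinv : E.IsInvariantIn F)
    {Δ : Type*} [Group Δ] {χ : ↥(F.autGroup T) →* Δ} {P : Subgroup Ω}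
    (hP1 : ∀ δ : Δ, Th F E χ P.subtype δ → δ = 1) {φ : P →* Ω} (hφ : φ ∈ F.Hom P) {d₁ d₂ : Δ}
    (h₁ : Th F E χ φ d₁) (h₂ : Th F E χ φ d₂) : d₁ = d₂ := by
  obtain ⟨ψ, hψ, hψx⟩ := F.inv_mem hφ
  obtain ⟨d', hd'⟩ := th_exists hinv χ hψ
  have hc : ∀ x : P, φ x ∈ φ.range := fun x => ⟨x, rfl⟩
  have c₁ := th_comp hinv.2.2.1 hc h₁ hd'
  have c₂ := th_comp hinv.2.2.1 hc h₂ hd'
  have hs : ψ.comp (φ.codRestrict φ.range hc) = P.subtype := by
    ext x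
    exact hψx x
  rw [hs] at c₁ c₂
  have e₁ := hP1 _ c₁
  have e₂ := hP1 _ c₂
  exact mul_left_cancel (e₁.trans e₂.symm)

theorem eq_one_of_pow_prime_pow {Δ : Type*} [Group Δ] [Finite Δ] {p : ℕ}
    (hΔ : (Nat.card Δ).Coprime p) {d : Δ} {k : ℕ} (h : d ^ p ^ k = 1) : d = 1 := by
  have h1 : orderOf d ∣ p ^ k := orderOf_dvd_of_pow_eq_one h
  have h2 : orderOf d ∣ Nat.card Δ := orderOf_dvd_natCard d
  have h3 : (Nat.card Δ).Coprime (p ^ k) := Nat.Coprime.pow_right k hΔ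
  have h4 := Nat.dvd_gcd h2 h1
  rw [h3.gcd_eq_one] at h4
  exact orderOf_eq_one_iff.mp (Nat.dvd_one.mp h4)

/-- `R ≤ T` and every `F`-conjugate of `R` contains its centralizer in `T`. -/
def TCen (F : FusionSystem S) (T R : Subgroup Ω) : Prop :=
  R ≤ T ∧ ∀ R' : Subgroup Ω, F.IsConj R R' → centralizerIn T R' ≤ R'

theorem TCen.of_isConj {F : FusionSystem S} (hT : F.StronglyClosed T) {R R' : Subgroup Ω}
    (h : TCen F T R) (hc : F.IsConj R R') : TCen F T R' :=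
  ⟨stronglyClosed_isConj_le F hT h.1 hc, fun R'' hc' => h.2 R'' (isConj_trans F hc hc')⟩

theorem TCen.of_le {F : FusionSystem S} {R N : Subgroup Ω} (h : TCen F T R) (hRN : R ≤ N)
    (hNT : N ≤ T) : TCen F T N := by
  refine ⟨hNT, ?_⟩
  rintro N' ⟨φ, hφ, rfl⟩
  have hconj : F.IsConj R (Cfsg.Agent.Lib.helper87.imgOf φ R) :=
    Cfsg.Agent.Lib.helper87.isConj_imgOf F hφ hRN
  have h1 := h.2 _ hconj
  intro c hc
  have hc' : c ∈ centralizerIn T (Cfsg.Agent.Lib.helper87.imgOf φ R) :=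
    ⟨hc.1, Subgroup.centralizer_le (Cfsg.Agent.Lib.helper87.imgOf_le_range φ R) hc.2⟩
  exact Cfsg.Agent.Lib.helper87.imgOf_le_range φ R (h1 hc')

/-- **Well-definedness.** If `R ≤ T` contains its centralizer in `T`, as do its conjugates, then
the inclusion of `R` only has the value `1`. -/
theorem th_wd [Finite S] {p : ℕ} [Fact p.Prime] (hS : IsPGroup p S) {F : FusionSystem S}
    {E : FusionSystem T} (hEsat : E.IsSaturated p) (hinv : E.IsInvariantIn F)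
    {Δ : Type*} [Group Δ] [Finite Δ] (hΔ : (Nat.card Δ).Coprime p) (χ : ↥(F.autGroup T) →* Δ)
    (hker : (E.autGroup T).subgroupOf (F.autGroup T) ≤ χ.ker) :
    ∀ (n : ℕ) (R : Subgroup Ω), Nat.card T - Nat.card R = n → TCen F T R →
      ∀ δ : Δ, Th F E χ R.subtype δ → δ = 1 := by
  classical
  intro n
  induction n using Nat.strong_induction_on with
  | _ n ih =>
  intro R hn hR δ hδ
  have hsub : E.IsSubsystemOf F := hinv.1
  have hT : F.StronglyClosed T := hinv.2.1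
  have hTS : T ≤ S := hT.1
  have hainv : AutInvariant E F := hinv.2.2.1
  haveI : Finite T := finite_of_le hTS
  have hTp : IsPGroup p T := hS.to_le hTS
  obtain ⟨γ, hγ, R', hR', ε, hε, heq⟩ := hδ
  have hRR' : R' = R := by
    ext y
    rw [hR']
    exact ⟨fun h => h.1, fun h => ⟨h, hR.1 h⟩⟩
  subst hRR'
  have hεT : ∀ y : R', ε y ∈ T := fun y => (E.le_of_mem hε).2 y
  have hγε : ∀ y : R', (((γ : MulAut T) ⟨ε y, hεT y⟩ : T) : Ω) = y :=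
    fun y => (heq y y ⟨ε y, hεT y⟩ rfl rfl).symm
  by_cases hRT : R' = T
  · subst hRT
    have h1 : R'.subtype.comp ((γ : MulAut R')⁻¹).toMonoidHom = ε := by
      ext t
      have h2 : (γ : MulAut R') ⟨ε t, hεT t⟩ = t := Subtype.ext (hγε t)
      have h3 : (γ : MulAut R')⁻¹ t = ⟨ε t, hεT t⟩ := by
        rw [← h2, MulAut.inv_apply_self, h2]
      show (((γ : MulAut R')⁻¹ t : R') : Ω) = ε t
      rw [h3]
    have h4 : (γ : MulAut R')⁻¹ ∈ E.autGroup R' := by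
      rw [mem_autGroup_iff' E le_rfl, h1]
      exact hε
    have h5 : γ⁻¹ ∈ (E.autGroup R').subgroupOf (F.autGroup R') := Subgroup.mem_subgroupOf.mpr h4
    have h6 : χ γ⁻¹ = 1 := hker h5
    rw [map_inv, inv_eq_one] at h6
    rw [← hγ, h6]
  · have hRlt : R' < T := lt_of_le_of_ne hR.1 hRT
    have hθF : (γ : MulAut T)⁻¹ ∈ F.autGroup T := inv_mem γ.2
    have hθε : ∀ y : R', (γ : MulAut T)⁻¹ ⟨y, hR.1 y.2⟩ = ⟨ε y, hεT y⟩ := by
      intro y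
      have h1 : (⟨(y : Ω), hR.1 y.2⟩ : T) = (γ : MulAut T) ⟨ε y, hεT y⟩ := Subtype.ext (hγε y).symm
      rw [h1, MulAut.inv_apply_self]
    have hR₂T : ε.range ≤ T := by
      rintro _ ⟨y, rfl⟩
      exact hεT y
    haveI : Finite ε.range := finite_of_le (hR₂T.trans hTS)
    have hconjE : E.IsConj R' ε.range := ⟨ε, hε, rfl⟩
    obtain ⟨Rs, hRsconj, hRsfn⟩ := exists_fullyNormalized_conj E hR₂T
    obtain ⟨ξ, hξ, hξR⟩ := exists_map_normalizer_of_fullyNormalized hTp E hEsat hRsfn hRsconj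
    obtain ⟨hfa, hrec⟩ := fullyAutomized_receptive_of_fullyNormalized hTp E hEsat hRsfn
    have hεN : ∀ y : R', ε y ∈ normalizerIn T ε.range := fun y => le_normalizerIn hR₂T ⟨y, rfl⟩
    have hμ := E.comp_mem hε hξ hεN
    have hμr : (ξ.comp (ε.codRestrict _ hεN)).range = Rs := by
      rw [← hξR]
      ext z
      constructor
      · rintro ⟨y, rfl⟩
        exact ⟨⟨ε y, hεN y⟩, Subgroup.mem_subgroupOf.mpr ⟨y, rfl⟩, rfl⟩
      · rintro ⟨w, hw, rfl⟩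
        obtain ⟨y, hy⟩ := Subgroup.mem_subgroupOf.mp hw
        refine ⟨y, ?_⟩
        show ξ ⟨ε y, _⟩ = ξ w
        congr 1
        exact Subtype.ext hy
    obtain ⟨μ, hμx, hμ, hμr⟩ : ∃ μ : R' →* Ω, (∀ y, μ y = ξ ⟨ε y, hεN y⟩) ∧ μ ∈ E.Hom R' ∧
        μ.range = Rs := ⟨_, fun _ => rfl, hμ, hμr⟩
    obtain ⟨μb, hμb, hμbx⟩ := hrec.2 R' _ hμ hμr
    -- the action of `θ = γ⁻¹` on `N_T(R')`
    have hθnorm : ∀ g : Ω, ∀ hg : g ∈ normalizerIn T R',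
        (((γ : MulAut T)⁻¹ ⟨g, hg.1⟩ : T) : Ω) ∈ normalizerIn T ε.range := by
      intro g hg
      refine ⟨((γ : MulAut T)⁻¹ ⟨g, hg.1⟩).2, mem_normalizer_of_conj_mem ?_⟩
      rintro _ ⟨y, rfl⟩
      have hy : g * (y : Ω) * g⁻¹ ∈ R' := (Subgroup.mem_normalizer_iff.mp hg.2 y).mp y.2
      refine ⟨⟨g * y * g⁻¹, hy⟩, ?_⟩
      have h1 := congrArg Subtype.val (hθε ⟨g * y * g⁻¹, hy⟩)
      have h2 := congrArg Subtype.val (hθε y)
      simp only at h1 h2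
      rw [← h1, ← h2]
      have h3 : (⟨g * (y : Ω) * g⁻¹, hR.1 hy⟩ : T) = ⟨g, hg.1⟩ * ⟨y, hR.1 y.2⟩ * ⟨g, hg.1⟩⁻¹ := rfl
      rw [h3, map_mul, map_mul, map_inv]
      rfl
    have hNle : normalizerIn T R' ≤ extender T R' μ := by
      intro g hg
      rw [mem_extender_iff]
      refine ⟨hg.1, hg.2, ξ ⟨_, hθnorm g hg⟩, (E.le_of_mem hξ).2 _, ?_⟩
      intro x hx
      have h1 := congrArg Subtype.val (hθε ⟨g * x * g⁻¹, hx⟩)
      have h2 := congrArg Subtype.val (hθε x)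
      simp only at h1 h2
      have h3 : (⟨g * (x : Ω) * g⁻¹, hR.1 hx⟩ : T) = ⟨g, hg.1⟩ * ⟨x, hR.1 x.2⟩ * ⟨g, hg.1⟩⁻¹ := rfl
      have h4 : (⟨ε ⟨g * x * g⁻¹, hx⟩, hεN _⟩ : normalizerIn T ε.range) =
          ⟨_, hθnorm g hg⟩ * ⟨ε x, hεN x⟩ * ⟨_, hθnorm g hg⟩⁻¹ := by
        apply Subtype.ext
        show ε ⟨g * x * g⁻¹, hx⟩ = _ * ε x * _⁻¹
        rw [← h1, ← h2, h3, map_mul, map_mul, map_inv]
        rfl
      rw [hμx, hμx, h4, map_mul, map_mul, map_inv]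
    have hN_T : normalizerIn T R' ≤ T := inf_le_left
    have hRN : R' ≤ normalizerIn T R' := le_normalizerIn hR.1
    have hθhom : T.subtype.comp ((γ : MulAut T)⁻¹).toMonoidHom ∈ F.Hom T :=
      (mem_autGroup_iff' F hTS _).mp hθF
    have hθN := restrict_mem F hN_T hθhom
    have hθNnorm : ∀ g : ↥(normalizerIn T R'),
        ((T.subtype.comp ((γ : MulAut T)⁻¹).toMonoidHom).comp (Subgroup.inclusion hN_T)) g ∈
          normalizerIn T ε.range := fun g => hθnorm g g.2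
    have hν := F.comp_mem hθN (hsub _ hξ) hθNnorm
    have hThθ : Th F E χ ((T.subtype.comp ((γ : MulAut T)⁻¹).toMonoidHom).comp
        (Subgroup.inclusion hN_T)) (χ γ⁻¹) := by
      refine ⟨γ⁻¹, rfl, normalizerIn T R', fun y => ⟨fun hy => ⟨hy, hN_T hy⟩, fun hy => hy.1⟩,
        (normalizerIn T R').subtype, subtype_mem E hN_T, ?_⟩
      intro x y t hy ht
      have : t = ⟨x, hN_T x.2⟩ := Subtype.ext (ht.trans hy)
      rw [this]
      rfl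
    have hThν := th_comp hainv hθNnorm hThθ (th_of_mem χ hξ)
    obtain ⟨μ', hμ', hμ'x⟩ : ∃ μ' ∈ E.Hom (normalizerIn T R'),
        ∀ g : ↥(normalizerIn T R'), μ' g = μb ⟨g, hNle g.2⟩ :=
      ⟨_, restrict_mem E hNle hμb, fun g => rfl⟩
    have hμ'R : ∀ x : R', μ' ⟨x, hRN x.2⟩ = μ x := fun x => by
      rw [hμ'x]
      exact hμbx x x.2 _
    obtain ⟨ν, hν, hThν, hνx⟩ : ∃ ν ∈ F.Hom (normalizerIn T R'), Th F E χ ν (1 * χ γ⁻¹) ∧
        ∀ g : ↥(normalizerIn T R'), ν g = ξ ⟨_, hθnorm g g.2⟩ := ⟨_, hν, hThν, fun g => rfl⟩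
    have hνR : ∀ x : R', ν ⟨x, hRN x.2⟩ = μ x := by
      intro x
      rw [hνx, hμx]
      congr 1
      apply Subtype.ext
      show (((γ : MulAut T)⁻¹ ⟨x, hR.1 x.2⟩ : T) : Ω) = ε x
      rw [hθε x]
    have hRsC : centralizerIn T Rs ≤ Rs := hR.2 Rs ⟨μ, hsub _ hμ, hμr⟩
    have hμ'T : ∀ g : ↥(normalizerIn T R'), μ' g ∈ T := fun g => (E.le_of_mem hμ').2 g
    have hνT : ∀ g : ↥(normalizerIn T R'), ν g ∈ T := fun g => hT.2 _ hN_T ν hν g
    have hkey : ∀ g : ↥(normalizerIn T R'), ∃ r : R', ν g = μ' (g * ⟨r, hRN r.2⟩) := by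
      intro g
      have hz : (μ' g)⁻¹ * ν g ∈ centralizerIn T Rs := by
        refine ⟨T.mul_mem (T.inv_mem (hμ'T g)) (hνT g), Subgroup.mem_centralizer_iff.mpr ?_⟩
        intro w hw
        rw [← hμr] at hw
        obtain ⟨x, rfl⟩ := hw
        have hgx : (g : Ω) * x * (g : Ω)⁻¹ ∈ R' := (Subgroup.mem_normalizer_iff.mp g.2.2 x).mp x.2
        have e1 : μ' g * μ x * (μ' g)⁻¹ = μ ⟨_, hgx⟩ := by
          rw [← hμ'R x, ← hμ'R ⟨_, hgx⟩, ← map_inv, ← map_mul, ← map_mul]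
          rfl
        have e2 : ν g * μ x * (ν g)⁻¹ = μ ⟨_, hgx⟩ := by
          rw [← hνR x, ← hνR ⟨_, hgx⟩, ← map_inv, ← map_mul, ← map_mul]
          rfl
        have e3 : μ' g * μ x * (μ' g)⁻¹ = ν g * μ x * (ν g)⁻¹ := e1.trans e2.symm
        calc μ x * ((μ' g)⁻¹ * ν g) = (μ' g)⁻¹ * (μ' g * μ x * (μ' g)⁻¹) * ν g := by group
          _ = (μ' g)⁻¹ * (ν g * μ x * (ν g)⁻¹) * ν g := by rw [e3]
          _ = (μ' g)⁻¹ * ν g * μ x := by group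
      have hz' := hRsC hz
      rw [← hμr] at hz'
      obtain ⟨r, hr⟩ := hz'
      refine ⟨r, ?_⟩
      rw [map_mul, hμ'R r, hr]
      group
    obtain ⟨τ, hτ, hτx⟩ := Cfsg.Agent.Lib.helper87.exists_inv_comp F (hsub _ hμ') hν
      (rfl : μ'.range = μ'.range)
    have hNsS : μ'.range ≤ S := Cfsg.Agent.Lib.helper87.range_le_S F (hsub _ hμ')
    have hNsT : μ'.range ≤ T := by
      rintro _ ⟨g, rfl⟩
      exact hμ'T g
    haveI : Finite μ'.range := finite_of_le hNsS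
    have hτr : ∀ h : μ'.range, τ h ∈ μ'.range := by
      intro h
      obtain ⟨g, hg⟩ := MonoidHom.mem_range.mp h.2
      have hh : h = ⟨μ' g, MonoidHom.mem_range.mpr ⟨g, rfl⟩⟩ := Subtype.ext hg.symm
      rw [hh, hτx]
      obtain ⟨r, hr⟩ := hkey g
      exact MonoidHom.mem_range.mpr ⟨_, hr.symm⟩
    obtain ⟨η, hη⟩ := Cfsg.Agent.Lib.helper89.exists_aut_of_mem F hτ hτr
    have hηF : μ'.range.subtype.comp η.toMonoidHom = τ := by
      ext h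
      exact hη h
    have hfix : ∀ h : μ'.range, ∃ w : μ'.range, η w = w ∧ η h = h * w := by
      intro h
      obtain ⟨g, hg⟩ := MonoidHom.mem_range.mp h.2
      have hh : h = ⟨μ' g, MonoidHom.mem_range.mpr ⟨g, rfl⟩⟩ := Subtype.ext hg.symm
      obtain ⟨r, hr⟩ := hkey g
      refine ⟨⟨μ' ⟨r, hRN r.2⟩, MonoidHom.mem_range.mpr ⟨_, rfl⟩⟩, ?_, ?_⟩
      · apply Subtype.ext
        rw [hη, hτx, hνR]
        exact (hμ'R r).symm
      · apply Subtype.ext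
        rw [hη, hh, hτx, hr, map_mul]
        rfl
    have hpow : ∀ (k : ℕ) (h w : μ'.range), η w = w → η h = h * w → (η ^ k) h = h * w ^ k := by
      intro k h w hw hh
      induction k with
      | zero => simp
      | succ k ihk =>
        rw [pow_succ', MulAut.mul_apply, ihk, map_mul, map_pow, hw, hh, mul_assoc, ← pow_succ']
    have hηcard : η ^ Nat.card T = 1 := by
      apply MulEquiv.ext
      intro h
      obtain ⟨w, hw, hh⟩ := hfix h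
      rw [hpow _ h w hw hh]
      have h1 : w ^ Nat.card T = 1 := by
        obtain ⟨m, hm⟩ := Subgroup.card_dvd_of_le hNsT
        rw [hm, pow_mul, pow_card_eq_one', one_pow]
      rw [h1, mul_one]
      rfl
    have hηhom : μ'.range.subtype.comp η.toMonoidHom ∈ F.Hom μ'.range := by
      rw [hηF]
      exact hτ
    obtain ⟨d, hd⟩ := th_exists hinv χ hηhom
    have hdp := th_pow hainv η hd (Nat.card T)
    rw [hηcard] at hdp
    have hsub1 : μ'.range.subtype.comp (1 : MulAut μ'.range).toMonoidHom = μ'.range.subtype := by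
      ext
      rfl
    rw [hsub1] at hdp
    have hcardN : Nat.card μ'.range = Nat.card ↥(normalizerIn T R') :=
      Cfsg.Agent.Lib.helper87.card_range (E.injective_of_mem hμ')
    have hTCN : TCen F T (normalizerIn T R') := hR.of_le hRN hN_T
    have hTCNs : TCen F T μ'.range := hTCN.of_isConj hT ⟨μ', hsub _ hμ', rfl⟩
    have hRltN : Nat.card R' < Nat.card ↥(normalizerIn T R') :=
      Cfsg.Agent.Lib.helper89.card_lt_of_lt (Cfsg.Agent.Lib.helper89.lt_normalizerIn hTp hRlt) hN_T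
    have hcardle : Nat.card ↥(normalizerIn T R') ≤ Nat.card T := Subgroup.card_le_of_le hN_T
    have hlt1 : Nat.card T - Nat.card μ'.range < n := by omega
    have hd1 : d ^ Nat.card T = 1 := ih _ hlt1 μ'.range rfl hTCNs _ hdp
    obtain ⟨m, hm⟩ := IsPGroup.iff_card.mp hTp
    rw [hm] at hd1
    have hd' : d = 1 := eq_one_of_pow_prime_pow hΔ hd1
    have hc : ∀ g : ↥(normalizerIn T R'), μ' g ∈ μ'.range := fun g => ⟨g, rfl⟩
    have hThν2 := th_comp hainv hc (th_of_mem χ hμ') hd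
    have hνeq : (μ'.range.subtype.comp η.toMonoidHom).comp (μ'.codRestrict μ'.range hc) = ν := by
      ext g
      show ((η ⟨μ' g, _⟩ : μ'.range) : Ω) = ν g
      rw [hη, hτx]
    rw [hνeq, hd'] at hThν2
    have hlt2 : Nat.card T - Nat.card ↥(normalizerIn T R') < n := by omega
    have hN1 : ∀ δ' : Δ, Th F E χ (normalizerIn T R').subtype δ' → δ' = 1 :=
      fun δ' h => ih _ hlt2 _ rfl hTCN δ' h
    have hfin := th_unique_aux hinv hN1 hν hThν hThν2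
    rw [one_mul, one_mul, map_inv, inv_eq_one] at hfin
    rw [← hγ, hfin]

end Cfsg.Agent.Lib.helper88
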