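import Cfsg.Agent.Lib.helper88.PQ1
import Cfsg.Agent.Lib.helper89.FusionSat

/-!
The family of subgroups `P ≤ S` for which `P ∩ T` contains its centralizer in `T` (together with its
conjugates), uniqueness of the `Δ`-value on this family, the value of conjugations and of
automorphisms of `S`, and surjectivity of the value on `Aut_F(S)`.
-/

set_option autoImplicit false

namespace Cfsg.Agent.Lib.helper88

open Cfsg Cfsg.FusionSystem

variable {Ω : Type*} [Group Ω] {S T : Subgroup Ω}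

/-- The standing hypotheses. -/
structure PQData (p : ℕ) (F : FusionSystem S) (E : FusionSystem T) {Δ : Type*} [Group Δ]
    (χ : ↥(F.autGroup T) →* Δ) : Prop where
  hS : IsPGroup p S
  hF : F.IsSaturated p
  hEsat : E.IsSaturated p
  hinv : E.IsInvariantIn F
  hΔ : (Nat.card Δ).Coprime p
  hker : (E.autGroup T).subgroupOf (F.autGroup T) ≤ χ.ker

/-- `P ≤ S` and `P ∩ T` contains its centralizer in `T`, as do the conjugates of `P ∩ T`. -/
def InC (F : FusionSystem S) (T P : Subgroup Ω) : Prop := P ≤ S ∧ TCen F T (P ⊓ T)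

theorem mem_of_map_mem (F : FusionSystem S) (hT : F.StronglyClosed T) {P : Subgroup Ω}
    {φ : P →* Ω} (hφ : φ ∈ F.Hom P) (x : P) (h : φ x ∈ T) : (x : Ω) ∈ T := by
  obtain ⟨ψ, hψ, hψx⟩ := F.inv_mem hφ
  have hle : φ.range ⊓ T ≤ φ.range := inf_le_left
  have h1 := hT.2 (φ.range ⊓ T) inf_le_right _ (restrict_mem F hle hψ) ⟨φ x, ⟨⟨x, rfl⟩, h⟩⟩
  have h2 : (ψ.comp (Subgroup.inclusion hle)) ⟨φ x, ⟨⟨x, rfl⟩, h⟩⟩ = x := hψx x
  rw [h2] at h1
  exact h1

theorem isConj_inf (F : FusionSystem S) (hT : F.StronglyClosed T) {P : Subgroup Ω} {φ : P →* Ω}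
    (hφ : φ ∈ F.Hom P) : F.IsConj (P ⊓ T) (φ.range ⊓ T) := by
  refine ⟨φ.comp (Subgroup.inclusion inf_le_left), restrict_mem F inf_le_left hφ, ?_⟩
  ext y
  constructor
  · rintro ⟨x, rfl⟩
    refine ⟨⟨_, rfl⟩, ?_⟩
    exact hT.2 (P ⊓ T) inf_le_right _ (restrict_mem F inf_le_left hφ) x
  · rintro ⟨⟨x, rfl⟩, hy⟩
    exact ⟨⟨x, ⟨x.2, mem_of_map_mem F hT hφ x hy⟩⟩, rfl⟩

theorem InC.of_isConj {F : FusionSystem S} (hT : F.StronglyClosed T) {P Q : Subgroup Ω}
    (h : InC F T P) (hc : F.IsConj P Q) : InC F T Q := by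
  obtain ⟨φ, hφ, rfl⟩ := hc
  exact ⟨Cfsg.Agent.Lib.helper87.range_le_S F hφ, h.2.of_isConj hT (isConj_inf F hT hφ)⟩

theorem InC.of_le {F : FusionSystem S} {P Q : Subgroup Ω} (h : InC F T P) (hPQ : P ≤ Q)
    (hQ : Q ≤ S) : InC F T Q :=
  ⟨hQ, h.2.of_le (inf_le_inf_right T hPQ) inf_le_right⟩

theorem tCen_self [Finite S] (F : FusionSystem S) (hT : F.StronglyClosed T) : TCen F T T := by
  refine ⟨le_rfl, fun R' hc => ?_⟩
  have hle : R' ≤ T := stronglyClosed_isConj_le F hT le_rfl hc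
  haveI : Finite T := finite_of_le hT.1
  have : R' = T := Subgroup.eq_of_le_of_card_ge hle (isConj_card F hc).le
  rw [this]
  exact inf_le_left

theorem inC_top [Finite S] (F : FusionSystem S) (hT : F.StronglyClosed T) : InC F T S := by
  refine ⟨le_rfl, ?_⟩
  rw [inf_eq_right.mpr hT.1]
  exact tCen_self F hT

theorem inC_self [Finite S] (F : FusionSystem S) (hT : F.StronglyClosed T) : InC F T T := by
  refine ⟨hT.1, ?_⟩
  rw [inf_idem]
  exact tCen_self F hT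

section

variable [Finite S] {p : ℕ} [Fact p.Prime] {F : FusionSystem S} {E : FusionSystem T}
  {Δ : Type*} [Group Δ] [Finite Δ] {χ : ↥(F.autGroup T) →* Δ}

/-- Uniqueness of the value on the family. -/
theorem th_unique (D : PQData p F E χ) {P : Subgroup Ω} (hP : InC F T P) {φ : P →* Ω}
    (hφ : φ ∈ F.Hom P) {d₁ d₂ : Δ} (h₁ : Th F E χ φ d₁) (h₂ : Th F E χ φ d₂) : d₁ = d₂ := by
  refine th_unique_aux D.hinv ?_ hφ h₁ h₂
  intro δ hδ
  have h := th_restrict (inf_le_left : P ⊓ T ≤ P) hδ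
  have he : P.subtype.comp (Subgroup.inclusion (inf_le_left : P ⊓ T ≤ P)) = (P ⊓ T).subtype := by
    ext x
    rfl
  rw [he] at h
  exact th_wd D.hS D.hEsat D.hinv D.hΔ χ D.hker _ (P ⊓ T) rfl hP.2 δ h

theorem chi_eq_one_of_mem_autInducedBy (D : PQData p F E χ) (a : ↥(F.autGroup T))
    (ha : (a : MulAut T) ∈ autInducedBy S T) : χ a = 1 := by
  obtain ⟨k, hk⟩ := (isPGroup_autInducedBy D.hS T) ⟨a, ha⟩
  have h1 : (a : MulAut T) ^ p ^ k = 1 := congrArg Subtype.val hk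
  have h2 : a ^ p ^ k = 1 := Subtype.ext h1
  have h3 : χ a ^ p ^ k = 1 := by rw [← map_pow, h2, map_one]
  exact eq_one_of_pow_prime_pow D.hΔ h3

theorem mem_normalizer_of_stronglyClosed (F : FusionSystem S) (hT : F.StronglyClosed T) {s : Ω}
    (hs : s ∈ S) : s ∈ Subgroup.normalizer (T : Set Ω) := by
  haveI : Finite T := finite_of_le hT.1
  exact mem_normalizer_of_conj_mem
    (fun x hx => hT.2 T le_rfl (conjHom T s) (F.conj_mem hT.1 hs) ⟨x, hx⟩)

/-- Conjugations by elements of `S` have the value `1`. -/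
theorem th_conj (D : PQData p F E χ) (P : Subgroup Ω) {s : Ω} (hs : s ∈ S) :
    Th F E χ (conjHom P s) 1 := by
  have hT := D.hinv.2.1
  have hsN : s ∈ Subgroup.normalizer (T : Set Ω) := mem_normalizer_of_stronglyClosed F hT hs
  have hmem : conjAut T s hsN ∈ autInducedBy S T := conjAut_mem S T s hsN hs
  have hF : conjAut T s hsN ∈ F.autGroup T := autInducedBy_le_autGroup F hT.1 hmem
  refine ⟨⟨_, hF⟩, chi_eq_one_of_mem_autInducedBy D ⟨_, hF⟩ hmem, P ⊓ T,
    fun y => Subgroup.mem_inf, (P ⊓ T).subtype, subtype_mem E inf_le_right, ?_⟩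
  intro x y t hy ht
  have h1 : (t : Ω) = x := ht.trans hy
  show s * (x : Ω) * s⁻¹ = s * (t : Ω) * s⁻¹
  rw [h1]

/-- The restriction to `T` of an `F`-automorphism of `S`. -/
theorem exists_restrict_aut (F : FusionSystem S) (hT : F.StronglyClosed T) {α : MulAut S}
    (hα : α ∈ F.autGroup S) :
    ∃ β : ↥(F.autGroup T), ∀ t : T, (((β : MulAut T) t : T) : Ω) = α ⟨t, hT.1 t.2⟩ := by
  have hαF := (mem_autGroup_iff' F le_rfl α).mp hα
  have hres := restrict_mem F hT.1 hαF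
  have hmem : ∀ t : T, ((S.subtype.comp α.toMonoidHom).comp (Subgroup.inclusion hT.1)) t ∈ T :=
    fun t => hT.2 T le_rfl _ hres t
  obtain ⟨β, hβ⟩ := Cfsg.Agent.Lib.helper89.exists_aut_of_mem F hres hmem
  refine ⟨⟨β, ?_⟩, fun t => hβ t⟩
  rw [mem_autGroup_iff' F hT.1]
  have h1 : T.subtype.comp β.toMonoidHom =
      (S.subtype.comp α.toMonoidHom).comp (Subgroup.inclusion hT.1) :=
    MonoidHom.ext fun t => hβ t
  rw [h1]
  exact hres

omit [Finite S] [Finite Δ] in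
theorem th_of_restrict_aut (E : FusionSystem T) (χ : ↥(F.autGroup T) →* Δ) (hTS : T ≤ S)
    {α : MulAut S} (β : ↥(F.autGroup T))
    (h : ∀ t : T, (((β : MulAut T) t : T) : Ω) = α ⟨t, hTS t.2⟩) :
    Th F E χ (S.subtype.comp α.toMonoidHom) (χ β) := by
  refine ⟨β, rfl, T, fun y => ⟨fun hy => ⟨hTS hy, hy⟩, fun hy => hy.2⟩, T.subtype,
    subtype_mem E le_rfl, ?_⟩
  intro x y t hy ht
  have h1 : t = y := Subtype.ext ht
  have h2 : x = ⟨y, hTS y.2⟩ := Subtype.ext hy.symm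
  rw [h1, h2, h y]
  rfl

/-- Every value is taken on `Aut_F(S)`. -/
theorem exists_aut_th (D : PQData p F E χ) (hχ : Function.Surjective χ) (δ : Δ) :
    ∃ α ∈ F.autGroup S, Th F E χ (S.subtype.comp α.toMonoidHom) δ := by
  classical
  have hT := D.hinv.2.1
  have hTS := hT.1
  haveI : Finite T := finite_of_le hTS
  obtain ⟨hfa, hrec⟩ := fullyAutomized_receptive_of_fullyNormalized D.hS F D.hF
    (fullyNormalized_of_stronglyClosed F hT)
  obtain ⟨γ, hγ⟩ := hχ δ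
  obtain ⟨K, hKA, hKmem⟩ : ∃ K : Subgroup (MulAut T), K ≤ F.autGroup T ∧
      ∀ a : ↥(F.autGroup T), (a : MulAut T) ∈ K ↔ χ a = 1 := by
    refine ⟨χ.ker.map (F.autGroup T).subtype, ?_, ?_⟩
    · rintro _ ⟨a, -, rfl⟩
      exact a.2
    · intro a
      constructor
      · rintro ⟨b, hb, hba⟩
        have : b = a := Subtype.ext hba
        rw [← this]
        exact hb
      · intro h
        exact ⟨a, h, rfl⟩
  have hKn : ∀ a ∈ F.autGroup T, ∀ k ∈ K, a * k * a⁻¹ ∈ K := by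
    intro a ha k hk
    have hkA := hKA hk
    have h1 : χ ⟨k, hkA⟩ = 1 := (hKmem ⟨k, hkA⟩).mp hk
    have h2 : (a * k * a⁻¹ : MulAut T) =
        ((⟨a, ha⟩ * ⟨k, hkA⟩ * ⟨a, ha⟩⁻¹ : ↥(F.autGroup T)) : MulAut T) := rfl
    rw [h2, hKmem, map_mul, map_mul, map_inv, h1, mul_one, mul_inv_cancel]
  obtain ⟨H, hHK, hH, hHmem⟩ : ∃ H : Subgroup (MulAut T), H ≤ K ∧ IsPGroup p H ∧
      ∀ a ∈ autInducedBy S T, (γ : MulAut T) * a * (γ : MulAut T)⁻¹ ∈ H := by
    refine ⟨(autInducedBy S T).map (MulAut.conj (γ : MulAut T)).toMonoidHom, ?_,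
      (isPGroup_autInducedBy D.hS T).map _, fun a ha => ⟨a, ha, rfl⟩⟩
    rintro _ ⟨a, ha, rfl⟩
    have haA := autInducedBy_le_autGroup F hTS ha
    have h1 : χ ⟨a, haA⟩ = 1 := chi_eq_one_of_mem_autInducedBy D ⟨a, haA⟩ ha
    exact hKn γ γ.2 a ((hKmem ⟨a, haA⟩).mpr h1)
  obtain ⟨k, hk, hkH⟩ :=
    Cfsg.Agent.Lib.helper89.exists_conj_into_autS_of_normal F hfa K hKA hKn H hHK hH
  have hkA := hKA hk
  obtain ⟨n, hn⟩ : ∃ n : ↥(F.autGroup T), n = ⟨k, hkA⟩ * γ := ⟨_, rfl⟩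
  have hnval : (n : MulAut T) = k * (γ : MulAut T) := by
    rw [hn]
    rfl
  have hχn : χ n = δ := by
    rw [hn, map_mul, (hKmem ⟨k, hkA⟩).mp hk, one_mul, hγ]
  have hnorm : ∀ a ∈ autInducedBy S T,
      (n : MulAut T) * a * (n : MulAut T)⁻¹ ∈ autInducedBy S T := by
    intro a ha
    have h1 := hkH _ (hHmem a ha)
    have h2 : (n : MulAut T) * a * (n : MulAut T)⁻¹ =
        k * ((γ : MulAut T) * a * (γ : MulAut T)⁻¹) * k⁻¹ := by
      rw [hnval]
      group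
    rw [h2]
    exact h1
  have hnF : T.subtype.comp (n : MulAut T).toMonoidHom ∈ F.Hom T :=
    (mem_autGroup_iff' F hTS _).mp n.2
  have hrange : (T.subtype.comp (n : MulAut T).toMonoidHom).range = T := by
    ext y
    constructor
    · rintro ⟨x, rfl⟩
      exact ((n : MulAut T) x).2
    · intro hy
      exact ⟨(n : MulAut T)⁻¹ ⟨y, hy⟩, by simp⟩
  obtain ⟨ψ, hψ, hψeq⟩ := Cfsg.Agent.Lib.helper89.exists_extension F hrec hnF hrange S (by
    intro g hg
    have hgN : g ∈ Subgroup.normalizer (T : Set Ω) := mem_normalizer_of_stronglyClosed F hT hg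
    refine ⟨hg, hgN, ?_⟩
    obtain ⟨h, hh, hheq⟩ := (mem_autInducedBy_iff S T _).mp
      (hnorm _ (conjAut_mem S T g hgN hg))
    refine ⟨h, hh, ?_⟩
    intro x hx
    have h1 := hheq ((n : MulAut T) x)
    have h2 : ((n : MulAut T) * conjAut T g hgN * (n : MulAut T)⁻¹) ((n : MulAut T) x) =
        (n : MulAut T) ⟨g * x * g⁻¹, hx⟩ := by
      show (n : MulAut T) (conjAut T g hgN ((n : MulAut T)⁻¹ ((n : MulAut T) x))) = _
      rw [MulAut.inv_apply_self]
      rfl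
    rw [h2] at h1
    exact h1)
  obtain ⟨α, hα⟩ := Cfsg.Agent.Lib.helper89.exists_aut_of_mem F hψ
    (fun x => (F.le_of_mem hψ).2 x)
  have hαF : α ∈ F.autGroup S := by
    rw [mem_autGroup_iff' F le_rfl]
    have h1 : S.subtype.comp α.toMonoidHom = ψ := MonoidHom.ext fun x => hα x
    rw [h1]
    exact hψ
  refine ⟨α, hαF, ?_⟩
  have h := th_of_restrict_aut E χ hTS (α := α) n (fun t => by
    rw [hα]
    exact (hψeq t t.2 (hTS t.2)).symm)
  rw [hχn] at h
  exact h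

end

end Cfsg.Agent.Lib.helper88
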