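import Cfsg.Agent.Lib.helper88.PQ2
import Cfsg.Agent.Lib.helper87.PResidual
import Cfsg.Agent.Lib.helper87.DirectFactor

/-!
The subsystem attached to the kernel of the `Δ`-value: the fusion system generated by the maps of
value `1` whose source lies in the family.  Its maps with source in the family are exactly the maps
of value `1`, it satisfies the Frattini condition on the family, and it is invariant under
`Aut_F(S)`.
-/

set_option autoImplicit false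

namespace Cfsg.Agent.Lib.helper88

open Cfsg Cfsg.FusionSystem
open Cfsg.Agent.Lib.helper87 (imgAut mem_imgAut conjSys ConjRel sInfSys)

variable {Ω : Type*} [Group Ω] {S T : Subgroup Ω}

/-- The family of fusion systems containing the maps of value `1` with source in the family. -/
def pqFamily (F : FusionSystem S) (E : FusionSystem T) {Δ : Type*} [Group Δ]
    (χ : ↥(F.autGroup T) →* Δ) : Set (FusionSystem S) :=
  {E' | ∀ Q : Subgroup Ω, InC F T Q → ∀ ψ ∈ F.Hom Q, Th F E χ ψ 1 → ψ ∈ E'.Hom Q}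

/-- The subsystem generated by the maps of value `1` with source in the family. -/
def pqSys (F : FusionSystem S) (E : FusionSystem T) {Δ : Type*} [Group Δ]
    (χ : ↥(F.autGroup T) →* Δ) : FusionSystem S := sInfSys F (pqFamily F E χ)

theorem pqSys_sub (F : FusionSystem S) (E : FusionSystem T) {Δ : Type*} [Group Δ]
    (χ : ↥(F.autGroup T) →* Δ) : (pqSys F E χ).IsSubsystemOf F := fun _ _ h => h.1

theorem mem_pqSys_of_th {F : FusionSystem S} {E : FusionSystem T} {Δ : Type*} [Group Δ]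
    {χ : ↥(F.autGroup T) →* Δ} {Q : Subgroup Ω} (hQ : InC F T Q) {ψ : Q →* Ω}
    (hψ : ψ ∈ F.Hom Q) (h : Th F E χ ψ 1) : ψ ∈ (pqSys F E χ).Hom Q :=
  ⟨hψ, fun _ hE' => hE' Q hQ ψ hψ h⟩

theorem pqSys_gen {F : FusionSystem S} {E : FusionSystem T} {Δ : Type*} [Group Δ]
    {χ : ↥(F.autGroup T) →* Δ} (E'' : FusionSystem S)
    (h : ∀ P : Subgroup Ω, InC F T P → (pqSys F E χ).Hom P ⊆ E''.Hom P) : pqSys F E χ ≤ E'' := by
  intro P φ hφ
  have hmem : sInfSys (pqSys F E χ) {E''} ∈ pqFamily F E χ := by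
    intro Q hQ ψ hψ hth
    have h1 := mem_pqSys_of_th hQ hψ hth
    refine ⟨h1, fun E' hE' => ?_⟩
    rw [Set.mem_singleton_iff.mp hE']
    exact h Q hQ h1
  exact (hφ.2 _ hmem).2 E'' rfl

section

variable [Finite S] {p : ℕ} [Fact p.Prime] {F : FusionSystem S} {E : FusionSystem T}
  {Δ : Type*} [Group Δ] [Finite Δ] {χ : ↥(F.autGroup T) →* Δ}

/-- The maps of `F` that have the value `1` whenever their source is in the family. -/
def thSys (D : PQData p F E χ) : FusionSystem S where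
  Hom P := {φ | φ ∈ F.Hom P ∧ (InC F T P → Th F E χ φ 1)}
  le_of_mem := fun h => F.le_of_mem h.1
  injective_of_mem := fun h => F.injective_of_mem h.1
  conj_mem := fun hP hg => ⟨F.conj_mem hP hg, fun _ => th_conj D _ hg⟩
  comp_mem := by
    rintro P Q φ ψ ⟨hφ, hφ'⟩ ⟨hψ, hψ'⟩ h
    refine ⟨F.comp_mem hφ hψ h, fun hPC => ?_⟩
    have hT := D.hinv.2.1
    have hle : φ.range ≤ Q := by
      rintro _ ⟨x, rfl⟩
      exact h x
    have hQC : InC F T Q := (hPC.of_isConj hT ⟨φ, hφ, rfl⟩).of_le hle (F.le_of_mem hψ).1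
    have h1 := th_comp D.hinv.2.2.1 h (hφ' hPC) (hψ' hQC)
    rwa [one_mul] at h1
  inv_mem := by
    rintro P φ ⟨hφ, hφ'⟩
    obtain ⟨ψ, hψ, hψx⟩ := F.inv_mem hφ
    refine ⟨ψ, ⟨hψ, fun hC => ?_⟩, hψx⟩
    have hT := D.hinv.2.1
    have hPC : InC F T P := hC.of_isConj hT (isConj_symm F ⟨φ, hφ, rfl⟩)
    obtain ⟨d, hd⟩ := th_exists D.hinv χ hψ
    have hc : ∀ x : P, φ x ∈ φ.range := fun x => ⟨x, rfl⟩
    have h1 := th_comp D.hinv.2.2.1 hc (hφ' hPC) hd
    have hs : ψ.comp (φ.codRestrict φ.range hc) = P.subtype := by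
      ext x
      exact hψx x
    rw [hs] at h1
    have h2 := th_unique D hPC (subtype_mem F hPC.1) h1 (th_subtype F E χ P)
    rw [mul_one] at h2
    rw [← h2]
    exact hd

theorem thSys_mem_pqFamily (D : PQData p F E χ) : thSys D ∈ pqFamily F E χ :=
  fun _ _ _ hψ h => ⟨hψ, fun _ => h⟩

/-- A map of the subsystem with source in the family has the value `1`. -/
theorem th_of_mem_pqSys (D : PQData p F E χ) {Q : Subgroup Ω} (hQ : InC F T Q) {ψ : Q →* Ω}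
    (hψ : ψ ∈ (pqSys F E χ).Hom Q) : Th F E χ ψ 1 :=
  (hψ.2 (thSys D) (thSys_mem_pqFamily D)).2 hQ

/-- The Frattini condition on the family. -/
theorem pq_frattini_inC (D : PQData p F E χ) (hχ : Function.Surjective χ) {P : Subgroup Ω}
    (hP : InC F T P) {φ : P →* Ω} (hφ : φ ∈ F.Hom P) :
    ∃ α ∈ F.autGroup S, ∃ φ₀ ∈ (pqSys F E χ).Hom P,
      ∀ (x : P) (hx : φ₀ x ∈ S), φ x = ((α ⟨φ₀ x, hx⟩ : S) : Ω) := by
  obtain ⟨δ, hδ⟩ := th_exists D.hinv χ hφ
  obtain ⟨α', hα', hα'th⟩ := exists_aut_th D hχ δ⁻¹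
  have hα'F := (mem_autGroup_iff' F le_rfl α').mp hα'
  have hφS : ∀ x : P, φ x ∈ S := (F.le_of_mem hφ).2
  have hcomp := F.comp_mem hφ hα'F hφS
  have hth := th_comp D.hinv.2.2.1 hφS hδ hα'th
  rw [inv_mul_cancel] at hth
  refine ⟨α'⁻¹, inv_mem hα', _, mem_pqSys_of_th hP hcomp hth, ?_⟩
  intro x hx
  have h1 : (⟨((S.subtype.comp α'.toMonoidHom).comp (φ.codRestrict S hφS)) x, hx⟩ : S) =
      α' ⟨φ x, hφS x⟩ := Subtype.ext rfl
  rw [h1, MulAut.inv_apply_self]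

/-- The family of fusion systems is stable under transport by `Aut_F(S)`. -/
theorem pq_conjSys_mem (D : PQData p F E χ) {E' : FusionSystem S} (hE' : E' ∈ pqFamily F E χ)
    {α : MulAut S} (hα : α ∈ F.autGroup S) : conjSys E' α ∈ pqFamily F E χ := by
  intro Q hQ ψ hψ hth
  have hT := D.hinv.2.1
  have hQS : Q ≤ S := hQ.1
  have hψS : ∀ x : Q, ψ x ∈ S := (F.le_of_mem hψ).2
  obtain ⟨χ'', hχ'', hrel⟩ :=
    Cfsg.Agent.Lib.helper87.exists_transport F le_rfl hα hQS hψ hψS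
  refine ⟨hQS, hψS, χ'', ?_, hrel⟩
  have hαF := (mem_autGroup_iff' F le_rfl α).mp hα
  have hκ := restrict_mem F hQS hαF
  have hκr : ∀ x : Q, ((S.subtype.comp α.toMonoidHom).comp (Subgroup.inclusion hQS)) x ∈
      imgAut S Q α := fun x => mem_imgAut.mpr ⟨⟨x, hQS x.2⟩, x.2, rfl⟩
  have hIC : InC F T (imgAut S Q α) := by
    refine hQ.of_isConj hT ⟨_, hκ, ?_⟩
    ext y
    rw [mem_imgAut]
    constructor
    · rintro ⟨x, rfl⟩
      exact ⟨⟨x, hQS x.2⟩, x.2, rfl⟩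
    · rintro ⟨s, hs, rfl⟩
      exact ⟨⟨s, hs⟩, rfl⟩
  obtain ⟨b, hb⟩ := th_exists D.hinv χ hαF
  have hbκ := th_restrict hQS hb
  obtain ⟨d, hd⟩ := th_exists D.hinv χ hχ''
  have h1 := th_comp D.hinv.2.2.1 hκr hbκ hd
  have h2 := th_comp D.hinv.2.2.1 hψS hth hb
  have heq : χ''.comp (((S.subtype.comp α.toMonoidHom).comp
      (Subgroup.inclusion hQS)).codRestrict _ hκr) =
      (S.subtype.comp α.toMonoidHom).comp (ψ.codRestrict S hψS) := by
    ext x
    exact hrel x ⟨_, hκr x⟩ ⟨x, hQS x.2⟩ ⟨ψ x, hψS x⟩ rfl rfl rfl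
  rw [heq] at h1
  have h3 := th_unique D hQ (F.comp_mem hψ hαF hψS) h1 h2
  rw [mul_one] at h3
  have hd1 : d = 1 := mul_right_cancel (h3.trans (one_mul b).symm)
  rw [hd1] at hd
  exact hE' _ hIC χ'' hχ'' hd

/-- The subsystem is invariant under `Aut_F(S)`. -/
theorem pq_autInvariant (D : PQData p F E χ) : AutInvariant (pqSys F E χ) F := by
  intro P hPS φ hφ α hα
  have hφS : ∀ x : P, φ x ∈ S := (F.le_of_mem hφ.1).2
  obtain ⟨χ', hχ', hrel⟩ := Cfsg.Agent.Lib.helper87.exists_transport F le_rfl hα hPS hφ.1 hφS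
  refine ⟨χ', ⟨hχ', fun E' hE' => ?_⟩, ?_⟩
  · obtain ⟨-, -, χ₂, hχ₂, hrel₂⟩ := hφ.2 _ (pq_conjSys_mem D hE' hα)
    have h1 : χ₂ = χ' := by
      refine MonoidHom.ext fun y => ?_
      obtain ⟨s, hs, hsy⟩ := mem_imgAut.mp y.2
      rw [hrel₂ ⟨s, hs⟩ y s ⟨φ ⟨s, hs⟩, hφS _⟩ rfl rfl hsy.symm,
        hrel ⟨s, hs⟩ y s ⟨φ ⟨s, hs⟩, hφS _⟩ rfl rfl hsy.symm]
    rw [← h1]
    exact hχ₂
  · intro x hφx hαx
    exact hrel x ⟨_, hαx⟩ ⟨x, hPS x.2⟩ ⟨φ x, hφx⟩ rfl rfl rfl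

end

end Cfsg.Agent.Lib.helper88
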