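import Cfsg.Agent.Lib.helper88.PQ3
import Cfsg.Agent.Lib.helper86.Essential
import Cfsg.Agent.S5080
import Cfsg.Agent.S5082

/-!
Subgroups outside the family: a subgroup `Q ≤ S` such that `Q ∩ T` does not contain its centralizer
in `T` has a non-inner automorphism induced by `S` in `O_p` of its automizer.  Consequently the
essential subgroups lie in the family, the Frattini condition holds for all subgroups, and the
subsystem has index prime to `p`.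
-/

set_option autoImplicit false

namespace Cfsg.Agent.Lib.helper88

open Cfsg Cfsg.FusionSystem
open Cfsg.Agent.Lib.helper87 (imgOf mem_imgOf apply_mem_imgOf_iff apply_mem_normalizerIn)

variable {Ω : Type*} [Group Ω] {S T : Subgroup Ω}

/-- An element of `T` centralizing `Q ∩ T` and normalizing `Q` but not in `Q`. -/
def BadAt (S T Q : Subgroup Ω) : Prop :=
  ∃ c ∈ T, c ∈ Subgroup.centralizer ((Q ⊓ T : Subgroup Ω) : Set Ω) ∧ c ∈ normalizerIn S Q ∧ c ∉ Q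

theorem badAt_of_not_le [Finite S] {p : ℕ} [Fact p.Prime] (hS : IsPGroup p S) {Q : Subgroup Ω}
    (hTS : T ≤ S) (hTn : ∀ s ∈ S, s ∈ Subgroup.normalizer (T : Set Ω)) (hQS : Q ≤ S)
    (h : ¬ centralizerIn T (Q ⊓ T) ≤ Q ⊓ T) : BadAt S T Q := by
  classical
  obtain ⟨C, hC⟩ : ∃ C : Subgroup Ω, C = centralizerIn T (Q ⊓ T) := ⟨_, rfl⟩
  have hCT : C ≤ T := by
    rw [hC]
    exact inf_le_left
  have hCcen : ∀ c ∈ C, c ∈ Subgroup.centralizer ((Q ⊓ T : Subgroup Ω) : Set Ω) := by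
    intro c hc
    rw [hC] at hc
    exact hc.2
  have hQC : Q ≤ Subgroup.normalizer (C : Set Ω) := by
    intro q hq
    haveI : Finite C := finite_of_le (hCT.trans hTS)
    refine mem_normalizer_of_conj_mem (fun c hc => ?_)
    rw [hC]
    refine ⟨(Subgroup.mem_normalizer_iff.mp (hTn q (hQS hq)) c).mp (hCT hc), ?_⟩
    show q * c * q⁻¹ ∈ Subgroup.centralizer ((Q ⊓ T : Subgroup Ω) : Set Ω)
    rw [Subgroup.mem_centralizer_iff]
    intro y hy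
    have hy0 : y ∈ Q ⊓ T := hy
    have hy' : q⁻¹ * y * q ∈ Q ⊓ T := by
      refine ⟨Q.mul_mem (Q.mul_mem (Q.inv_mem hq) hy0.1) hq, ?_⟩
      have h1 := (Subgroup.mem_normalizer_iff.mp (hTn q⁻¹ (S.inv_mem (hQS hq))) y).mp hy0.2
      simpa using h1
    have hcomm := Subgroup.mem_centralizer_iff.mp (hCcen c hc) _ hy'
    calc y * (q * c * q⁻¹) = q * ((q⁻¹ * y * q) * c) * q⁻¹ := by group
      _ = q * (c * (q⁻¹ * y * q)) * q⁻¹ := by rw [hcomm]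
      _ = q * c * q⁻¹ * y := by group
  obtain ⟨c₀, hc₀C, hc₀Q⟩ : ∃ c₀ ∈ C, c₀ ∉ Q := by
    by_contra hcon
    push Not at hcon
    apply h
    intro c hc
    rw [← hC] at hc
    exact ⟨hcon c hc, hCT hc⟩
  have hlt : Q < Q ⊔ C := by
    refine lt_of_le_of_ne le_sup_left (fun heq => hc₀Q ?_)
    rw [heq]
    exact (le_sup_right : C ≤ Q ⊔ C) hc₀C
  have hMS : Q ⊔ C ≤ S := sup_le hQS (hCT.trans hTS)
  have hlt2 := Cfsg.Agent.Lib.helper87.lt_inf_normalizer hS hlt hMS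
  obtain ⟨g, hg, hgQ⟩ := SetLike.exists_of_lt hlt2
  have hgM : g ∈ ((Q ⊔ C : Subgroup Ω) : Set Ω) := hg.1
  rw [Subgroup.coe_mul_of_left_le_normalizer_right Q C hQC] at hgM
  obtain ⟨q, hq, c, hc, rfl⟩ := Set.mem_mul.mp hgM
  refine ⟨c, hCT hc, hCcen c hc, ⟨hCT.trans hTS hc, ?_⟩, ?_⟩
  · have h1 : c = q⁻¹ * (q * c) := by group
    rw [h1]
    exact Subgroup.mul_mem _ (Subgroup.inv_mem _ (Subgroup.le_normalizer hq)) hg.2
  · intro hcQ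
    exact hgQ (Q.mul_mem hq hcQ)

/-- The automorphisms of `Q` acting trivially on `Q ∩ T` and on `Q/(Q ∩ T)`. -/
def trivAut (Q T : Subgroup Ω) : Subgroup (MulAut Q) where
  carrier := {b | (∀ y : Q, (y : Ω) ∈ T → b y = y) ∧ ∀ x : Q, (x : Ω)⁻¹ * ((b x : Q) : Ω) ∈ T}
  one_mem' := ⟨fun _ _ => rfl, fun x => by
    show (x : Ω)⁻¹ * (x : Ω) ∈ T
    rw [inv_mul_cancel]
    exact T.one_mem⟩
  mul_mem' := by
    rintro b₁ b₂ ⟨h1, h1'⟩ ⟨h2, h2'⟩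
    refine ⟨fun y hy => ?_, fun x => ?_⟩
    · show b₁ (b₂ y) = y
      rw [h2 y hy, h1 y hy]
    · have hr : ((x⁻¹ * b₂ x : Q) : Ω) ∈ T := h2' x
      have h3 : b₁ (x⁻¹ * b₂ x) = x⁻¹ * b₂ x := h1 _ hr
      have h4 : b₁ (b₂ x) = b₁ x * (x⁻¹ * b₂ x) := by
        rw [← h3, ← map_mul]
        congr 1
        group
      show (x : Ω)⁻¹ * ((b₁ (b₂ x) : Q) : Ω) ∈ T
      rw [h4]
      have h5 : (x : Ω)⁻¹ * (((b₁ x * (x⁻¹ * b₂ x) : Q)) : Ω) =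
          ((x : Ω)⁻¹ * ((b₁ x : Q) : Ω)) * ((x : Ω)⁻¹ * ((b₂ x : Q) : Ω)) := by
        simp only [Subgroup.coe_mul, InvMemClass.coe_inv]
        group
      rw [h5]
      exact T.mul_mem (h1' x) (h2' x)
  inv_mem' := by
    rintro b ⟨h1, h1'⟩
    refine ⟨fun y hy => ?_, fun x => ?_⟩
    · show b⁻¹ y = y
      have h2 := h1 y hy
      nth_rewrite 1 [← h2]
      rw [MulAut.inv_apply_self]
    · have h3 := h1' (b⁻¹ x)
      rw [MulAut.apply_inv_self] at h3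
      have h4 : (x : Ω)⁻¹ * ((b⁻¹ x : Q) : Ω) = (((b⁻¹ x : Q) : Ω)⁻¹ * (x : Ω))⁻¹ := by group
      show (x : Ω)⁻¹ * ((b⁻¹ x : Q) : Ω) ∈ T
      rw [h4]
      exact T.inv_mem h3

theorem trivAut_conj (𝒢 : FusionSystem S) (hT : 𝒢.StronglyClosed T) {Q : Subgroup Ω}
    (hQS : Q ≤ S) {a b : MulAut Q} (ha : a ∈ 𝒢.autGroup Q) (hb : b ∈ trivAut Q T) :
    a * b * a⁻¹ ∈ trivAut Q T := by
  have hpres : ∀ a ∈ 𝒢.autGroup Q, ∀ y : Q, (y : Ω) ∈ T → ((a y : Q) : Ω) ∈ T := by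
    intro a ha y hy
    have haF := (mem_autGroup_iff' 𝒢 hQS a).mp ha
    exact hT.2 (Q ⊓ T) inf_le_right _ (restrict_mem 𝒢 inf_le_left haF) ⟨y, ⟨y.2, hy⟩⟩
  obtain ⟨h1, h1'⟩ := hb
  refine ⟨fun y hy => ?_, fun x => ?_⟩
  · show a (b (a⁻¹ y)) = y
    rw [h1 _ (hpres a⁻¹ (inv_mem ha) y hy), MulAut.apply_inv_self]
  · have hr : (((a⁻¹ x)⁻¹ * b (a⁻¹ x) : Q) : Ω) ∈ T := h1' (a⁻¹ x)
    have h2 : a (b (a⁻¹ x)) = x * a ((a⁻¹ x)⁻¹ * b (a⁻¹ x)) := by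
      have h0 : b (a⁻¹ x) = a⁻¹ x * ((a⁻¹ x)⁻¹ * b (a⁻¹ x)) := by group
      conv_lhs => rw [h0]
      rw [map_mul, MulAut.apply_inv_self]
    show (x : Ω)⁻¹ * ((a (b (a⁻¹ x)) : Q) : Ω) ∈ T
    rw [h2]
    have h3 : (x : Ω)⁻¹ * (((x * a ((a⁻¹ x)⁻¹ * b (a⁻¹ x)) : Q)) : Ω) =
        ((a ((a⁻¹ x)⁻¹ * b (a⁻¹ x)) : Q) : Ω) := by
      rw [Subgroup.coe_mul, inv_mul_cancel_left]
    rw [h3]
    exact hpres a ha _ hr

theorem trivAut_pow {Q T : Subgroup Ω} {b : MulAut Q} (hb : b ∈ trivAut Q T) (k : ℕ) (x : Q) :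
    (b ^ k) x = x * (x⁻¹ * b x) ^ k := by
  induction k with
  | zero => simp
  | succ k ih =>
    have hr : ((x⁻¹ * b x : Q) : Ω) ∈ T := hb.2 x
    have h3 : b (x⁻¹ * b x) = x⁻¹ * b x := hb.1 _ hr
    rw [pow_succ', MulAut.mul_apply, ih, map_mul, map_pow, h3, pow_succ', ← mul_assoc x,
      mul_inv_cancel_left]

theorem isPGroup_trivAut [Finite S] {p : ℕ} [Fact p.Prime] (hS : IsPGroup p S) (hTS : T ≤ S)
    (Q : Subgroup Ω) : IsPGroup p (trivAut Q T) := by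
  haveI : Finite T := finite_of_le hTS
  obtain ⟨m, hm⟩ := IsPGroup.iff_card.mp (hS.to_le hTS)
  rintro ⟨b, hb⟩
  refine ⟨m, Subtype.ext ?_⟩
  show b ^ p ^ m = 1
  apply MulEquiv.ext
  intro x
  rw [trivAut_pow hb]
  have hr : ((x⁻¹ * b x : Q) : Ω) ∈ T := hb.2 x
  have h1 : (x⁻¹ * b x) ^ p ^ m = 1 := by
    apply Subtype.ext
    have h2 : ((x⁻¹ * b x : Q) : Ω) ^ Nat.card T = 1 := by
      have h2' : ((⟨_, hr⟩ : T)) ^ Nat.card T = 1 := pow_card_eq_one'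
      exact congrArg Subtype.val h2'
    rw [← hm]
    show ((x⁻¹ * b x : Q) : Ω) ^ Nat.card T = 1
    exact h2
  rw [h1, mul_one]
  rfl

/-- A centric subgroup with a witness as in `BadAt` has a non-inner automorphism induced by `S` in
`O_p` of its automizer. -/
theorem not_le_inn_of_badAt [Finite S] {p : ℕ} [Fact p.Prime] (hS : IsPGroup p S)
    (𝒢 : FusionSystem S) (hT : 𝒢.StronglyClosed T) {Q : Subgroup Ω} (hQ : 𝒢.IsCentric Q)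
    (hbad : BadAt S T Q) :
    ¬ (autInducedBy S Q ⊓ (pCore p ↥(𝒢.autGroup Q)).map (𝒢.autGroup Q).subtype ≤ Inn Q) := by
  obtain ⟨c, hcT, hcC, hcN, hcQ⟩ := hbad
  intro hle
  have hQS : Q ≤ S := hQ.1
  have hmemS : conjAut Q c hcN.2 ∈ autInducedBy S Q := conjAut_mem S Q c hcN.2 hcN.1
  have hmemA : conjAut Q c hcN.2 ∈ 𝒢.autGroup Q := autInducedBy_le_autGroup 𝒢 hQS hmemS
  have hmemD : conjAut Q c hcN.2 ∈ trivAut Q T := by
    refine ⟨fun y hy => ?_, fun x => ?_⟩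
    · apply Subtype.ext
      show c * (y : Ω) * c⁻¹ = y
      have h1 := Subgroup.mem_centralizer_iff.mp hcC y ⟨y.2, hy⟩
      rw [← h1]
      group
    · show (x : Ω)⁻¹ * (c * (x : Ω) * c⁻¹) ∈ T
      have hxN := mem_normalizer_of_stronglyClosed 𝒢 hT (S.inv_mem (hQS x.2))
      have h1 : (x : Ω)⁻¹ * c * ((x : Ω)⁻¹)⁻¹ ∈ T :=
        (Subgroup.mem_normalizer_iff.mp hxN c).mp hcT
      have h2 : (x : Ω)⁻¹ * (c * (x : Ω) * c⁻¹) = ((x : Ω)⁻¹ * c * ((x : Ω)⁻¹)⁻¹) * c⁻¹ := by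
        group
      rw [h2]
      exact T.mul_mem h1 (T.inv_mem hcT)
  have hN : ((trivAut Q T).subgroupOf (𝒢.autGroup Q)).Normal := by
    refine ⟨fun n hn g => ?_⟩
    rw [Subgroup.mem_subgroupOf] at hn ⊢
    exact trivAut_conj 𝒢 hT hQS g.2 hn
  have hP : IsPGroup p ((trivAut Q T).subgroupOf (𝒢.autGroup Q)) :=
    (isPGroup_trivAut hS hT.1 Q).comap_subtype
  have hle2 : (trivAut Q T).subgroupOf (𝒢.autGroup Q) ≤ pCore p ↥(𝒢.autGroup Q) :=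
    le_sSup ⟨hN, hP⟩
  have hmem : conjAut Q c hcN.2 ∈
      autInducedBy S Q ⊓ (pCore p ↥(𝒢.autGroup Q)).map (𝒢.autGroup Q).subtype :=
    ⟨hmemS, ⟨⟨_, hmemA⟩, hle2 (Subgroup.mem_subgroupOf.mpr hmemD), rfl⟩⟩
  exact Cfsg.Agent.Lib.helper86.not_mem_inn_of_centric 𝒢 hQ hcN.1 hcQ
    (conjAut_apply Q c hcN.2) (hle hmem)

/-- Transport of a witness along a map of the system. -/
theorem BadAt.map [Finite S] (F : FusionSystem S) (hT : F.StronglyClosed T) {N Q : Subgroup Ω}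
    {ξ : N →* Ω} (hξ : ξ ∈ F.Hom N) (hQ : BadAt S T Q)
    (hN : ∀ c : Ω, c ∈ T → c ∈ normalizerIn S Q → c ∈ N) : BadAt S T (imgOf ξ Q) := by
  obtain ⟨c, hcT, hcC, hcN, hcQ⟩ := hQ
  have hcN' : c ∈ N := hN c hcT hcN
  have hinj := F.injective_of_mem hξ
  refine ⟨ξ ⟨c, hcN'⟩, ?_, ?_, ?_, ?_⟩
  · exact hT.2 (N ⊓ T) inf_le_right _ (restrict_mem F inf_le_left hξ) ⟨c, ⟨hcN', hcT⟩⟩
  · rw [Subgroup.mem_centralizer_iff]
    intro y hy
    have hy' : y ∈ imgOf ξ Q ⊓ T := hy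
    obtain ⟨x, hx, rfl⟩ := mem_imgOf.mp hy'.1
    have hxT : (x : Ω) ∈ T := mem_of_map_mem F hT hξ x hy'.2
    have hcomm := Subgroup.mem_centralizer_iff.mp hcC x ⟨hx, hxT⟩
    have h1 : x * ⟨c, hcN'⟩ = ⟨c, hcN'⟩ * x := Subtype.ext hcomm
    rw [← map_mul, ← map_mul, h1]
  · exact apply_mem_normalizerIn F hξ (x := ⟨c, hcN'⟩) hcN
  · intro h
    exact hcQ ((apply_mem_imgOf_iff hinj).mp h)

/-- A subgroup outside the family has a conjugate with a witness. -/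
theorem exists_badAt_of_not_inC [Finite S] {p : ℕ} [Fact p.Prime] (hS : IsPGroup p S)
    (F : FusionSystem S) (hF : F.IsSaturated p) (hT : F.StronglyClosed T) {P : Subgroup Ω}
    (hPS : P ≤ S) (h : ¬ InC F T P) : ∃ ζ ∈ F.Hom P, BadAt S T ζ.range := by
  classical
  have hTS := hT.1
  have hTn : ∀ s ∈ S, s ∈ Subgroup.normalizer (T : Set Ω) :=
    fun s hs => mem_normalizer_of_stronglyClosed F hT hs
  have h1 : ¬ TCen F T (P ⊓ T) := fun h' => h ⟨hPS, h'⟩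
  obtain ⟨R₁, hR₁conj, hR₁bad⟩ : ∃ R₁, F.IsConj (P ⊓ T) R₁ ∧ ¬ centralizerIn T R₁ ≤ R₁ := by
    by_contra hcon
    push Not at hcon
    exact h1 ⟨inf_le_right, hcon⟩
  have hPTS : P ⊓ T ≤ S := inf_le_left.trans hPS
  obtain ⟨Rd, hRdconj, hRdfn⟩ := exists_fullyNormalized_conj F hPTS
  have hR₁T : R₁ ≤ T := stronglyClosed_isConj_le F hT inf_le_right hR₁conj
  obtain ⟨ζ₁, hζ₁, hζ₁R⟩ := exists_map_normalizer_of_fullyNormalized hS F hF hRdfn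
    (isConj_trans F (isConj_symm F hR₁conj) hRdconj)
  have hζ₁R' : imgOf ζ₁ R₁ = Rd := hζ₁R
  have hRdbad : ¬ centralizerIn T Rd ≤ Rd := by
    intro hle
    apply hR₁bad
    intro c hc
    have hcN : c ∈ normalizerIn S R₁ :=
      ⟨hTS hc.1, Subgroup.centralizer_le_normalizer _ hc.2⟩
    have h2 : ζ₁ ⟨c, hcN⟩ ∈ centralizerIn T Rd := by
      refine ⟨hT.2 (normalizerIn S R₁ ⊓ T) inf_le_right _ (restrict_mem F inf_le_left hζ₁)
        ⟨c, ⟨hcN, hc.1⟩⟩, ?_⟩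
      show ζ₁ ⟨c, hcN⟩ ∈ Subgroup.centralizer (Rd : Set Ω)
      rw [Subgroup.mem_centralizer_iff]
      intro y hy
      have hy' : y ∈ imgOf ζ₁ R₁ := by
        rw [hζ₁R']
        exact hy
      obtain ⟨x, hx, rfl⟩ := mem_imgOf.mp hy'
      have hcomm := Subgroup.mem_centralizer_iff.mp hc.2 x hx
      have h3 : x * ⟨c, hcN⟩ = ⟨c, hcN⟩ * x := Subtype.ext hcomm
      rw [← map_mul, ← map_mul, h3]
    have h4 := hle h2
    rw [← hζ₁R'] at h4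
    exact (apply_mem_imgOf_iff (F.injective_of_mem hζ₁)).mp h4
  obtain ⟨ζ₂, hζ₂, hζ₂R⟩ := exists_map_normalizer_of_fullyNormalized hS F hF hRdfn hRdconj
  have hζ₂R' : imgOf ζ₂ (P ⊓ T) = Rd := hζ₂R
  have hPN : P ≤ normalizerIn S (P ⊓ T) := by
    intro x hx
    haveI : Finite ↥(P ⊓ T) := finite_of_le hPTS
    refine ⟨hPS hx, mem_normalizer_of_conj_mem (fun y hy => ?_)⟩
    exact ⟨P.mul_mem (P.mul_mem hx hy.1) (P.inv_mem hx),
      (Subgroup.mem_normalizer_iff.mp (hTn x (hPS hx)) y).mp hy.2⟩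
  have hζ := restrict_mem F hPN hζ₂
  refine ⟨_, hζ, ?_⟩
  have hζS : (ζ₂.comp (Subgroup.inclusion hPN)).range ≤ S :=
    Cfsg.Agent.Lib.helper87.range_le_S F hζ
  have hQT : (ζ₂.comp (Subgroup.inclusion hPN)).range ⊓ T = Rd := by
    ext y
    constructor
    · rintro ⟨⟨x, rfl⟩, hy⟩
      have hxT := mem_of_map_mem F hT hζ x hy
      rw [← hζ₂R']
      exact mem_imgOf.mpr ⟨Subgroup.inclusion hPN x, ⟨x.2, hxT⟩, rfl⟩
    · intro hy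
      rw [← hζ₂R'] at hy
      obtain ⟨x, hx, rfl⟩ := mem_imgOf.mp hy
      refine ⟨⟨⟨x, hx.1⟩, rfl⟩, ?_⟩
      exact hT.2 (normalizerIn S (P ⊓ T) ⊓ T) inf_le_right _ (restrict_mem F inf_le_left hζ₂)
        ⟨x, ⟨x.2, hx.2⟩⟩
  refine badAt_of_not_le hS hTS hTn hζS ?_
  rw [hQT]
  exact hRdbad

section

variable [Finite S] {p : ℕ} [Fact p.Prime] {F : FusionSystem S} {E : FusionSystem T}
  {Δ : Type*} [Group Δ] [Finite Δ] {χ : ↥(F.autGroup T) →* Δ}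

/-- Essential subgroups lie in the family. -/
theorem inC_of_essential (hS : IsPGroup p S) (hF : F.IsSaturated p) (hT : F.StronglyClosed T)
    {X : Subgroup Ω} (hX : F.IsEssential p X) : InC F T X := by
  by_contra h
  have hXS : X ≤ S := hX.1.1
  obtain ⟨ζ, hζ, hbad⟩ := exists_badAt_of_not_inC hS F hF hT hXS h
  have hQS : ζ.range ≤ S := Cfsg.Agent.Lib.helper87.range_le_S F hζ
  obtain ⟨ξ, hξ, hξQ⟩ := exists_map_normalizer_of_fullyNormalized hS F hF hX.2.1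
    (isConj_symm F (⟨ζ, hζ, rfl⟩ : F.IsConj X ζ.range))
  have hξQ' : imgOf ξ ζ.range = X := hξQ
  have hbad2 := hbad.map F hT hξ (fun c _ hc => hc)
  rw [hξQ'] at hbad2
  have hrad := Cfsg.Agent.S5080.result p hS F hF X hX
  exact not_le_inn_of_badAt hS F hT hX.1 hbad2 (inf_le_right.trans (le_of_eq hrad.2))

/-- The Frattini condition for all subgroups. -/
theorem pq_frattini (D : PQData p F E χ) (hχ : Function.Surjective χ) (P : Subgroup Ω)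
    (φ : P →* Ω) (hφ : φ ∈ F.Hom P) :
    ∃ α ∈ F.autGroup S, ∃ φ₀ ∈ (pqSys F E χ).Hom P,
      ∀ (x : P) (hx : φ₀ x ∈ S), φ x = ((α ⟨φ₀ x, hx⟩ : S) : Ω) := by
  have hT := D.hinv.2.1
  have hle := Cfsg.Agent.S5082.result p D.hS F D.hF
    (frattiniSystem (pqSys F E χ) F (pqSys_sub F E χ) (Cfsg.Agent.Lib.helper87.stronglyClosed_top F)
      (pq_autInvariant D)) (by
    intro X hX a ha
    have hXC : InC F T X := by
      rcases hX with rfl | hX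
      · exact inC_top F hT
      · exact inC_of_essential D.hS D.hF hT hX
    have hXS : X ≤ S := hXC.1
    have haF := (mem_autGroup_iff' F hXS a).mp ha
    obtain ⟨α, hα, φ₀, hφ₀, heq⟩ := pq_frattini_inC D hχ hXC haF
    rw [mem_autGroup_iff' _ hXS]
    refine ⟨haF, hXS, α, hα, φ₀, hφ₀, ?_⟩
    intro x t ht
    have h1 : φ₀ x ∈ S := ht ▸ t.2
    have h2 : t = ⟨φ₀ x, h1⟩ := Subtype.ext ht
    rw [h2]
    exact heq x h1)
  obtain ⟨-, hPS, α, hα, φ₀, hφ₀, heq⟩ := hle P hφ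
  exact ⟨α, hα, φ₀, hφ₀, fun x hx => heq x ⟨φ₀ x, hx⟩ rfl⟩

end

/-- A subsystem over `S` satisfying the Frattini condition has index prime to `p`. -/
theorem primeIndex_of_frattini [Finite S] {p : ℕ} [Fact p.Prime] (hS : IsPGroup p S)
    (F : FusionSystem S) (hF : F.IsSaturated p) (E : FusionSystem S) (hEF : E.IsSubsystemOf F)
    (hfr : ∀ (P : Subgroup Ω) (φ : P →* Ω), φ ∈ F.Hom P → ∃ α ∈ F.autGroup S, ∃ φ₀ ∈ E.Hom P,
      ∀ (x : P) (hx : φ₀ x ∈ S), φ x = ((α ⟨φ₀ x, hx⟩ : S) : Ω)) :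
    E.HasPrimeToPIndexIn F p := by
  refine ⟨hEF, ?_⟩
  intro P hPS
  rw [Subgroup.map_le_iff_le_comap, Subgroup.closure_le]
  rintro a ⟨k, hk⟩
  show (a : MulAut P) ∈ E.autGroup P
  have hak : (a : MulAut P) ^ p ^ k = 1 := by
    rw [← hk, ← Subgroup.orderOf_coe]
    exact pow_orderOf_eq_one _
  obtain ⟨P', ρ, hP'fn, hρ, hB⟩ := exists_isoEquiv_conj_into_autInducedBy
    hS F hF hPS (Subgroup.zpowers (a : MulAut P))
    (isPGroup_zpowers_of_pow_eq_one hak)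
    (by
      rw [Subgroup.zpowers_le]
      exact a.2)
  have hP'S : P' ≤ S := hP'fn.1
  obtain ⟨g, hg, hgeq⟩ := (mem_autInducedBy_iff S P' _).mp
    (hB ⟨(a : MulAut P), Subgroup.mem_zpowers _, rfl⟩)
  obtain ⟨α, hα, ψ₀, hψ₀, hψeq⟩ := hfr P (P'.subtype.comp ρ.toMonoidHom) hρ.1
  have hψ₀S : ∀ x : P, ψ₀ x ∈ S := (E.le_of_mem hψ₀).2
  have hkey : ∀ x : P, ψ₀ ((a : MulAut P) x) =
      ((α⁻¹ ⟨g, hg⟩ : S) : Ω) * ψ₀ x * ((α⁻¹ ⟨g, hg⟩ : S) : Ω)⁻¹ := by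
    intro x
    have h1 : ((ρ ((a : MulAut P) x) : P') : Ω) = g * ((ρ x : P') : Ω) * g⁻¹ := by
      have h2 := hgeq (ρ x)
      have h3 : (MulAut.congr ρ).toMonoidHom (a : MulAut P) (ρ x) = ρ ((a : MulAut P) x) := by
        show ρ ((a : MulAut P) (ρ.symm (ρ x))) = ρ ((a : MulAut P) x)
        rw [MulEquiv.symm_apply_apply]
      rw [h3] at h2
      exact h2
    have h4 : ((ρ ((a : MulAut P) x) : P') : Ω) = α ⟨ψ₀ ((a : MulAut P) x), hψ₀S _⟩ :=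
      hψeq ((a : MulAut P) x) (hψ₀S _)
    have h5 : ((ρ x : P') : Ω) = α ⟨ψ₀ x, hψ₀S _⟩ := hψeq x (hψ₀S _)
    have h6 : α ⟨ψ₀ ((a : MulAut P) x), hψ₀S _⟩ =
        α (α⁻¹ ⟨g, hg⟩ * ⟨ψ₀ x, hψ₀S _⟩ * (α⁻¹ ⟨g, hg⟩)⁻¹) := by
      apply Subtype.ext
      rw [← h4, h1, h5, map_mul, map_mul, map_inv, MulAut.apply_inv_self]
      rfl
    exact congrArg Subtype.val (α.injective h6)
  obtain ⟨ρ₀, hρ₀, hρ₀eq⟩ := E.inv_mem hψ₀
  have hrS : ψ₀.range ≤ S := by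
    rintro _ ⟨x, rfl⟩
    exact hψ₀S x
  have hc := E.conj_mem hrS (α⁻¹ ⟨g, hg⟩ : S).2
  have h₁ : ∀ x : P, ψ₀ x ∈ ψ₀.range := fun x => ⟨x, rfl⟩
  have hcomp₁ := E.comp_mem hψ₀ hc h₁
  have h₂ : ∀ x : P, ((conjHom ψ₀.range ((α⁻¹ ⟨g, hg⟩ : S) : Ω)).comp
      (ψ₀.codRestrict ψ₀.range h₁)) x ∈ ψ₀.range := by
    intro x
    refine ⟨(a : MulAut P) x, ?_⟩
    rw [hkey x]
    rfl
  have hcomp₂ := E.comp_mem hcomp₁ hρ₀ h₂
  rw [mem_autGroup_iff' E hPS]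
  have hfin : P.subtype.comp (a : MulAut P).toMonoidHom =
      ρ₀.comp (((conjHom ψ₀.range ((α⁻¹ ⟨g, hg⟩ : S) : Ω)).comp
        (ψ₀.codRestrict ψ₀.range h₁)).codRestrict ψ₀.range h₂) := by
    refine MonoidHom.ext fun x => ?_
    have h7 : (((conjHom ψ₀.range ((α⁻¹ ⟨g, hg⟩ : S) : Ω)).comp
        (ψ₀.codRestrict ψ₀.range h₁)).codRestrict ψ₀.range h₂) x =
        ⟨ψ₀ ((a : MulAut P) x), ⟨_, rfl⟩⟩ := by
      apply Subtype.ext
      show ((α⁻¹ ⟨g, hg⟩ : S) : Ω) * ψ₀ x * ((α⁻¹ ⟨g, hg⟩ : S) : Ω)⁻¹ = ψ₀ ((a : MulAut P) x)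
      rw [hkey x]
    show (((a : MulAut P) x : P) : Ω) = ρ₀ _
    rw [h7, hρ₀eq]
  rw [hfin]
  exact hcomp₂

end Cfsg.Agent.Lib.helper88
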