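import Cfsg.Agent.Lib.helper88.PQ4

/-!
The subsystem attached to the kernel of the `Δ`-value is saturated and contains `E`.
-/

set_option autoImplicit false

namespace Cfsg.Agent.Lib.helper88

open Cfsg Cfsg.FusionSystem
open Cfsg.Agent.Lib.helper87 (imgOf mem_imgOf apply_mem_imgOf_iff apply_mem_normalizerIn card_imgOf)

variable {Ω : Type*} [Group Ω] {S T : Subgroup Ω}

theorem imgOf_inv_aut {α : MulAut S} {P Q : Subgroup Ω} {φ φ₀ : P →* Ω} (hφr : φ.range = Q)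
    (hφ₀S : ∀ x : P, φ₀ x ∈ S)
    (hφeq : ∀ (x : P) (hx : φ₀ x ∈ S), φ x = ((α ⟨φ₀ x, hx⟩ : S) : Ω)) :
    imgOf (S.subtype.comp (α⁻¹).toMonoidHom) Q = φ₀.range := by
  ext y
  rw [mem_imgOf]
  constructor
  · rintro ⟨s, hs, rfl⟩
    rw [← hφr] at hs
    obtain ⟨x, hx⟩ := hs
    have h1 : s = α ⟨φ₀ x, hφ₀S x⟩ := Subtype.ext (hx.symm.trans (hφeq x (hφ₀S x)))
    refine ⟨x, ?_⟩
    show φ₀ x = ((α⁻¹ s : S) : Ω)
    rw [h1, MulAut.inv_apply_self]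
  · rintro ⟨x, rfl⟩
    refine ⟨α ⟨φ₀ x, hφ₀S x⟩, ?_, ?_⟩
    · rw [← hφeq x (hφ₀S x), ← hφr]
      exact ⟨x, rfl⟩
    · show ((α⁻¹ (α ⟨φ₀ x, hφ₀S x⟩) : S) : Ω) = φ₀ x
      rw [MulAut.inv_apply_self]

/-- The restriction of a fusion system over `S` to a strongly closed subgroup. -/
def resToT (𝒢 : FusionSystem S) (hT : 𝒢.StronglyClosed T) : FusionSystem T where
  Hom P := {φ | φ ∈ 𝒢.Hom P ∧ P ≤ T}
  le_of_mem := fun h => ⟨h.2, fun x => hT.2 _ h.2 _ h.1 x⟩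
  injective_of_mem := fun h => 𝒢.injective_of_mem h.1
  conj_mem := fun hP hg => ⟨𝒢.conj_mem (hP.trans hT.1) (hT.1 hg), hP⟩
  comp_mem := fun hφ hψ h => ⟨𝒢.comp_mem hφ.1 hψ.1 h, hφ.2⟩
  inv_mem := by
    rintro P φ ⟨hφ, hP⟩
    obtain ⟨ψ, hψ, hψx⟩ := 𝒢.inv_mem hφ
    refine ⟨ψ, ⟨hψ, ?_⟩, hψx⟩
    rintro _ ⟨x, rfl⟩
    exact hT.2 _ hP _ hφ x

section

variable [Finite S] {p : ℕ} [Fact p.Prime] {F : FusionSystem S} {E : FusionSystem T}
  {Δ : Type*} [Group Δ] [Finite Δ] {χ : ↥(F.autGroup T) →* Δ}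

/-- The subsystem is saturated. -/
theorem pqSys_saturated (D : PQData p F E χ) (hχ : Function.Surjective χ) :
    (pqSys F E χ).IsSaturated p := by
  have hS := D.hS
  have hF := D.hF
  have hT := D.hinv.2.1
  have hsub := pqSys_sub F E χ
  have hT₀ : (pqSys F E χ).StronglyClosed T :=
    ⟨hT.1, fun R hR φ hφ x => hT.2 R hR φ (hsub R hφ) x⟩
  refine Cfsg.Agent.S5110.result p hS (pqSys F E χ) {P | InC F T P} (fun P hP => hP.1)
    ?_ ?_ ?_ ?_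
  · rintro P hP Q ⟨φ, hφ, hr⟩
    exact InC.of_isConj hT hP ⟨φ, hsub P hφ, hr⟩
  · intro P hP
    have hPS : P ≤ S := hP.1
    obtain ⟨Q, ⟨φ, hφ, hφr⟩, hQfn⟩ := exists_fullyNormalized_conj F hPS
    obtain ⟨α, hα, φ₀, hφ₀, hφeq⟩ := pq_frattini_inC D hχ hP hφ
    have hφ₀S : ∀ x : P, φ₀ x ∈ S := ((pqSys F E χ).le_of_mem hφ₀).2
    have hP'S : φ₀.range ≤ S := Cfsg.Agent.Lib.helper87.range_le_S (pqSys F E χ) hφ₀
    have hconjE : (pqSys F E χ).IsConj P φ₀.range := ⟨φ₀, hφ₀, rfl⟩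
    have hconjF : F.IsConj P φ₀.range := ⟨φ₀, hsub P hφ₀, rfl⟩
    have hP'C : InC F T φ₀.range := InC.of_isConj hT hP hconjF
    have hβ : S.subtype.comp (α⁻¹).toMonoidHom ∈ F.Hom S :=
      (mem_autGroup_iff' F le_rfl _).mp ((F.autGroup S).inv_mem hα)
    have hβQ : imgOf (S.subtype.comp (α⁻¹).toMonoidHom) Q = φ₀.range :=
      imgOf_inv_aut hφr hφ₀S hφeq
    have hP'fn : F.IsFullyNormalized φ₀.range := by
      refine ⟨hP'S, fun R hR => ?_⟩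
      have h1 : Nat.card ↥(normalizerIn S R) ≤ Nat.card ↥(normalizerIn S Q) :=
        hQfn.2 R (isConj_trans F (isConj_trans F (isConj_symm F ⟨φ, hφ, hφr⟩) hconjF) hR)
      have h2 : imgOf (S.subtype.comp (α⁻¹).toMonoidHom) (normalizerIn S Q) ≤
          normalizerIn S φ₀.range := by
        intro y hy
        obtain ⟨x, hx, rfl⟩ := mem_imgOf.mp hy
        have h3 := apply_mem_normalizerIn F hβ (P := Q) hx
        rw [hβQ] at h3
        exact h3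
      have h3 : Nat.card ↥(imgOf (S.subtype.comp (α⁻¹).toMonoidHom) (normalizerIn S Q)) =
          Nat.card ↥(normalizerIn S Q) := card_imgOf (F.injective_of_mem hβ) inf_le_left
      have : Finite ↥(normalizerIn S φ₀.range) := finite_of_le inf_le_left
      have h4 := Subgroup.card_le_of_le h2
      omega
    obtain ⟨hfaF, hrecF⟩ := fullyAutomized_receptive_of_fullyNormalized hS F hF hP'fn
    refine ⟨φ₀.range, hconjE, ⟨hP'S, ?_⟩, ⟨hP'S, ?_⟩⟩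
    · have : Finite (MulAut ↥φ₀.range) := Cfsg.Agent.Lib.helper87.finite_mulAut_of_le hP'S
      exact Cfsg.Agent.Lib.helper87.sylowIn_of_le
        (autInducedBy_le_autGroup (pqSys F E χ) hP'S)
        (Subgroup.closure_mono (fun a ha => hsub _ ha)) hfaF.2
    · intro R ψ hψ hψr
      obtain ⟨ψ', hψ', hψ'x⟩ := hrecF.2 R ψ (hsub R hψ) hψr
      refine ⟨ψ', ?_, hψ'x⟩
      have hRN : R ≤ extender S R ψ := le_extender F (hsub R hψ)
      have hRC : InC F T R := InC.of_isConj hT hP'C (isConj_symm F ⟨ψ, hsub R hψ, hψr⟩)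
      have hNC : InC F T (extender S R ψ) :=
        hRC.of_le hRN ((extender_le_normalizerIn S R ψ).trans inf_le_left)
      obtain ⟨d, hd⟩ := th_exists D.hinv χ hψ'
      have hd' := th_restrict hRN hd
      have heq : ψ'.comp (Subgroup.inclusion hRN) = ψ :=
        MonoidHom.ext fun x => hψ'x x x.2 (hRN x.2)
      rw [heq] at hd'
      have h1 := th_unique D hRC (hsub R hψ) hd' (th_of_mem_pqSys D hRC hψ)
      rw [h1] at hd
      exact mem_pqSys_of_th hNC hψ' hd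
  · intro E'' h
    exact pqSys_gen E'' (fun P hP => h P hP)
  · intro P hPc hPn
    have hPS : P ≤ S := hPc.1
    obtain ⟨ζ, hζ, hbad⟩ := exists_badAt_of_not_inC hS F hF hT hPS hPn
    obtain ⟨α, hα, φ₀, hφ₀, hφeq⟩ := pq_frattini D hχ P ζ hζ
    have hφ₀S : ∀ x : P, φ₀ x ∈ S := ((pqSys F E χ).le_of_mem hφ₀).2
    have hβ : S.subtype.comp (α⁻¹).toMonoidHom ∈ F.Hom S :=
      (mem_autGroup_iff' F le_rfl _).mp ((F.autGroup S).inv_mem hα)
    have hβQ : imgOf (S.subtype.comp (α⁻¹).toMonoidHom) ζ.range = φ₀.range :=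
      imgOf_inv_aut rfl hφ₀S hφeq
    have hbad2 := hbad.map F hT hβ (fun c _ hcN => hcN.1)
    rw [hβQ] at hbad2
    refine ⟨φ₀.range, ⟨φ₀, hφ₀, rfl⟩, ?_⟩
    exact not_le_inn_of_badAt hS (pqSys F E χ) hT₀ (IsCentric.of_isConj hPc ⟨φ₀, hφ₀, rfl⟩) hbad2

/-- The subsystem contains `E`. -/
theorem pq_contains (D : PQData p F E χ) : E.IsSubsystemOf (pqSys F E χ) := by
  have hT := D.hinv.2.1
  have hTS := hT.1
  haveI : Finite T := finite_of_le hTS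
  have hsub := pqSys_sub F E χ
  have hT₀ : (pqSys F E χ).StronglyClosed T :=
    ⟨hTS, fun R hR φ hφ x => hT.2 R hR φ (hsub R hφ) x⟩
  have hle := Cfsg.Agent.S5082.result p (D.hS.to_le hTS) E D.hEsat
    (resToT (pqSys F E χ) hT₀) (by
    intro R hR a ha
    have hRc : E.IsCentric R := by
      rcases hR with rfl | hR
      · exact Cfsg.Agent.Lib.helper87.isCentric_top E
      · exact hR.1
    have hRT : R ≤ T := hRc.1
    have hRC : InC F T R := by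
      refine ⟨hRT.trans hTS, ?_⟩
      rw [inf_eq_left.mpr hRT]
      refine ⟨hRT, ?_⟩
      rintro R' ⟨φ, hφ, rfl⟩
      obtain ⟨γ, hγ, ε, hε, heq⟩ := D.hinv.2.2.2 R hRT φ hφ
      have hεT : ∀ x : R, ε x ∈ T := (E.le_of_mem hε).2
      have hcen := hRc.2 ε.range ⟨ε, hε, rfl⟩
      intro c hc
      have h1 : ((γ⁻¹ ⟨c, hc.1⟩ : T) : Ω) ∈ centralizerIn T ε.range := by
        refine ⟨(γ⁻¹ ⟨c, hc.1⟩ : T).2, ?_⟩
        show ((γ⁻¹ ⟨c, hc.1⟩ : T) : Ω) ∈ Subgroup.centralizer (ε.range : Set Ω)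
        rw [Subgroup.mem_centralizer_iff]
        rintro _ ⟨x, rfl⟩
        have h2 : φ x * c = c * φ x := Subgroup.mem_centralizer_iff.mp hc.2 (φ x) ⟨x, rfl⟩
        have h3 : γ ⟨ε x, hεT x⟩ * ⟨c, hc.1⟩ = ⟨c, hc.1⟩ * γ ⟨ε x, hεT x⟩ := by
          apply Subtype.ext
          show ((γ ⟨ε x, hεT x⟩ : T) : Ω) * c = c * ((γ ⟨ε x, hεT x⟩ : T) : Ω)
          rw [← heq x (hεT x)]
          exact h2
        have h4 : γ⁻¹ (γ ⟨ε x, hεT x⟩ * ⟨c, hc.1⟩) = γ⁻¹ (⟨c, hc.1⟩ * γ ⟨ε x, hεT x⟩) := by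
          rw [h3]
        rw [map_mul, map_mul, MulAut.inv_apply_self] at h4
        exact congrArg Subtype.val h4
      obtain ⟨x, hx⟩ := hcen h1
      refine ⟨x, ?_⟩
      rw [heq x (hεT x)]
      have h5 : (⟨ε x, hεT x⟩ : T) = γ⁻¹ ⟨c, hc.1⟩ := Subtype.ext hx
      rw [h5, MulAut.apply_inv_self]
    have haE := (mem_autGroup_iff' E hRT a).mp ha
    rw [mem_autGroup_iff' _ hRT]
    exact ⟨mem_pqSys_of_th hRC (D.hinv.1 R haE) (th_of_mem χ haE), hRT⟩)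
  intro P φ hφ
  exact (hle P hφ).1

end

end Cfsg.Agent.Lib.helper88
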