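import Mathlib

set_option autoImplicit false

/-! S5238 leaf FC, sub-leaf C10 (`in_E`) of helper45's split: racer copy (helper88). -/

namespace Cfsg.Agent.Lib.helper45.PearlC

theorem h88_in_E {G : Type*} [Group G] [Finite G] (p : ℕ) [Fact p.Prime] (n : ℕ)
    (hG : Nat.card G = p ^ n) (E : Subgroup G) (hE : Nat.card ↥E = p ^ 3)
    (hna : ¬ IsMulCommutative ↥E) (hC : Subgroup.centralizer (E : Set G) ≤ E)
    (hCp : Nat.card ↥(Subgroup.centralizer (E : Set G)) = p)
    (hZ : Subgroup.center G = Subgroup.centralizer (E : Set G))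
    (w : G) (hw : ∀ g : G, w * g * w⁻¹ * g⁻¹ ∈ Subgroup.center G)
    (hidx : Nat.card G ≤ p * Nat.card ↥(Subgroup.centralizer ({w} : Set G)))
    (hstep : ∀ A B C : Subgroup G, C ≤ B →
      Nat.card ↥(A ⊓ B) * Nat.card ↥C ≤ Nat.card ↥(A ⊓ C) * Nat.card ↥B)
    (hcg : ∀ (D : Subgroup G), D ≤ E → Nat.card ↥E ≤ p * Nat.card ↥D → ∀ e ∈ E, e ∉ D →
      ∀ g : G, (∀ d ∈ D, d * g = g * d) → e * g = g * e →
        g ∈ Subgroup.centralizer (E : Set G))
    (hcc : ∀ a b : G, a ∈ E → b ∈ E → a * b * a⁻¹ * b⁻¹ ∈ Subgroup.centralizer (E : Set G))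
    (hpow : ∀ c : G, c ∈ Subgroup.center G → c ≠ 1 → ∀ z : G, z ∈ Subgroup.center G →
      ∃ k : ℕ, z = c ^ k)
    (hadj : ∀ (d e w c : G) (k : ℕ), (∀ g : G, c * g = g * c) → d * e * d⁻¹ * e⁻¹ = c →
      w * e * w⁻¹ * e⁻¹ = c ^ k → d * w = w * d → e * (w * (d ^ k)⁻¹) = (w * (d ^ k)⁻¹) * e) :
    w ∈ E := by
  classical
  have hpp : p.Prime := Fact.out
  have h1 := hstep E ⊤ (Subgroup.centralizer ({w} : Set G)) le_top
  rw [inf_top_eq, Subgroup.card_top] at h1
  have hED : Nat.card E ≤ p * Nat.card ↥(E ⊓ Subgroup.centralizer ({w} : Set G)) := by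
    have h2 : Nat.card E * Nat.card ↥(Subgroup.centralizer ({w} : Set G))
        ≤ (p * Nat.card ↥(E ⊓ Subgroup.centralizer ({w} : Set G)))
          * Nat.card ↥(Subgroup.centralizer ({w} : Set G)) := by
      calc Nat.card E * Nat.card ↥(Subgroup.centralizer ({w} : Set G))
          ≤ Nat.card ↥(E ⊓ Subgroup.centralizer ({w} : Set G)) * Nat.card G := h1
        _ ≤ Nat.card ↥(E ⊓ Subgroup.centralizer ({w} : Set G))
              * (p * Nat.card ↥(Subgroup.centralizer ({w} : Set G))) :=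
            Nat.mul_le_mul_left _ hidx
        _ = _ := by ring
    exact Nat.le_of_mul_le_mul_right h2 Nat.card_pos
  by_cases hEw : E ≤ Subgroup.centralizer ({w} : Set G)
  · apply hC
    rw [Subgroup.mem_centralizer_iff]
    intro e he
    have := hEw he
    rw [Subgroup.mem_centralizer_iff] at this
    exact (this w rfl).symm
  · obtain ⟨e, heE, hew⟩ := SetLike.not_le_iff_exists.mp hEw
    obtain ⟨D, hDdef⟩ : ∃ D : Subgroup G, D = E ⊓ Subgroup.centralizer ({w} : Set G) := ⟨_, rfl⟩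
    rw [← hDdef] at hED
    have hDE : D ≤ E := hDdef ▸ inf_le_left
    have hDw : ∀ d ∈ D, d * w = w * d := by
      intro d hd
      rw [hDdef] at hd
      have h2 : d ∈ Subgroup.centralizer ({w} : Set G) := hd.2
      rw [Subgroup.mem_centralizer_iff] at h2
      exact (h2 w rfl).symm
    have heD : e ∉ D := fun h => hew (by
      rw [hDdef] at h
      have h2 : e ∈ Subgroup.centralizer ({w} : Set G) := h.2
      exact h2)
    have hDne : D ≠ E := fun h => heD (h ▸ heE)
    have hDcard : Nat.card D = p ^ 2 := by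
      have hdvd : Nat.card D ∣ Nat.card E := Subgroup.card_dvd_of_le hDE
      rw [hE] at hdvd
      obtain ⟨k, hk, hkeq⟩ := (Nat.dvd_prime_pow hpp).mp hdvd
      have hk3 : k ≠ 3 := by
        intro h3
        exact hDne (Subgroup.eq_of_le_of_card_ge hDE (by rw [hkeq, h3, hE]))
      have hk2 : 2 ≤ k := by
        rw [hE, hkeq, ← pow_succ'] at hED
        have := (Nat.pow_le_pow_iff_right hpp.one_lt).mp hED
        omega
      have : k = 2 := by omega
      rw [hkeq, this]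
    have hDcomm : ∀ a ∈ D, ∀ b ∈ D, a * b = b * a := by
      have hcomm := IsPGroup.commutative_of_card_eq_prime_sq hDcard
      intro a ha b hb
      have h := hcomm ⟨a, ha⟩ ⟨b, hb⟩
      exact congrArg Subtype.val h
    have hex : ∃ d ∈ D, d * e ≠ e * d := by
      by_contra hcon
      have hcon' : ∀ d ∈ D, d * e = e * d := by
        intro d hd
        by_contra h
        exact hcon ⟨d, hd, h⟩
      have hDC : D ≤ Subgroup.centralizer (E : Set G) := by
        intro d hd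
        exact hcg D hDE hED e heE heD d (fun d' hd' => hDcomm d' hd' d hd) ((hcon' d hd).symm)
      have h3 := Subgroup.card_le_of_le hDC
      rw [hDcard, hCp] at h3
      have := hpp.one_lt
      nlinarith
    obtain ⟨d, hdD, hde⟩ := hex
    have hcC : d * e * d⁻¹ * e⁻¹ ∈ Subgroup.centralizer (E : Set G) := hcc d e (hDE hdD) heE
    have hcZ : d * e * d⁻¹ * e⁻¹ ∈ Subgroup.center G := by rw [hZ]; exact hcC
    have hc1 : d * e * d⁻¹ * e⁻¹ ≠ 1 := by
      intro h
      apply hde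
      calc d * e = (d * e * d⁻¹ * e⁻¹) * (e * d) := by group
        _ = e * d := by rw [h, one_mul]
    obtain ⟨k, hk⟩ := hpow _ hcZ hc1 (w * e * w⁻¹ * e⁻¹) (hw e)
    have hccomm : ∀ g : G, (d * e * d⁻¹ * e⁻¹) * g = g * (d * e * d⁻¹ * e⁻¹) :=
      fun g => (Subgroup.mem_center_iff.mp hcZ g).symm
    have hge := hadj d e w _ k hccomm rfl hk (hDw d hdD)
    have hgD : ∀ d' ∈ D, d' * (w * (d ^ k)⁻¹) = (w * (d ^ k)⁻¹) * d' := by
      intro d' hd'
      have h1 : d' * w = w * d' := hDw d' hd'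
      have h2 : d' * (d ^ k)⁻¹ = (d ^ k)⁻¹ * d' :=
        hDcomm d' hd' (d ^ k)⁻¹ (D.inv_mem (D.pow_mem hdD k))
      calc d' * (w * (d ^ k)⁻¹) = (d' * w) * (d ^ k)⁻¹ := by rw [mul_assoc]
        _ = w * (d' * (d ^ k)⁻¹) := by rw [h1, mul_assoc]
        _ = (w * (d ^ k)⁻¹) * d' := by rw [h2, mul_assoc]
    have hgC := hcg D hDE hED e heE heD (w * (d ^ k)⁻¹) hgD hge
    have hgE : w * (d ^ k)⁻¹ ∈ E := hC hgC
    have hweq : w = (w * (d ^ k)⁻¹) * d ^ k := by group
    rw [hweq]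
    exact E.mul_mem hgE (E.pow_mem (hDE hdD) k)

end Cfsg.Agent.Lib.helper45.PearlC
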