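import Cfsg.Statements.S5156
import Cfsg.Agent.S5159
import Cfsg.Agent.S5120
import Cfsg.Agent.S5124
import Cfsg.Agent.S5141
import Cfsg.Agent.Lib.helper87.CenNormal
import Cfsg.Agent.Lib.helper87.Factor
import Cfsg.Agent.Lib.helper88.PPowerNormal
import Cfsg.Agent.Lib.helper88.Residual

/-!
# Residual series, part 1 (helper88): a terminating residual series makes the system solvable

If the alternating series of residual subsystems of a saturated fusion system `F` terminates, then
`F` is a solvable system (hence constrained).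
-/

set_option autoImplicit false

namespace Cfsg.Agent.Lib.helper88.RS

open Cfsg Cfsg.FusionSystem
open Cfsg.Agent.Lib.helper88

variable {Ω : Type*} [Group Ω]

/-- A fusion system over the trivial group is solvable. -/
theorem solvable_of_eq_bot {S : Subgroup Ω} (F : FusionSystem S) (hS : S = ⊥) :
    F.IsSolvableSystem := by
  intro R hR hne
  exact absurd (le_antisymm hR.1 (hS ▸ bot_le)) hne

/-- A normal subgroup of `S / T`, `T ≥ hyp(E)`, is strongly closed in a factor system of `E`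
modulo `T`. -/
theorem stronglyClosed_of_normal_factor {S : Subgroup Ω} [Finite S] {p : ℕ} [Fact p.Prime]
    (hS : IsPGroup p S) (E : FusionSystem S) (hE : E.IsSaturated p) {T : Subgroup Ω}
    (hT : E.hyperfocalSubgroup p ≤ T) {Ω' : Type*} [Group Ω'] (θ : S →* Ω')
    (hker : ∀ s : S, θ s = 1 ↔ (s : Ω) ∈ T) (hsurj : Function.Surjective θ)
    (Q : FusionSystem (⊤ : Subgroup Ω')) (hQ : E.IsFactorSystem T θ Q) (N' : Subgroup Ω')
    [N'.Normal] : Q.StronglyClosed N' := by
  have hN : E.StronglyClosed (preimageAlong θ N') := by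
    refine stronglyClosed_of_hyperfocal_le hS E hE ?_ ?_ ?_
    · intro x hx
      exact ((Cfsg.Agent.Lib.helper87.mem_preimageAlong θ N' x).mp hx).1
    · intro g hg t ht
      obtain ⟨htS, htN⟩ := (Cfsg.Agent.Lib.helper87.mem_preimageAlong θ N' t).mp ht
      rw [Cfsg.Agent.Lib.helper87.mem_preimageAlong]
      refine ⟨S.mul_mem (S.mul_mem hg htS) (S.inv_mem hg), ?_⟩
      have h1 : (⟨g * t * g⁻¹, S.mul_mem (S.mul_mem hg htS) (S.inv_mem hg)⟩ : S) =
          ⟨g, hg⟩ * ⟨t, htS⟩ * (⟨g, hg⟩ : S)⁻¹ := rfl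
      rw [h1, map_mul, map_mul, map_inv]
      exact Subgroup.Normal.conj_mem inferInstance _ htN _
    · intro x hx
      have hxT : x ∈ T := hT hx
      have hxS : x ∈ S := hyperfocal_le E p hx
      rw [Cfsg.Agent.Lib.helper87.mem_preimageAlong]
      refine ⟨hxS, ?_⟩
      rw [(hker ⟨x, hxS⟩).mpr hxT]
      exact N'.one_mem
  have h1 := stronglyClosed_imageAlong E θ Q hQ hN
  have h2 : imageAlong θ (preimageAlong θ N') = N' := by
    ext y
    constructor
    · rintro ⟨s, hs, rfl⟩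
      obtain ⟨_, h3⟩ := (Cfsg.Agent.Lib.helper87.mem_preimageAlong θ N' (s : Ω)).mp
        (Subgroup.mem_subgroupOf.mp hs)
      exact h3
    · intro hy
      obtain ⟨s, rfl⟩ := hsurj y
      refine ⟨s, Subgroup.mem_subgroupOf.mpr ?_, rfl⟩
      rw [Cfsg.Agent.Lib.helper87.mem_preimageAlong]
      exact ⟨s.2, hy⟩
  rwa [h2] at h1

/-- If the `p`-residual subsystem of `E` is solvable, so is `E`. -/
theorem solvable_of_pResidual {S : Subgroup Ω} [Finite S] (p : ℕ) [Fact p.Prime]
    (hS : IsPGroup p S) (E : FusionSystem S) (hE : E.IsSaturated p)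
    (D : FusionSystem (E.hyperfocalSubgroup p)) (hD : E.IsPResidual p D)
    (hDs : D.IsSolvableSystem) : E.IsSolvableSystem := by
  classical
  have hTS : E.hyperfocalSubgroup p ≤ S := hyperfocal_le E p
  haveI hTn : ((E.hyperfocalSubgroup p).subgroupOf S).Normal :=
    ⟨fun n hn g => Subgroup.mem_subgroupOf.2
      (Cfsg.Agent.S5124.hyp_conj_mem E p g.2 (Subgroup.mem_subgroupOf.1 hn))⟩
  have hDn : D.IsNormalIn E p :=
    Cfsg.Agent.S5120.result p hS E hE _ hTS hTn le_rfl D hD.1 hD.2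
  have hTsc : E.StronglyClosed (E.hyperfocalSubgroup p) := hDn.1.2.2.2.1
  obtain ⟨θ, hθ⟩ : ∃ θ : S →* (S ⧸ (E.hyperfocalSubgroup p).subgroupOf S),
      θ = QuotientGroup.mk' ((E.hyperfocalSubgroup p).subgroupOf S) := ⟨_, rfl⟩
  have hsurj : Function.Surjective θ := by
    rw [hθ]
    exact QuotientGroup.mk'_surjective _
  have hker : ∀ s : S, θ s = 1 ↔ (s : Ω) ∈ E.hyperfocalSubgroup p := by
    intro s
    rw [hθ, QuotientGroup.mk'_apply, QuotientGroup.eq_one_iff, Subgroup.mem_subgroupOf]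
  have hrange : θ.range = ⊤ := MonoidHom.range_eq_top.mpr hsurj
  obtain ⟨Q, hQ⟩ := Cfsg.Agent.Lib.helper87.exists_factorSystem E _ hTsc θ hker ⊤ hrange
  rw [Cfsg.Agent.S5159.result p hS E hE D hDn θ Q hQ]
  refine ⟨hDs, ?_⟩
  have hQsat := factorSystem_saturated hS E hE hTsc θ Q hQ
  have hpq : IsPGroup p (S ⧸ (E.hyperfocalSubgroup p).subgroupOf S) := hS.to_quotient _
  have hpS' : IsPGroup p (⊤ : Subgroup (S ⧸ (E.hyperfocalSubgroup p).subgroupOf S)) :=
    hpq.to_subgroup _
  haveI : Group.IsNilpotent (S ⧸ (E.hyperfocalSubgroup p).subgroupOf S) := hpq.isNilpotent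
  obtain ⟨n, hn⟩ := (inferInstance :
    Group.IsSolvable (S ⧸ (E.hyperfocalSubgroup p).subgroupOf S)).solvable
  intro R hR hne _ E' hE'
  have hp' : IsPGroup p (⊤ : Subgroup ((⊤ : Subgroup (S ⧸ (E.hyperfocalSubgroup p).subgroupOf S))
      ⧸ R.subgroupOf ⊤)) := (hpS'.to_quotient _).to_subgroup _
  refine core_ne_bot_of_chain hpS' Q hQsat
    (fun i : Fin (n + 1) => derivedSeries (S ⧸ (E.hyperfocalSubgroup p).subgroupOf S) (n - i))
    ?_ ?_ ?_ ?_ hR hne hp' _ E' hE'
  · show derivedSeries _ (n - ((0 : Fin (n + 1)) : ℕ)) = ⊥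
    rw [Fin.val_zero, Nat.sub_zero]
    exact hn
  · show derivedSeries _ (n - ((Fin.last n : Fin (n + 1)) : ℕ)) = ⊤
    rw [Fin.val_last, Nat.sub_self]
    rfl
  · intro i
    exact stronglyClosed_of_normal_factor hS E hE le_rfl θ hker hsurj Q hQ _
  · intro i
    show ⁅derivedSeries _ (n - ((i.succ : Fin (n + 1)) : ℕ)),
      derivedSeries _ (n - ((i.succ : Fin (n + 1)) : ℕ))⁆ ≤
      derivedSeries _ (n - ((Fin.castSucc i : Fin (n + 1)) : ℕ))
    have h1 : n - ((Fin.castSucc i : Fin (n + 1)) : ℕ) =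
        (n - ((i.succ : Fin (n + 1)) : ℕ)) + 1 := by
      have := i.2
      simp only [Fin.val_succ, Fin.val_castSucc]
      omega
    rw [h1, derivedSeries_succ]

/-- If the `p'`-residual subsystem of `F` is solvable, so is `F`. -/
theorem solvable_of_pPrimeResidual {S : Subgroup Ω} [Finite S] (p : ℕ) [Fact p.Prime]
    (hS : IsPGroup p S) (F : FusionSystem S) (hF : F.IsSaturated p) (E : FusionSystem S)
    (hE : F.IsPPrimeResidual p E) (hEs : E.IsSolvableSystem) : F.IsSolvableSystem := by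
  have hwn : F.IsWeaklyNormalIn F p := ⟨hF, hF, Cfsg.Agent.Lib.helper87.CenNormal.invariant_self F⟩
  have hEn : E.IsNormalIn F p := Cfsg.Agent.S5141.result p hS F hF F hwn E hE
  have hker : ∀ s : S, (1 : S →* Unit) s = 1 ↔ (s : Ω) ∈ S := fun s => ⟨fun _ => s.2, fun _ => rfl⟩
  have hrange : (1 : S →* Unit).range = ⊥ := Subsingleton.elim _ _
  have hSsc : F.StronglyClosed S := ⟨le_rfl, fun R _ φ hφ x => (F.le_of_mem hφ).2 x⟩
  obtain ⟨Q, hQ⟩ := Cfsg.Agent.Lib.helper87.exists_factorSystem F S hSsc (1 : S →* Unit) hker ⊥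
    hrange
  rw [Cfsg.Agent.S5159.result p hS F hF E hEn (1 : S →* Unit) Q hQ]
  exact ⟨hEs, solvable_of_eq_bot Q rfl⟩

/-- A saturated fusion system whose residual series terminates is a solvable system. -/
theorem solvable_of_terminating {S : Subgroup Ω} {F : FusionSystem S} {p : ℕ}
    (h : F.HasTerminatingResidualSeries p) :
    Finite S → Fact p.Prime → IsPGroup p S → F.IsSaturated p → F.IsSolvableSystem := by
  induction h with
  | trivial F p hS => exact fun _ _ _ _ => solvable_of_eq_bot F hS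
  | step F E p D hE hD _ ih =>
    intro hfin hp hS hF
    have hTS : E.hyperfocalSubgroup p ≤ _ := hyperfocal_le E p
    haveI : Finite ↥(E.hyperfocalSubgroup p) := Cfsg.Agent.Lib.helper89.finite_of_le hTS
    have hDs := ih inferInstance hp (hS.to_le hTS) hD.1
    exact solvable_of_pPrimeResidual p hS F hF E hE (solvable_of_pResidual p hS E hE.1 D hD hDs)

end Cfsg.Agent.Lib.helper88.RS
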