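import Mathlib

/-!
# S2687 piece FC-32, matrix part (helper88)

`FC32P y`: a determinant-one `3 × 3` matrix `s` over a field with 64 elements that commutes with `y`
up to a scalar and whose 8th power is scalar is itself scalar.  It holds for `d = diag(1, ω, ω²)`,
for the permutation matrix `c` of a 3-cycle, and for `d * c`, `d * (d * c)`.
-/

set_option autoImplicit false
set_option linter.unusedSimpArgs false

namespace Cfsg.Agent.Lib.helper88.S2687

open Matrix

variable {F : Type*} [Field F]

/-- the property used for the four elements of order 3 -/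
def FC32P (y : Matrix (Fin 3) (Fin 3) F) : Prop :=
  ∀ (s : Matrix (Fin 3) (Fin 3) F) (l m : F), s.det = 1 → s * y = l • (y * s) →
    s ^ 8 = m • (1 : Matrix (Fin 3) (Fin 3) F) → s = m ^ 8 • (1 : Matrix (Fin 3) (Fin 3) F)

theorem fc32_pow_comm (s y : Matrix (Fin 3) (Fin 3) F) (l : F) (h : s * y = l • (y * s)) (k : ℕ) :
    s ^ k * y = l ^ k • (y * s ^ k) := by
  induction k with
  | zero => simp
  | succ k ih =>
    calc s ^ (k + 1) * y = s ^ k * (s * y) := by rw [pow_succ, mul_assoc]
      _ = l • (s ^ k * y * s) := by rw [h, Matrix.mul_smul, mul_assoc]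
      _ = l • (l ^ k • (y * s ^ k) * s) := by rw [ih]
      _ = l ^ (k + 1) • (y * s ^ (k + 1)) := by
        rw [Matrix.smul_mul, smul_smul, mul_assoc, ← pow_succ, ← pow_succ']

theorem fc32P_diag (h63 : ∀ x : F, x ≠ 0 → x ^ 63 = 1) (v : Fin 3 → F)
    (hv : Function.Injective v) (hv0 : v 0 ≠ 0) : FC32P (Matrix.diagonal v) := by
  intro s l m hdet h h8
  have hm : m ≠ 0 := by
    intro h0
    have h1 := congrArg Matrix.det h8
    rw [Matrix.det_pow, hdet, one_pow, h0, zero_smul, Matrix.det_zero] at h1
    exact one_ne_zero h1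
  have h1 := fc32_pow_comm s (Matrix.diagonal v) l h 8
  rw [h8] at h1
  have h2 := congrFun (congrFun h1 0) 0
  simp only [Matrix.smul_mul, Matrix.mul_smul, Matrix.one_mul, Matrix.mul_one, Matrix.smul_apply,
    Matrix.diagonal_apply_eq, smul_eq_mul] at h2
  have hl8 : l ^ 8 = 1 := by
    have h3 : m * v 0 * (l ^ 8 - 1) = 0 := by linear_combination -h2
    rcases mul_eq_zero.mp h3 with h4 | h4
    · exact absurd h4 (mul_ne_zero hm hv0)
    · exact sub_eq_zero.mp h4
  have hl0 : l ≠ 0 := by
    rintro rfl
    simp at hl8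
  have hl : l = 1 := by
    have h3 := h63 l hl0
    calc l = l ^ 63 * l := by rw [h3, one_mul]
      _ = (l ^ 8) ^ 8 := by ring
      _ = 1 := by rw [hl8, one_pow]
  rw [hl, one_smul] at h
  have hoff : ∀ a b, a ≠ b → s a b = 0 := by
    intro a b hab
    have h3 := congrFun (congrFun h a) b
    rw [Matrix.mul_diagonal, Matrix.diagonal_mul] at h3
    have h4 : s a b * (v b - v a) = 0 := by linear_combination h3
    rcases mul_eq_zero.mp h4 with h5 | h5
    · exact h5
    · exact absurd (hv (sub_eq_zero.mp h5)).symm hab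
  have hs : s = Matrix.diagonal (fun i => s i i) := by
    ext a b
    by_cases hab : a = b
    · subst hab
      simp
    · rw [hoff a b hab, Matrix.diagonal_apply_ne _ hab]
  have hdiag : ∀ i, s i i = m ^ 8 := by
    intro i
    have h5 : (s ^ 8) i i = (s i i) ^ 8 := by
      conv_lhs => rw [hs, Matrix.diagonal_pow, Matrix.diagonal_apply_eq]
      rfl
    rw [h8] at h5
    simp only [Matrix.smul_apply, Matrix.one_apply_eq, smul_eq_mul, mul_one] at h5
    have hne : s i i ≠ 0 := by
      intro h0
      rw [h0] at h5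
      simp at h5
      exact hm h5
    have h6 := h63 _ hne
    calc s i i = (s i i) ^ 63 * s i i := by rw [h6, one_mul]
      _ = ((s i i) ^ 8) ^ 8 := by ring
      _ = m ^ 8 := by rw [← h5]
  rw [hs]
  ext a b
  by_cases hab : a = b
  · subst hab
    simp [hdiag]
  · simp [Matrix.diagonal_apply_ne _ hab, Matrix.one_apply_ne hab]

theorem fc32P_conj (y y₀ g g' : Matrix (Fin 3) (Fin 3) F) (hg : g' * g = 1)
    (hy : y * g = g * y₀) (h0 : FC32P y₀) : FC32P y := by
  intro s l m hdet h h8
  have hg' : g * g' = 1 := mul_eq_one_comm.mp hg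
  have hy0 : y₀ = g' * y * g := by
    rw [mul_assoc, hy, ← mul_assoc, hg, Matrix.one_mul]
  have hyg : y = g * y₀ * g' := by
    rw [← hy, mul_assoc, hg', Matrix.mul_one]
  have key := h0 (g' * s * g) l m ?_ ?_ ?_
  · calc s = g * (g' * s * g) * g' := by
          rw [← mul_assoc, ← mul_assoc, hg', Matrix.one_mul, mul_assoc, hg', Matrix.mul_one]
      _ = g * (m ^ 8 • (1 : Matrix (Fin 3) (Fin 3) F)) * g' := by rw [key]
      _ = m ^ 8 • (1 : Matrix (Fin 3) (Fin 3) F) := by
          rw [Matrix.mul_smul, Matrix.mul_one, Matrix.smul_mul, hg']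
  · rw [Matrix.det_mul, Matrix.det_mul, hdet, mul_one, ← Matrix.det_mul, hg, Matrix.det_one]
  · have e1 : g' * (s * y) * g = g' * s * g * y₀ := by
      rw [hyg]
      simp only [Matrix.mul_assoc]
      rw [hg, Matrix.mul_one]
    have e2 : g' * (y * s) * g = y₀ * (g' * s * g) := by
      rw [hy0]
      simp only [Matrix.mul_assoc]
      rw [← Matrix.mul_assoc g g', hg', Matrix.one_mul]
    rw [← e1, h, Matrix.mul_smul, Matrix.smul_mul, e2]
  · have hsc : SemiconjBy g' s (g' * s * g) := by
      unfold SemiconjBy
      rw [mul_assoc, mul_assoc, hg', Matrix.mul_one]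
    have h1 := hsc.pow_right 8
    unfold SemiconjBy at h1
    calc (g' * s * g) ^ 8 = (g' * s * g) ^ 8 * g' * g := by
          rw [Matrix.mul_assoc ((g' * s * g) ^ 8) g' g, hg, Matrix.mul_one]
      _ = g' * s ^ 8 * g := by rw [← h1]
      _ = m • (1 : Matrix (Fin 3) (Fin 3) F) := by
          rw [h8, Matrix.mul_smul, Matrix.mul_one, Matrix.smul_mul, hg]

section omega

variable (ω : F)

/-- the diagonal element -/
def fc32d : Matrix (Fin 3) (Fin 3) F := Matrix.diagonal ![1, ω, ω ^ 2]

/-- the permutation matrix of a 3-cycle -/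
def fc32c : Matrix (Fin 3) (Fin 3) F := !![0, 0, 1; 1, 0, 0; 0, 1, 0]

theorem fc32_omega_facts (hω : ω ^ 2 + ω + 1 = 0) (h2 : (2 : F) = 0) :
    ω ≠ 0 ∧ ω ≠ 1 ∧ ω ^ 2 ≠ 1 ∧ ω ^ 2 ≠ ω ∧ ω ^ 3 = 1 := by
  have h0 : ω ≠ 0 := by
    rintro rfl
    simp at hω
  have h1 : ω ≠ 1 := by
    rintro rfl
    have : (1 : F) = 0 := by linear_combination hω - h2
    exact one_ne_zero this
  refine ⟨h0, h1, ?_, ?_, ?_⟩
  · intro h
    apply h0
    linear_combination hω - h - h2
  · intro h
    have h3 : ω * (ω - 1) = 0 := by linear_combination h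
    rcases mul_eq_zero.mp h3 with h4 | h4
    · exact h0 h4
    · exact h1 (sub_eq_zero.mp h4)
  · linear_combination (ω - 1) * hω

theorem fc32_v_inj (hω : ω ^ 2 + ω + 1 = 0) (h2 : (2 : F) = 0) :
    Function.Injective ![1, ω, ω ^ 2] := by
  obtain ⟨h0, h1, h21, h2ω, -⟩ := fc32_omega_facts ω hω h2
  intro a b hab
  fin_cases a <;> fin_cases b
  · rfl
  · exact absurd (show (1 : F) = ω from hab) (Ne.symm h1)
  · exact absurd (show (1 : F) = ω ^ 2 from hab) (Ne.symm h21)
  · exact absurd (show ω = (1 : F) from hab) h1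
  · rfl
  · exact absurd (show ω = ω ^ 2 from hab) (Ne.symm h2ω)
  · exact absurd (show ω ^ 2 = (1 : F) from hab) h21
  · exact absurd (show ω ^ 2 = ω from hab) h2ω
  · rfl

theorem fc32P_d (h63 : ∀ x : F, x ≠ 0 → x ^ 63 = 1) (hω : ω ^ 2 + ω + 1 = 0) (h2 : (2 : F) = 0) :
    FC32P (fc32d ω) :=
  fc32P_diag h63 _ (fc32_v_inj ω hω h2) (by simp)

theorem fc32_cW (hω : ω ^ 2 + ω + 1 = 0) (h2 : (2 : F) = 0) :
    fc32c * (!![1, 1, 1; 1, ω ^ 2, ω; 1, ω, ω ^ 2] : Matrix (Fin 3) (Fin 3) F)
      = !![1, 1, 1; 1, ω ^ 2, ω; 1, ω, ω ^ 2] * fc32d ω := by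
  unfold fc32c fc32d
  ext i j
  fin_cases i <;> fin_cases j
  · simp [Matrix.mul_apply, Fin.sum_univ_three, Matrix.diagonal_apply, Matrix.one_apply] <;>
      first
      | linear_combination (0) * hω + (0) * h2
      | linear_combination (0) * hω + (0) * h2
  · simp [Matrix.mul_apply, Fin.sum_univ_three, Matrix.diagonal_apply, Matrix.one_apply] <;>
      first
      | linear_combination (0) * hω + (0) * h2
      | linear_combination (0) * hω + (0) * h2
  · simp [Matrix.mul_apply, Fin.sum_univ_three, Matrix.diagonal_apply, Matrix.one_apply] <;>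
      first
      | linear_combination (0) * hω + (0) * h2
      | linear_combination (0) * hω + (0) * h2
  · simp [Matrix.mul_apply, Fin.sum_univ_three, Matrix.diagonal_apply, Matrix.one_apply] <;>
      first
      | linear_combination (0) * hω + (0) * h2
      | linear_combination (0) * hω + (0) * h2
  · simp [Matrix.mul_apply, Fin.sum_univ_three, Matrix.diagonal_apply, Matrix.one_apply] <;>
      first
      | linear_combination ((1) + (-1)*ω) * hω + (0) * h2
      | linear_combination ((-1) + (1)*ω) * hω + (0) * h2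
  · simp [Matrix.mul_apply, Fin.sum_univ_three, Matrix.diagonal_apply, Matrix.one_apply] <;>
      first
      | linear_combination ((1) + (-1)*ω) * hω + (0) * h2
      | linear_combination ((-1) + (1)*ω) * hω + (0) * h2
  · simp [Matrix.mul_apply, Fin.sum_univ_three, Matrix.diagonal_apply, Matrix.one_apply] <;>
      first
      | linear_combination (0) * hω + (0) * h2
      | linear_combination (0) * hω + (0) * h2
  · simp [Matrix.mul_apply, Fin.sum_univ_three, Matrix.diagonal_apply, Matrix.one_apply] <;>
      first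
      | linear_combination (0) * hω + (0) * h2
      | linear_combination (0) * hω + (0) * h2
  · simp [Matrix.mul_apply, Fin.sum_univ_three, Matrix.diagonal_apply, Matrix.one_apply] <;>
      first
      | linear_combination ((1)*ω + (-1)*ω^2) * hω + (0) * h2
      | linear_combination ((-1)*ω + (1)*ω^2) * hω + (0) * h2

theorem fc32_WW (hω : ω ^ 2 + ω + 1 = 0) (h2 : (2 : F) = 0) :
    (!![1, 1, 1; 1, ω, ω ^ 2; 1, ω ^ 2, ω] : Matrix (Fin 3) (Fin 3) F)
      * !![1, 1, 1; 1, ω ^ 2, ω; 1, ω, ω ^ 2] = 1 := by
  ext i j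
  fin_cases i <;> fin_cases j
  · simp [Matrix.mul_apply, Fin.sum_univ_three, Matrix.diagonal_apply, Matrix.one_apply] <;>
      first
      | linear_combination (0) * hω + ((1)) * h2
      | linear_combination (0) * hω + ((-1)) * h2
  · simp [Matrix.mul_apply, Fin.sum_univ_three, Matrix.diagonal_apply, Matrix.one_apply] <;>
      first
      | linear_combination ((1)) * hω + (0) * h2
      | linear_combination ((-1)) * hω + (0) * h2
  · simp [Matrix.mul_apply, Fin.sum_univ_three, Matrix.diagonal_apply, Matrix.one_apply] <;>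
      first
      | linear_combination ((1)) * hω + (0) * h2
      | linear_combination ((-1)) * hω + (0) * h2
  · simp [Matrix.mul_apply, Fin.sum_univ_three, Matrix.diagonal_apply, Matrix.one_apply] <;>
      first
      | linear_combination ((1)) * hω + (0) * h2
      | linear_combination ((-1)) * hω + (0) * h2
  · simp [Matrix.mul_apply, Fin.sum_univ_three, Matrix.diagonal_apply, Matrix.one_apply] <;>
      first
      | linear_combination ((-2) + (2)*ω) * hω + ((1)) * h2
      | linear_combination ((2) + (-2)*ω) * hω + ((-1)) * h2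
  · simp [Matrix.mul_apply, Fin.sum_univ_three, Matrix.diagonal_apply, Matrix.one_apply] <;>
      first
      | linear_combination ((1) + (-1)*ω + (1)*ω^2) * hω + (0) * h2
      | linear_combination ((-1) + (1)*ω + (-1)*ω^2) * hω + (0) * h2
  · simp [Matrix.mul_apply, Fin.sum_univ_three, Matrix.diagonal_apply, Matrix.one_apply] <;>
      first
      | linear_combination ((1)) * hω + (0) * h2
      | linear_combination ((-1)) * hω + (0) * h2
  · simp [Matrix.mul_apply, Fin.sum_univ_three, Matrix.diagonal_apply, Matrix.one_apply] <;>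
      first
      | linear_combination ((1) + (-1)*ω + (1)*ω^2) * hω + (0) * h2
      | linear_combination ((-1) + (1)*ω + (-1)*ω^2) * hω + (0) * h2
  · simp [Matrix.mul_apply, Fin.sum_univ_three, Matrix.diagonal_apply, Matrix.one_apply] <;>
      first
      | linear_combination ((-2) + (2)*ω) * hω + ((1)) * h2
      | linear_combination ((2) + (-2)*ω) * hω + ((-1)) * h2

theorem fc32_TT (hω : ω ^ 2 + ω + 1 = 0) (h2 : (2 : F) = 0) :
    (Matrix.diagonal ![1, ω ^ 2, 1] : Matrix (Fin 3) (Fin 3) F) * Matrix.diagonal ![1, ω, 1] = 1 := by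
  ext i j
  fin_cases i <;> fin_cases j
  · simp [Matrix.mul_apply, Fin.sum_univ_three, Matrix.diagonal_apply, Matrix.one_apply] <;>
      first
      | linear_combination (0) * hω + (0) * h2
      | linear_combination (0) * hω + (0) * h2
  · simp [Matrix.mul_apply, Fin.sum_univ_three, Matrix.diagonal_apply, Matrix.one_apply] <;>
      first
      | linear_combination (0) * hω + (0) * h2
      | linear_combination (0) * hω + (0) * h2
  · simp [Matrix.mul_apply, Fin.sum_univ_three, Matrix.diagonal_apply, Matrix.one_apply] <;>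
      first
      | linear_combination (0) * hω + (0) * h2
      | linear_combination (0) * hω + (0) * h2
  · simp [Matrix.mul_apply, Fin.sum_univ_three, Matrix.diagonal_apply, Matrix.one_apply] <;>
      first
      | linear_combination (0) * hω + (0) * h2
      | linear_combination (0) * hω + (0) * h2
  · simp [Matrix.mul_apply, Fin.sum_univ_three, Matrix.diagonal_apply, Matrix.one_apply] <;>
      first
      | linear_combination ((-1) + (1)*ω) * hω + (0) * h2
      | linear_combination ((1) + (-1)*ω) * hω + (0) * h2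
  · simp [Matrix.mul_apply, Fin.sum_univ_three, Matrix.diagonal_apply, Matrix.one_apply] <;>
      first
      | linear_combination (0) * hω + (0) * h2
      | linear_combination (0) * hω + (0) * h2
  · simp [Matrix.mul_apply, Fin.sum_univ_three, Matrix.diagonal_apply, Matrix.one_apply] <;>
      first
      | linear_combination (0) * hω + (0) * h2
      | linear_combination (0) * hω + (0) * h2
  · simp [Matrix.mul_apply, Fin.sum_univ_three, Matrix.diagonal_apply, Matrix.one_apply] <;>
      first
      | linear_combination (0) * hω + (0) * h2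
      | linear_combination (0) * hω + (0) * h2
  · simp [Matrix.mul_apply, Fin.sum_univ_three, Matrix.diagonal_apply, Matrix.one_apply] <;>
      first
      | linear_combination (0) * hω + (0) * h2
      | linear_combination (0) * hω + (0) * h2

theorem fc32_dcT (hω : ω ^ 2 + ω + 1 = 0) (h2 : (2 : F) = 0) :
    fc32d ω * fc32c * (Matrix.diagonal ![1, ω, 1] : Matrix (Fin 3) (Fin 3) F)
      = Matrix.diagonal ![1, ω, 1] * fc32c := by
  unfold fc32c fc32d
  ext i j
  fin_cases i <;> fin_cases j
  · simp [Matrix.mul_apply, Fin.sum_univ_three, Matrix.diagonal_apply, Matrix.one_apply] <;>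
      first
      | linear_combination (0) * hω + (0) * h2
      | linear_combination (0) * hω + (0) * h2
  · simp [Matrix.mul_apply, Fin.sum_univ_three, Matrix.diagonal_apply, Matrix.one_apply] <;>
      first
      | linear_combination (0) * hω + (0) * h2
      | linear_combination (0) * hω + (0) * h2
  · simp [Matrix.mul_apply, Fin.sum_univ_three, Matrix.diagonal_apply, Matrix.one_apply] <;>
      first
      | linear_combination (0) * hω + (0) * h2
      | linear_combination (0) * hω + (0) * h2
  · simp [Matrix.mul_apply, Fin.sum_univ_three, Matrix.diagonal_apply, Matrix.one_apply] <;>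
      first
      | linear_combination (0) * hω + (0) * h2
      | linear_combination (0) * hω + (0) * h2
  · simp [Matrix.mul_apply, Fin.sum_univ_three, Matrix.diagonal_apply, Matrix.one_apply] <;>
      first
      | linear_combination (0) * hω + (0) * h2
      | linear_combination (0) * hω + (0) * h2
  · simp [Matrix.mul_apply, Fin.sum_univ_three, Matrix.diagonal_apply, Matrix.one_apply] <;>
      first
      | linear_combination (0) * hω + (0) * h2
      | linear_combination (0) * hω + (0) * h2
  · simp [Matrix.mul_apply, Fin.sum_univ_three, Matrix.diagonal_apply, Matrix.one_apply] <;>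
      first
      | linear_combination (0) * hω + (0) * h2
      | linear_combination (0) * hω + (0) * h2
  · simp [Matrix.mul_apply, Fin.sum_univ_three, Matrix.diagonal_apply, Matrix.one_apply] <;>
      first
      | linear_combination ((-1) + (1)*ω) * hω + (0) * h2
      | linear_combination ((1) + (-1)*ω) * hω + (0) * h2
  · simp [Matrix.mul_apply, Fin.sum_univ_three, Matrix.diagonal_apply, Matrix.one_apply] <;>
      first
      | linear_combination (0) * hω + (0) * h2
      | linear_combination (0) * hω + (0) * h2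

theorem fc32_ddcT (hω : ω ^ 2 + ω + 1 = 0) (h2 : (2 : F) = 0) :
    fc32d ω * (fc32d ω * fc32c) * (Matrix.diagonal ![1, ω, 1] : Matrix (Fin 3) (Fin 3) F)
      = Matrix.diagonal ![1, ω, 1] * (fc32d ω * fc32c) := by
  unfold fc32c fc32d
  ext i j
  fin_cases i <;> fin_cases j
  · simp [Matrix.mul_apply, Fin.sum_univ_three, Matrix.diagonal_apply, Matrix.one_apply] <;>
      first
      | linear_combination (0) * hω + (0) * h2
      | linear_combination (0) * hω + (0) * h2
  · simp [Matrix.mul_apply, Fin.sum_univ_three, Matrix.diagonal_apply, Matrix.one_apply] <;>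
      first
      | linear_combination (0) * hω + (0) * h2
      | linear_combination (0) * hω + (0) * h2
  · simp [Matrix.mul_apply, Fin.sum_univ_three, Matrix.diagonal_apply, Matrix.one_apply] <;>
      first
      | linear_combination (0) * hω + (0) * h2
      | linear_combination (0) * hω + (0) * h2
  · simp [Matrix.mul_apply, Fin.sum_univ_three, Matrix.diagonal_apply, Matrix.one_apply] <;>
      first
      | linear_combination (0) * hω + (0) * h2
      | linear_combination (0) * hω + (0) * h2
  · simp [Matrix.mul_apply, Fin.sum_univ_three, Matrix.diagonal_apply, Matrix.one_apply] <;>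
      first
      | linear_combination (0) * hω + (0) * h2
      | linear_combination (0) * hω + (0) * h2
  · simp [Matrix.mul_apply, Fin.sum_univ_three, Matrix.diagonal_apply, Matrix.one_apply] <;>
      first
      | linear_combination (0) * hω + (0) * h2
      | linear_combination (0) * hω + (0) * h2
  · simp [Matrix.mul_apply, Fin.sum_univ_three, Matrix.diagonal_apply, Matrix.one_apply] <;>
      first
      | linear_combination (0) * hω + (0) * h2
      | linear_combination (0) * hω + (0) * h2
  · simp [Matrix.mul_apply, Fin.sum_univ_three, Matrix.diagonal_apply, Matrix.one_apply] <;>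
      first
      | linear_combination ((-1)*ω^2 + (1)*ω^3) * hω + (0) * h2
      | linear_combination ((1)*ω^2 + (-1)*ω^3) * hω + (0) * h2
  · simp [Matrix.mul_apply, Fin.sum_univ_three, Matrix.diagonal_apply, Matrix.one_apply] <;>
      first
      | linear_combination (0) * hω + (0) * h2
      | linear_combination (0) * hω + (0) * h2

theorem fc32P_c (h63 : ∀ x : F, x ≠ 0 → x ^ 63 = 1) (hω : ω ^ 2 + ω + 1 = 0) (h2 : (2 : F) = 0) :
    FC32P (fc32c : Matrix (Fin 3) (Fin 3) F) :=
  fc32P_conj _ _ _ _ (fc32_WW ω hω h2) (fc32_cW ω hω h2) (fc32P_d ω h63 hω h2)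

theorem fc32P_dc (h63 : ∀ x : F, x ≠ 0 → x ^ 63 = 1) (hω : ω ^ 2 + ω + 1 = 0) (h2 : (2 : F) = 0) :
    FC32P (fc32d ω * fc32c) :=
  fc32P_conj _ _ _ _ (fc32_TT ω hω h2) (fc32_dcT ω hω h2) (fc32P_c ω h63 hω h2)

theorem fc32P_ddc (h63 : ∀ x : F, x ≠ 0 → x ^ 63 = 1) (hω : ω ^ 2 + ω + 1 = 0) (h2 : (2 : F) = 0) :
    FC32P (fc32d ω * (fc32d ω * fc32c)) :=
  fc32P_conj _ _ _ _ (fc32_TT ω hω h2) (fc32_ddcT ω hω h2) (fc32P_dc ω h63 hω h2)

end omega

end Cfsg.Agent.Lib.helper88.S2687
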