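import Cfsg.Agent.Lib.helper48.LBRefl
import Cfsg.Agent.Lib.helper50.PSUTransfer
import Cfsg.Agent.Lib.helper50.PSUF4
import Cfsg.Agent.Lib.helper48.PSUOut
import Cfsg.Agent.S0283
import Cfsg.Agent.Lib.helper88.S2687FC32a
import Cfsg.Agent.Lib.helper39.S2687FCCNT

/-!
# S2687 piece FC-32 (helper88): `NoCore p (fieldPSU σ)` for `PSU_3(2^p)`

Here `p = 3`, `|F| = 64`, and the fixed points have order dividing `648`.  An invariant subgroup `M`
of order prime to `3` has order dividing `8`; the images of `d = diag(1, ω, ω²)` and of the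
permutation matrix `c` are fixed points, so they normalise `M`, and no nontrivial element of `M`
commutes with the image of `d`, `c`, `d c` or `d² c`.
-/

set_option autoImplicit false

namespace Cfsg.Agent.Lib.helper88.S2687

open Matrix Cfsg
open Cfsg.Agent.Lib.helper50
open Cfsg.Agent.Lib.helper48.LB
open Cfsg.Agent.Lib.helper48.AbsBal (fixG)
open Cfsg.Agent.Lib.helper99 (suMat)

universe u v

variable {n q : ℕ} {F : Type u} [Field F] [Fintype F]

theorem fc32_field (hF : Fintype.card F = 64) :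
    (∀ x : F, x ≠ 0 → x ^ 63 = 1) ∧ (2 : F) = 0 ∧ ∃ ω : F, ω ^ 2 + ω + 1 = 0 := by
  classical
  refine ⟨?_, ?_, ?_⟩
  · intro x hx
    have h := FiniteField.pow_card_sub_one_eq_one x hx
    rwa [hF] at h
  · have h := FiniteField.cast_card_eq_zero F
    rw [hF] at h
    have h' : (2 : F) ^ 6 = 0 := by
      have e : ((64 : ℕ) : F) = (2 : F) ^ 6 := by norm_num
      rw [← e]
      exact h
    exact pow_eq_zero_iff (by norm_num) |>.mp h'
  · have hcard : Fintype.card Fˣ = 63 := by rw [Fintype.card_units, hF]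
    have : Fact (Nat.Prime 3) := ⟨by norm_num⟩
    obtain ⟨x, hx⟩ := exists_prime_orderOf_dvd_card 3
      (by rw [hcard]; norm_num : 3 ∣ Fintype.card Fˣ)
    refine ⟨(x : F), ?_⟩
    have h3 : (x : F) ^ 3 = 1 := by
      have h := pow_orderOf_eq_one x
      rw [hx] at h
      have h' := congrArg Units.val h
      simpa using h'
    have h1 : (x : F) ≠ 1 := by
      intro h
      have h' : x = 1 := Units.ext h
      rw [h', orderOf_one] at hx
      norm_num at hx
    have h4 : ((x : F) - 1) * ((x : F) ^ 2 + x + 1) = 0 := by linear_combination h3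
    rcases mul_eq_zero.mp h4 with h5 | h5
    · exact absurd (sub_eq_zero.mp h5) h1
    · exact h5

omit [Fintype F] in
theorem fc32_sigma_fix (σ : F ≃+* F) (hσ : orderOf σ = 3) (ω : F) (hω : ω ^ 2 + ω + 1 = 0)
    (h2 : (2 : F) = 0) : σ ω = ω := by
  obtain ⟨h0, h1, h21, h2ω, h3⟩ := fc32_omega_facts ω hω h2
  have hσω : (σ ω) ^ 2 + σ ω + 1 = 0 := by
    have h := congrArg σ hω
    simpa using h
  have hcase : σ ω = ω ∨ σ ω = ω ^ 2 := by
    have h : (σ ω - ω) * (σ ω - ω ^ 2) = 0 := by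
      linear_combination hσω - (σ ω) * hω + (ω - 1) * hω
    rcases mul_eq_zero.mp h with h4 | h4
    · exact Or.inl (sub_eq_zero.mp h4)
    · exact Or.inr (sub_eq_zero.mp h4)
  rcases hcase with h | h
  · exact h
  · exfalso
    have h4 : (σ ^ 3) ω = ω := by
      rw [← hσ, pow_orderOf_eq_one]
      rfl
    have h5 : (σ ^ 3) ω = σ (σ (σ ω)) := rfl
    rw [h5, h, map_pow, h, map_pow, map_pow, h] at h4
    apply h2ω
    calc ω ^ 2 = ((ω ^ 2) ^ 2) ^ 2 * (ω ^ 3) ^ 2 := by rw [h3]; ring_nf; rw [show ω ^ 8 = ω ^ 2 * (ω ^ 3) ^ 2 by ring, h3]; ring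
      _ = ((ω ^ 2) ^ 2) ^ 2 := by rw [h3]; ring
      _ = ω := h4

theorem fc32_suMat_pow (s : ↥(SU n F q)) (k : ℕ) : suMat (s ^ k) = suMat s ^ k := by
  induction k with
  | zero => simp [Cfsg.Agent.Lib.helper99.suMat_one]
  | succ k ih => rw [pow_succ, pow_succ, Cfsg.Agent.Lib.helper99.suMat_mul, ih]

theorem fc32_exists_d (ω : F) (h3 : ω ^ 3 = 1) (hq : 3 ∣ q + 1) :
    ∃ D : ↥(SU 3 F q), suMat D = fc32d ω := by
  have hωq : ω * ω ^ q = 1 := by
    obtain ⟨k, hk⟩ := hq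
    rw [← pow_succ', hk, pow_mul, h3, one_pow]
  refine ⟨Cfsg.Agent.Lib.helper99.mkSU (fc32d ω) ?_ ?_, rfl⟩
  · unfold fc32d
    rw [Matrix.det_diagonal, Fin.prod_univ_three]
    simp
    linear_combination h3
  · intro u v
    unfold hermForm fc32d
    simp only [Fin.sum_univ_three, Matrix.mulVec_diagonal]
    simp [mul_pow]
    linear_combination (u 1 * v 1 ^ q) * hωq + (u 2 * v 2 ^ q) * (ω * ω ^ q + 1) * hωq

theorem fc32_exists_c : ∃ C : ↥(SU 3 F q), suMat C = fc32c := by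
  refine ⟨Cfsg.Agent.Lib.helper99.mkSU fc32c ?_ ?_, rfl⟩
  · unfold fc32c
    rw [Matrix.det_fin_three]
    simp
  · intro u v
    unfold hermForm fc32c
    simp [Fin.sum_univ_three, Matrix.mulVec, dotProduct]
    ring

theorem fc32_arith (c : ℕ) (h8 : c ∣ 8) (hmod : c % 3 = 1) : c = 1 ∨ c = 4 := by
  have hle : c ≤ 8 := Nat.le_of_dvd (by norm_num) h8
  interval_cases c <;> omega

/-- the key claim: an element of order dividing 8 commuting with the image of `Y` is trivial -/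
theorem fc32_claim (hF : Fintype.card F = q ^ 2) (Y : ↥(SU 3 F q)) (hY : FC32P (suMat Y))
    (k : PSU 3 F q) (hk : k * QuotientGroup.mk Y = QuotientGroup.mk Y * k) (hk8 : k ^ 8 = 1) :
    k = 1 := by
  obtain ⟨s, rfl⟩ := QuotientGroup.mk_surjective k
  have hk' : (QuotientGroup.mk (Y * s) : PSU 3 F q) = QuotientGroup.mk (s * Y) := by
    rw [QuotientGroup.mk_mul, QuotientGroup.mk_mul]
    exact hk.symm
  rw [QuotientGroup.eq] at hk'
  obtain ⟨ζ, hζ⟩ := central_scalar hF 0 _ hk'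
  have e1 : suMat s * suMat Y = ζ • (suMat Y * suMat s) := by
    have h1 : s * Y = (Y * s) * ((Y * s)⁻¹ * (s * Y)) := by group
    have h2 := congrArg suMat h1
    rw [Cfsg.Agent.Lib.helper99.suMat_mul, Cfsg.Agent.Lib.helper99.suMat_mul (Y * s),
      Cfsg.Agent.Lib.helper99.suMat_mul Y s] at h2
    rw [h2]
    have h3 : suMat ((Y * s)⁻¹ * (s * Y)) = ζ • (1 : Matrix (Fin 3) (Fin 3) F) := hζ
    rw [h3, Matrix.mul_smul, Matrix.mul_one]
  have hk8' : s ^ 8 ∈ Subgroup.center ↥(SU 3 F q) := by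
    rw [← QuotientGroup.eq_one_iff]
    exact hk8
  obtain ⟨μ, hμ⟩ := central_scalar hF 0 _ hk8'
  have e2 : suMat s ^ 8 = μ • (1 : Matrix (Fin 3) (Fin 3) F) := by
    rw [← fc32_suMat_pow]
    exact hμ
  have key := hY (suMat s) ζ μ (Cfsg.Agent.Lib.helper99.suMat_det s) e1 e2
  rw [QuotientGroup.eq_one_iff, Subgroup.mem_center_iff]
  intro t
  apply Cfsg.Agent.Lib.helper99.suMat_inj
  rw [Cfsg.Agent.Lib.helper99.suMat_mul, Cfsg.Agent.Lib.helper99.suMat_mul, key]
  simp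

/-- FC-32 with the divisibility of the number of fixed points (piece FC-CNT) as a hypothesis. -/
theorem field_noCore_32_of (hF : Fintype.card F = q ^ 2) {p : ℕ} [Fact p.Prime] (hp2 : p ≠ 2)
    (hq₀ : q = 2 ^ p) (σ : F ≃+* F) (hσ : orderOf σ = p)
    (hcnt : Nat.card (fixG (fieldPSU σ : MulAut (PSU 3 F q))) ∣
      2 ^ (3 * (3 - 1) / 2)
        * ∏ i ∈ Finset.range 3, (if Even i then 2 ^ (i + 1) + 1 else 2 ^ (i + 1) - 1))
    (hdvd : p ∣ Nat.card (fixG (fieldPSU σ : MulAut (PSU 3 F q)))) :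
    NoCore p (fieldPSU σ : MulAut (PSU 3 F q)) := by
  classical
  have hp : p.Prime := Fact.out
  have h648 : 2 ^ (3 * (3 - 1) / 2)
      * ∏ i ∈ Finset.range 3, (if Even i then 2 ^ (i + 1) + 1 else 2 ^ (i + 1) - 1) = 648 := by
    decide
  rw [h648] at hcnt
  have hp3 : p = 3 := by
    have h1 : p ∣ 2 ^ 3 * 3 ^ 4 := dvd_trans hdvd hcnt
    rcases (Nat.Prime.dvd_mul hp).mp h1 with h | h
    · exact absurd ((Nat.prime_dvd_prime_iff_eq hp Nat.prime_two).mp (hp.dvd_of_dvd_pow h)) hp2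
    · exact (Nat.prime_dvd_prime_iff_eq hp Nat.prime_three).mp (hp.dvd_of_dvd_pow h)
  subst hp3
  obtain rfl : q = 8 := by rw [hq₀]; norm_num
  have hF64 : Fintype.card F = 64 := by rw [hF]; norm_num
  obtain ⟨h63, h2, ω, hω⟩ := fc32_field hF64
  obtain ⟨-, -, -, -, hω3⟩ := fc32_omega_facts ω hω h2
  have hσω := fc32_sigma_fix σ hσ ω hω h2
  obtain ⟨D, hD⟩ := fc32_exists_d (q := 8) ω hω3 (by norm_num)
  obtain ⟨C, hC⟩ := fc32_exists_c (F := F) (q := 8)
  have hDfix : fieldSU σ D = D := by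
    apply Cfsg.Agent.Lib.helper99.suMat_inj
    have h1 : suMat (fieldSU σ D) = (suMat D).map σ := rfl
    rw [h1, hD]
    unfold fc32d
    rw [Matrix.diagonal_map (map_zero σ)]
    congr 1
    funext i
    fin_cases i <;> simp [hσω]
  have hCfix : fieldSU σ C = C := by
    apply Cfsg.Agent.Lib.helper99.suMat_inj
    have h1 : suMat (fieldSU σ C) = (suMat C).map σ := rfl
    rw [h1, hC]
    unfold fc32c
    ext i j
    fin_cases i <;> fin_cases j <;> simp
  intro M hM hinv hcop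
  have hfixmk : ∀ Y : ↥(SU 3 F 8), fieldSU σ Y = Y →
      fieldPSU σ (QuotientGroup.mk Y : PSU 3 F 8) = QuotientGroup.mk Y := by
    intro Y h
    rw [fieldPSU_mk, h]
  have hconj : ∀ e : PSU 3 F 8, fieldPSU σ e = e → ∀ k ∈ M, e * k * e⁻¹ ∈ M := by
    intro e he k hk
    exact hinv (MulAut.conj e) (conj_comm_of_fixed _ he) k hk
  have hMle : M ≤ fixG (fieldPSU σ : MulAut (PSU 3 F 8)) := fun k hk => hM k hk
  have hM8 : Nat.card M ∣ 8 := by
    have h1 : Nat.card M ∣ 8 * 81 := dvd_trans (Subgroup.card_dvd_of_le hMle) hcnt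
    have h3 : (Nat.card M).Coprime 81 := by
      have : (81 : ℕ) = 3 ^ 4 := by norm_num
      rw [this]
      exact Nat.Coprime.pow_right 4 hcop
    exact (Nat.Coprime.dvd_mul_right h3).mp h1
  have hpow8 : ∀ k ∈ M, k ^ 8 = 1 := by
    intro k hk
    have h1 : orderOf (⟨k, hk⟩ : M) ∣ 8 := dvd_trans (orderOf_dvd_natCard _) hM8
    have h2 := orderOf_dvd_iff_pow_eq_one.mp h1
    exact congrArg Subtype.val h2
  have hPd : FC32P (suMat D) := hD ▸ fc32P_d ω h63 hω h2
  have hPc : FC32P (suMat C) := hC ▸ fc32P_c (F := F) ω h63 hω h2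
  have hPdc : FC32P (suMat (D * C)) := by
    rw [Cfsg.Agent.Lib.helper99.suMat_mul, hD, hC]
    exact fc32P_dc ω h63 hω h2
  have hPddc : FC32P (suMat (D * (D * C))) := by
    rw [Cfsg.Agent.Lib.helper99.suMat_mul, Cfsg.Agent.Lib.helper99.suMat_mul, hD, hC]
    exact fc32P_ddc ω h63 hω h2
  have hcl : ∀ Y : ↥(SU 3 F 8), FC32P (suMat Y) → ∀ k ∈ M,
      k * QuotientGroup.mk Y = QuotientGroup.mk Y * k → k = 1 :=
    fun Y hY k hk hc => fc32_claim hF Y hY k hc (hpow8 k hk)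
  have hD3 : D * D * D = 1 := by
    apply Cfsg.Agent.Lib.helper99.suMat_inj
    rw [Cfsg.Agent.Lib.helper99.suMat_mul, Cfsg.Agent.Lib.helper99.suMat_mul, hD,
      Cfsg.Agent.Lib.helper99.suMat_one]
    unfold fc32d
    rw [Matrix.diagonal_mul_diagonal, Matrix.diagonal_mul_diagonal, ← Matrix.diagonal_one]
    congr 1
    funext i
    fin_cases i
    · simp
    · simp
      linear_combination hω3
    · simp
      linear_combination (ω ^ 3 + 1) * hω3
  obtain ⟨Db, hDb⟩ : ∃ Db : PSU 3 F 8, Db = QuotientGroup.mk D := ⟨_, rfl⟩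
  obtain ⟨Cb, hCb⟩ : ∃ Cb : PSU 3 F 8, Cb = QuotientGroup.mk C := ⟨_, rfl⟩
  have hDb3 : Db * Db * Db = 1 := by
    rw [hDb, ← QuotientGroup.mk_mul, ← QuotientGroup.mk_mul, hD3]
    rfl
  have hDbfix : fieldPSU σ Db = Db := by rw [hDb]; exact hfixmk D hDfix
  have hCbfix : fieldPSU σ Cb = Cb := by rw [hCb]; exact hfixmk C hCfix
  have hDbcl : ∀ k ∈ M, Db * k * Db⁻¹ = k → k = 1 := by
    intro k hk h
    apply hcl D hPd k hk
    rw [← hDb]
    exact (mul_inv_eq_iff_eq_mul.mp h).symm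
  haveI : Finite (PSU 3 F 8) := by
    have h1 : Finite (Matrix.SpecialLinearGroup (Fin 3) F) :=
      Finite.of_injective (fun g => g.1) Subtype.val_injective
    have h2 : Finite ↥(SU 3 F 8) := Finite.of_injective (fun g => g.1) Subtype.val_injective
    exact Finite.of_surjective _ (QuotientGroup.mk_surjective (s := Subgroup.center ↥(SU 3 F 8)))
  haveI : Fintype M := Fintype.ofFinite _
  -- `|M| ≡ 1 mod 3`
  have hmod : Nat.card M % 3 = 1 := by
    let f : Function.End M := fun k => ⟨Db * k.1 * Db⁻¹, hconj Db hDbfix k.1 k.2⟩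
    have hf3 : f ^ 3 ^ 1 = 1 := by
      funext k
      apply Subtype.ext
      show Db * (Db * (Db * k.1 * Db⁻¹) * Db⁻¹) * Db⁻¹ = k.1
      calc Db * (Db * (Db * k.1 * Db⁻¹) * Db⁻¹) * Db⁻¹
          = (Db * Db * Db) * k.1 * (Db * Db * Db)⁻¹ := by group
        _ = k.1 := by rw [hDb3]; group
    have hcard := Equiv.Perm.card_fixedPoints_modEq (p := 3) (n := 1) hf3
    have hfp : ∀ inst : Fintype (Function.fixedPoints f),
        @Fintype.card (Function.fixedPoints f) inst = 1 := by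
      intro inst
      rw [Fintype.card_eq_one_iff]
      refine ⟨⟨1, ?_⟩, ?_⟩
      · show f 1 = 1
        apply Subtype.ext
        show Db * 1 * Db⁻¹ = 1
        group
      · rintro ⟨k, hk⟩
        apply Subtype.ext
        apply Subtype.ext
        have h1 : Db * k.1 * Db⁻¹ = k.1 := congrArg Subtype.val hk
        exact hDbcl k.1 k.2 h1
    rw [hfp] at hcard
    rw [Nat.card_eq_fintype_card]
    exact hcard
  have hcases : Nat.card M = 1 ∨ Nat.card M = 4 := fc32_arith _ hM8 hmod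
  rcases hcases with h1 | h4
  · exact Subgroup.card_eq_one.mp h1
  · exfalso
    obtain ⟨m1, hm1, hne⟩ : ∃ m ∈ M, m ≠ 1 := by
      by_contra h
      push Not at h
      have hbot : M = ⊥ := (Subgroup.eq_bot_iff_forall M).mpr h
      rw [hbot] at h4
      simp at h4
    have hm2 : Db * m1 * Db⁻¹ ∈ M := hconj Db hDbfix m1 hm1
    have hm3 : Db * (Db * m1 * Db⁻¹) * Db⁻¹ ∈ M := hconj Db hDbfix _ hm2
    have hm4 : Cb * m1 * Cb⁻¹ ∈ M := hconj Cb hCbfix m1 hm1
    have hconj1 : ∀ e m : PSU 3 F 8, e * m * e⁻¹ = 1 → m = 1 := by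
      intro e m h
      have h' : m = e⁻¹ * (e * m * e⁻¹) * e := by group
      rw [h', h]
      group
    have h2ne : Db * m1 * Db⁻¹ ≠ 1 := fun h => hne (hconj1 _ _ h)
    have h3ne : Db * (Db * m1 * Db⁻¹) * Db⁻¹ ≠ 1 := fun h => h2ne (hconj1 _ _ h)
    have h4ne : Cb * m1 * Cb⁻¹ ≠ 1 := fun h => hne (hconj1 _ _ h)
    have h12 : m1 ≠ Db * m1 * Db⁻¹ := fun h => hne (hDbcl m1 hm1 h.symm)
    have h23 : Db * m1 * Db⁻¹ ≠ Db * (Db * m1 * Db⁻¹) * Db⁻¹ :=
      fun h => h2ne (hDbcl _ hm2 h.symm)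
    have h13 : m1 ≠ Db * (Db * m1 * Db⁻¹) * Db⁻¹ := by
      intro h
      apply hne
      apply hDbcl m1 hm1
      calc Db * m1 * Db⁻¹ = Db * (Db * (Db * m1 * Db⁻¹) * Db⁻¹) * Db⁻¹ := by rw [← h]
        _ = (Db * Db * Db) * m1 * (Db * Db * Db)⁻¹ := by group
        _ = m1 := by rw [hDb3]; group
    -- `M = {1, m1, m2, m3}`
    have hT : (({1, m1, Db * m1 * Db⁻¹, Db * (Db * m1 * Db⁻¹) * Db⁻¹} : Finset (PSU 3 F 8)) :
        Set (PSU 3 F 8)) = (M : Set (PSU 3 F 8)) := by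
      apply Set.eq_of_subset_of_ncard_le
      · intro x hx
        simp only [Finset.coe_insert, Finset.coe_singleton, Set.mem_insert_iff,
          Set.mem_singleton_iff] at hx
        rcases hx with rfl | rfl | rfl | rfl
        · exact M.one_mem
        · exact hm1
        · exact hm2
        · exact hm3
      · rw [Set.ncard_coe_finset, ← Nat.card_coe_set_eq]
        have hc : Nat.card (↑(M : Set (PSU 3 F 8))) = 4 := h4
        rw [hc]
        rw [Finset.card_insert_of_notMem, Finset.card_insert_of_notMem,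
          Finset.card_insert_of_notMem, Finset.card_singleton]
        · simp only [Finset.mem_singleton]
          exact h23
        · simp only [Finset.mem_insert, Finset.mem_singleton, not_or]
          exact ⟨h12, h13⟩
        · simp only [Finset.mem_insert, Finset.mem_singleton, not_or]
          exact ⟨Ne.symm hne, Ne.symm h2ne, Ne.symm h3ne⟩
      · exact Set.toFinite _
    have hm4' : Cb * m1 * Cb⁻¹ ∈ (({1, m1, Db * m1 * Db⁻¹, Db * (Db * m1 * Db⁻¹) * Db⁻¹} :
        Finset (PSU 3 F 8)) : Set (PSU 3 F 8)) := by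
      rw [hT]
      exact hm4
    simp only [Finset.coe_insert, Finset.coe_singleton, Set.mem_insert_iff,
      Set.mem_singleton_iff] at hm4'
    rcases hm4' with h | h | h | h
    · exact h4ne h
    · -- `C` centralises `m1`
      apply hne
      apply hcl C hPc m1 hm1
      rw [← hCb]
      exact (mul_inv_eq_iff_eq_mul.mp h).symm
    · -- `D * (D * C)` centralises `m1`
      apply hne
      apply hcl (D * (D * C)) hPddc m1 hm1
      rw [QuotientGroup.mk_mul, QuotientGroup.mk_mul, ← hDb, ← hCb]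
      have h5 : (Db * (Db * Cb)) * m1 * (Db * (Db * Cb))⁻¹ = m1 := by
        calc (Db * (Db * Cb)) * m1 * (Db * (Db * Cb))⁻¹
            = Db * (Db * (Cb * m1 * Cb⁻¹) * Db⁻¹) * Db⁻¹ := by group
          _ = Db * (Db * (Db * m1 * Db⁻¹) * Db⁻¹) * Db⁻¹ := by rw [h]
          _ = (Db * Db * Db) * m1 * (Db * Db * Db)⁻¹ := by group
          _ = m1 := by rw [hDb3]; group
      exact (mul_inv_eq_iff_eq_mul.mp h5).symm
    · -- `D * C` centralises `m1`
      apply hne
      apply hcl (D * C) hPdc m1 hm1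
      rw [QuotientGroup.mk_mul, ← hDb, ← hCb]
      have h5 : (Db * Cb) * m1 * (Db * Cb)⁻¹ = m1 := by
        calc (Db * Cb) * m1 * (Db * Cb)⁻¹
            = Db * (Cb * m1 * Cb⁻¹) * Db⁻¹ := by group
          _ = Db * (Db * (Db * m1 * Db⁻¹) * Db⁻¹) * Db⁻¹ := by rw [h]
          _ = (Db * Db * Db) * m1 * (Db * Db * Db)⁻¹ := by group
          _ = m1 := by rw [hDb3]; group
      exact (mul_inv_eq_iff_eq_mul.mp h5).symm

/-- **Piece FC-32** of S2687: the exceptional case `PSU_3(2^p)`. -/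
theorem field_noCore_32 (hF : Fintype.card F = q ^ 2) {p : ℕ} [Fact p.Prime] (hp2 : p ≠ 2)
    (hq₀ : q = 2 ^ p) (σ : F ≃+* F) (hσ : orderOf σ = p)
    (hdvd : p ∣ Nat.card (fixG (fieldPSU σ : MulAut (PSU 3 F q)))) :
    NoCore p (fieldPSU σ : MulAut (PSU 3 F q)) :=
  field_noCore_32_of hF hp2 hq₀ σ hσ
    (Cfsg.Agent.Lib.helper39.S2687.card_fix_dvd hF (le_refl 3) Fact.out hp2 hq₀ σ hσ) hdvd

end Cfsg.Agent.Lib.helper88.S2687
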