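import Mathlib
import Cfsg.Agent.Lib.helper15.Neumann

set_option autoImplicit false

namespace Cfsg.Agent.Lib.helper88.S4706

/-- (TRANS) an element of order `p` in a permutation group of degree `p` has no fixed point,
and a group containing one is transitive. -/
theorem trans_of_order_p {α : Type*} [Fintype α] [DecidableEq α] {p : ℕ} [Fact p.Prime]
    (hα : Fintype.card α = p) (G : Subgroup (Equiv.Perm α)) (σ : G) (hσ : orderOf σ = p) :
    MulAction.IsPretransitive G α ∧ ∀ a : α, σ • a ≠ a := by
  classical
  have hp := (Fact.out : p.Prime)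
  haveI : Fact (1 < p) := ⟨hp.one_lt⟩
  obtain ⟨e, he⟩ := Cfsg.Agent.Lib.helper15.Neumann.cycle_coords (G := G) hα σ hσ
  have hpow := Cfsg.Agent.Lib.helper15.Neumann.pow_coords e σ he
  refine ⟨⟨fun a b => ?_⟩, fun a => ?_⟩
  · obtain ⟨i, rfl⟩ := e.surjective a
    obtain ⟨j, rfl⟩ := e.surjective b
    refine ⟨σ ^ (j - i).val, ?_⟩
    rw [hpow]
    congr 1
    rw [ZMod.natCast_val, ZMod.cast_id', id]
    ring
  · obtain ⟨i, rfl⟩ := e.surjective a
    rw [he]
    intro h
    have h2 := e.injective h
    have : (1 : ZMod p) = 0 := by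
      have := congrArg (fun x => x - i) h2
      simpa using this
    exact one_ne_zero this

end Cfsg.Agent.Lib.helper88.S4706
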