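import Mathlib
import Cfsg.Agent.S5084
import Cfsg.Agent.Lib.helper36.FusCH
import Cfsg.Agent.Lib.helper88.FusionBasic

/-!
# S5213, piece FB (helper88): two central involutions

`S` a finite `2`-group of `2`-rank at most `2`, `F` a saturated fusion system over `S` with trivial
centre.  If `Z(S)` contains two distinct involutions, then some automorphism of `S` permutes the
(three) involutions of `S` transitively through its powers.

* `invol_cases` : the involutions of `S` are `z₁, z₂, z₁ z₂`.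
* `exists_aut_move` : a central involution `t` is moved by some `α ∈ Aut(S)` (coming from
  `Aut_F(S)`: `⟨t⟩` is not central in `F`, S5084, receptivity of central subgroups).
* `fb` : the piece.
-/

set_option autoImplicit false

namespace Cfsg.Agent.Lib.helper88.S5213

open Cfsg Cfsg.FusionSystem

variable {Ω : Type*} [Group Ω] {S : Subgroup Ω}

/-- In a group of `2`-rank at most `2` with two distinct central involutions `z₁, z₂`, every
involution is one of `z₁, z₂, z₁ z₂`. -/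
theorem invol_cases {T : Type*} [Group T] [Finite T] (h2 : PRankLE 2 2 T) (z₁ z₂ : T)
    (hz₁ : orderOf z₁ = 2) (hz₂ : orderOf z₂ = 2) (hne : z₁ ≠ z₂)
    (hc₁ : z₁ ∈ Subgroup.center T) (hc₂ : z₂ ∈ Subgroup.center T)
    (t : T) (ht : orderOf t = 2) : t = z₁ ∨ t = z₂ ∨ t = z₁ * z₂ := by
  classical
  by_contra hcon
  push Not at hcon
  obtain ⟨h1, h2', h3⟩ := hcon
  obtain ⟨CC, hCC⟩ : ∃ CC : Subgroup T,
      CC = Subgroup.centralizer (Subgroup.centralizer ({t} : Set T) : Set T) := ⟨_, rfl⟩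
  have htt : t ∈ Subgroup.centralizer ({t} : Set T) := by
    rw [Subgroup.mem_centralizer_iff]
    intro y hy
    rw [Set.mem_singleton_iff] at hy
    subst hy
    rfl
  have hCCcomm : ∀ a ∈ CC, ∀ b ∈ CC, a * b = b * a := by
    intro a ha b hb
    rw [hCC] at ha hb
    have hbt : b ∈ Subgroup.centralizer ({t} : Set T) := by
      rw [Subgroup.mem_centralizer_iff]
      intro x hx
      rw [Set.mem_singleton_iff] at hx
      subst hx
      exact Subgroup.mem_centralizer_iff.mp hb x htt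
    exact (Subgroup.mem_centralizer_iff.mp ha b hbt).symm
  obtain ⟨A, hA⟩ : ∃ A : Subgroup T, ∀ a : T, a ∈ A ↔ (a ∈ CC ∧ a ^ 2 = 1) := by
    refine ⟨{ carrier := {a | a ∈ CC ∧ a ^ 2 = 1}
              one_mem' := ⟨CC.one_mem, one_pow 2⟩
              mul_mem' := ?_
              inv_mem' := ?_ }, fun a => Iff.rfl⟩
    · rintro a b ⟨ha, ha2⟩ ⟨hb, hb2⟩
      refine ⟨CC.mul_mem ha hb, ?_⟩
      have hc : Commute a b := hCCcomm a ha b hb
      rw [hc.mul_pow, ha2, hb2, one_mul]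
    · rintro a ⟨ha, ha2⟩
      exact ⟨CC.inv_mem ha, by rw [inv_pow, ha2, inv_one]⟩
  have hAcomm : IsMulCommutative A :=
    ⟨⟨fun a b => Subtype.ext (hCCcomm a ((hA a).mp a.2).1 b ((hA b).mp b.2).1)⟩⟩
  have hAexp : ∀ a ∈ A, a ^ 2 = 1 := fun a ha => ((hA a).mp ha).2
  have hcard : Nat.card A ≤ 2 ^ 2 := h2 A hAcomm hAexp
  have hcenCC : ∀ z ∈ Subgroup.center T, z ∈ CC := by
    intro z hz
    rw [hCC, Subgroup.mem_centralizer_iff]
    intro h _
    exact Subgroup.mem_center_iff.mp hz h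
  have htCC : t ∈ CC := by
    rw [hCC, Subgroup.mem_centralizer_iff]
    intro h hh
    exact (Subgroup.mem_centralizer_iff.mp hh t rfl).symm
  have sq : ∀ a : T, orderOf a = 2 → a ^ 2 = 1 := fun a ha => by
    rw [← ha]; exact pow_orderOf_eq_one a
  have ne1 : ∀ a : T, orderOf a = 2 → a ≠ 1 := fun a ha h => by
    rw [h, orderOf_one] at ha; omega
  have m1 : z₁ ∈ A := (hA z₁).mpr ⟨hcenCC z₁ hc₁, sq z₁ hz₁⟩
  have m2 : z₂ ∈ A := (hA z₂).mpr ⟨hcenCC z₂ hc₂, sq z₂ hz₂⟩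
  have m3 : t ∈ A := (hA t).mpr ⟨htCC, sq t ht⟩
  have hz12 : z₁ * z₂ ≠ 1 := by
    intro h
    apply hne
    have h4 : z₁ * z₁ = 1 := by rw [← pow_two]; exact sq z₁ hz₁
    have h5 : z₁ * z₂ = z₁ * z₁ := by rw [h, h4]
    exact (mul_left_cancel h5).symm
  have hsub : ({1, z₁, z₂, z₁ * z₂, t} : Set T) ⊆ (A : Set T) := by
    intro y hy
    simp only [Set.mem_insert_iff, Set.mem_singleton_iff] at hy
    rcases hy with rfl | rfl | rfl | rfl | rfl
    · exact A.one_mem
    · exact m1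
    · exact m2
    · exact A.mul_mem m1 m2
    · exact m3
  have hfinA : (A : Set T).Finite := Set.toFinite _
  have h5 : ({1, z₁, z₂, z₁ * z₂, t} : Set T).ncard = 5 := by
    rw [Set.ncard_insert_of_notMem, Set.ncard_insert_of_notMem, Set.ncard_insert_of_notMem,
      Set.ncard_insert_of_notMem, Set.ncard_singleton]
    · simp only [Set.mem_singleton_iff]
      exact fun h => h3 h.symm
    · simp only [Set.mem_insert_iff, Set.mem_singleton_iff, not_or]
      refine ⟨fun h => ne1 z₁ hz₁ ?_, fun h => h2' h.symm⟩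
      have h6 : 1 * z₂ = z₁ * z₂ := by rw [one_mul]; exact h
      exact (mul_right_cancel h6).symm
    · simp only [Set.mem_insert_iff, Set.mem_singleton_iff, not_or]
      refine ⟨hne, fun h => ne1 z₂ hz₂ ?_, fun h => h1 h.symm⟩
      have h6 : z₁ * 1 = z₁ * z₂ := by rw [mul_one]; exact h
      exact (mul_left_cancel h6).symm
    · simp only [Set.mem_insert_iff, Set.mem_singleton_iff, not_or]
      exact ⟨fun h => ne1 z₁ hz₁ h.symm, fun h => ne1 z₂ hz₂ h.symm, fun h => hz12 h.symm,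
        fun h => ne1 t ht h.symm⟩
  have h6 := Set.ncard_le_ncard hsub hfinA
  rw [h5] at h6
  have h7 : Nat.card A = (A : Set T).ncard := Nat.card_coe_set_eq _
  have h8 : (2 : ℕ) ^ 2 = 4 := by norm_num
  omega

/-- A central involution `t` of `S` is moved by some automorphism of `S` (an element of
`Aut_F(S)`), when the centre of the saturated system `F` is trivial and all involutions of `S`
are central. -/
theorem exists_aut_move [Finite S] (hS : IsPGroup 2 S) (F : FusionSystem S)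
    (hF : F.IsSaturated 2) (hZ : F.center = ⊥)
    (hcen : ∀ t' : ↥S, orderOf t' = 2 → t' ∈ Subgroup.center ↥S)
    (t : ↥S) (ht : orderOf t = 2) : ∃ α : MulAut ↥S, α t ≠ t := by
  classical
  have : Fact (Nat.Prime 2) := ⟨Nat.prime_two⟩
  have htΩ : orderOf (t : Ω) = 2 := by rw [Subgroup.orderOf_coe]; exact ht
  have htΩ1 : (t : Ω) ≠ 1 := by
    intro h
    rw [h, orderOf_one] at htΩ
    omega
  have hPS : Subgroup.zpowers (t : Ω) ≤ S := by rw [Subgroup.zpowers_le]; exact t.2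
  have hnc : ¬ F.IsCentral (Subgroup.zpowers (t : Ω)) := by
    intro hc
    have hle : Subgroup.zpowers (t : Ω) ≤ F.center := le_sSup hc
    rw [hZ] at hle
    exact htΩ1 (Subgroup.mem_bot.mp (hle (Subgroup.mem_zpowers _)))
  rw [Cfsg.Agent.S5084.result 2 hS F hF (Subgroup.zpowers (t : Ω))] at hnc
  push Not at hnc
  obtain ⟨x, hxP, y, hxy, hyx⟩ := hnc hPS
  have hx1 : x ≠ 1 := by
    rintro rfl
    obtain ⟨φ, hφ, hφy⟩ := hxy
    apply hyx
    rw [← hφy]
    have h1 : (⟨1, Subgroup.mem_zpowers (1 : Ω)⟩ : Subgroup.zpowers (1 : Ω)) = 1 := rfl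
    rw [h1, map_one]
  have hxt : x = (t : Ω) := by
    obtain ⟨k, rfl⟩ := Subgroup.mem_zpowers_iff.mp hxP
    have hk : (t : Ω) ^ k = (t : Ω) ^ (k % 2) := by
      have h0 := zpow_mod_orderOf (t : Ω) k
      rw [htΩ] at h0
      exact_mod_cast h0.symm
    rw [hk] at hx1 ⊢
    rcases Int.emod_two_eq_zero_or_one k with h | h
    · rw [h, zpow_zero] at hx1
      exact absurd rfl hx1
    · rw [h, zpow_one]
  subst hxt
  obtain ⟨φ, hφ, hφy⟩ := hxy
  have hyS : y ∈ S := hφy ▸ (F.le_of_mem hφ).2 _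
  have hyo : orderOf y = 2 := by
    rw [← hφy, orderOf_injective φ (F.injective_of_mem hφ), Subgroup.orderOf_mk]
    exact htΩ
  have hyc : (⟨y, hyS⟩ : ↥S) ∈ Subgroup.center ↥S :=
    hcen _ (by rw [Subgroup.orderOf_mk]; exact hyo)
  have hQS : Subgroup.zpowers y ≤ S := by rw [Subgroup.zpowers_le]; exact hyS
  have hQc : ∀ q ∈ Subgroup.zpowers y, ∀ s ∈ S, s * q = q * s := by
    intro q hq s hs
    obtain ⟨k, rfl⟩ := Subgroup.mem_zpowers_iff.mp hq
    have h1 : s * y = y * s := by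
      have h2 := Subgroup.mem_center_iff.mp hyc ⟨s, hs⟩
      exact congrArg Subtype.val h2
    have h3 : Commute s (y ^ k) := Commute.zpow_right h1 k
    exact h3.eq
  have hrec := Cfsg.Agent.Lib.helper36.fusch_central_receptive hS F hF hQS hQc
  have hrange : φ.range = Subgroup.zpowers y := by
    have htop : (⊤ : Subgroup (Subgroup.zpowers (t : Ω))) =
        Subgroup.zpowers ⟨(t : Ω), Subgroup.mem_zpowers _⟩ := by
      ext ⟨w, hw⟩
      simp only [Subgroup.mem_top, true_iff]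
      obtain ⟨k, rfl⟩ := Subgroup.mem_zpowers_iff.mp hw
      exact Subgroup.mem_zpowers_iff.mpr ⟨k, Subtype.ext (by simp)⟩
    rw [MonoidHom.range_eq_map, htop, MonoidHom.map_zpowers, hφy]
  obtain ⟨ψ, hψ, hext⟩ := hrec.2 _ φ hφ hrange
  have hSext : S ≤ extender S (Subgroup.zpowers (t : Ω)) φ := by
    intro g hg
    apply Subgroup.subset_closure
    have hcomm : ∀ w ∈ Subgroup.zpowers (t : Ω), g * w * g⁻¹ = w := by
      intro w hw
      obtain ⟨k, rfl⟩ := Subgroup.mem_zpowers_iff.mp hw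
      have h1 : g * (t : Ω) = (t : Ω) * g := by
        have h2 := Subgroup.mem_center_iff.mp (hcen t ht) ⟨g, hg⟩
        exact congrArg Subtype.val h2
      have h2 : Commute g ((t : Ω) ^ k) := Commute.zpow_right h1 k
      rw [h2.eq, mul_inv_cancel_right]
    refine ⟨hg, ?_, 1, S.one_mem, ?_⟩
    · rw [Subgroup.mem_normalizer_iff]
      intro w
      constructor
      · intro hw
        rw [hcomm w hw]
        exact hw
      · intro hw
        have h1 := hcomm _ hw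
        have h2 : w = g * w * g⁻¹ := by
          have h3 := mul_right_cancel h1
          exact (mul_left_cancel h3).symm
        rw [h2]
        exact hw
    · intro w hw
      have h1 : (⟨g * (w : Ω) * g⁻¹, hw⟩ : Subgroup.zpowers (t : Ω)) = w :=
        Subtype.ext (hcomm w w.2)
      rw [h1, one_mul, inv_one, mul_one]
  have hψ' := Cfsg.Agent.Lib.helper88.restrict_mem F hSext hψ
  obtain ⟨ψ', hψ'def⟩ : ∃ ψ' : ↥S →* Ω, ψ' = ψ.comp (Subgroup.inclusion hSext) := ⟨_, rfl⟩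
  rw [← hψ'def] at hψ'
  have hmem : ∀ s : ↥S, ψ' s ∈ S := (F.le_of_mem hψ').2
  have hinj : Function.Injective (ψ'.codRestrict S hmem) := by
    intro a b hab
    apply F.injective_of_mem hψ'
    exact congrArg Subtype.val hab
  have hbij : Function.Bijective (ψ'.codRestrict S hmem) :=
    ⟨hinj, Finite.surjective_of_injective hinj⟩
  refine ⟨MulEquiv.ofBijective (ψ'.codRestrict S hmem) hbij, ?_⟩
  intro h
  apply hyx
  have h1 : ((MulEquiv.ofBijective (ψ'.codRestrict S hmem) hbij) t : Ω) = y := by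
    show ψ' t = y
    rw [hψ'def]
    show ψ ⟨(t : Ω), hSext t.2⟩ = y
    rw [hext (t : Ω) (Subgroup.mem_zpowers _) (hSext t.2), hφy]
  rw [← h1, h]

/-- A `3`-cycle on the involutions gives transitivity of the powers. -/
theorem cyc_trans {T : Type*} [Group T] (γ : MulAut T) (p q r : T)
    (hcover : ∀ t : T, orderOf t = 2 → t = p ∨ t = q ∨ t = r)
    (h1 : γ p = q) (h2 : γ q = r) (h3 : γ r = p) :
    ∀ s t : T, orderOf s = 2 → orderOf t = 2 → ∃ k : ℕ, (γ ^ k) s = t := by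
  intro s t hs ht
  have e1 : ∀ w : T, (γ ^ 1) w = γ w := fun w => by rw [pow_one]
  have e2 : ∀ w : T, (γ ^ 2) w = γ (γ w) := fun w => by rw [pow_two]; rfl
  have e0 : ∀ w : T, (γ ^ 0) w = w := fun w => by rw [pow_zero]; rfl
  rcases hcover s hs with hs' | hs' | hs' <;> rcases hcover t ht with ht' | ht' | ht'
  · exact ⟨0, by rw [e0, hs', ht']⟩
  · exact ⟨1, by rw [e1, hs', ht', h1]⟩
  · exact ⟨2, by rw [e2, hs', ht', h1, h2]⟩
  · exact ⟨2, by rw [e2, hs', ht', h2, h3]⟩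
  · exact ⟨0, by rw [e0, hs', ht']⟩
  · exact ⟨1, by rw [e1, hs', ht', h2]⟩
  · exact ⟨1, by rw [e1, hs', ht', h3]⟩
  · exact ⟨2, by rw [e2, hs', ht', h3, h1]⟩
  · exact ⟨0, by rw [e0, hs', ht']⟩

/-- An automorphism sending the involution `p` to `q` is a `3`-cycle or a transposition on the
three involutions `p, q, r`. -/
theorem step {T : Type*} [Group T] (β : MulAut T) (p q r : T) (hpq : p ≠ q) (hpr : p ≠ r)
    (hqr : q ≠ r) (hq : orderOf q = 2) (hr : orderOf r = 2)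
    (hcover : ∀ t : T, orderOf t = 2 → t = p ∨ t = q ∨ t = r) (h : β p = q) :
    (β q = r ∧ β r = p) ∨ (β q = p ∧ β r = r) := by
  have ho : ∀ w : T, orderOf (β w) = orderOf w := fun w => MulEquiv.orderOf_eq β w
  have hinj := β.injective
  have hq' := hcover (β q) (by rw [ho, hq])
  have hr' := hcover (β r) (by rw [ho, hr])
  have n1 : β q ≠ q := fun e => hpq (hinj (h.trans e.symm))
  have n2 : β r ≠ q := fun e => hpr (hinj (h.trans e.symm))
  have n3 : β q ≠ β r := fun e => hqr (hinj e)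
  rcases hq' with e | e | e
  · right
    refine ⟨e, ?_⟩
    rcases hr' with e' | e' | e'
    · exact absurd (e.trans e'.symm) n3
    · exact absurd e' n2
    · exact e'
  · exact absurd e n1
  · left
    refine ⟨e, ?_⟩
    rcases hr' with e' | e' | e'
    · exact e'
    · exact absurd e' n2
    · exact absurd (e.trans e'.symm) n3

/-- **Piece FB of S5213**: two distinct central involutions give an automorphism of `S` whose
powers are transitive on the involutions of `S` (the hypothesis `htrans` of S1237). -/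
theorem fb [Finite S] (hS : IsPGroup 2 S) (F : FusionSystem S) (hF : F.IsSaturated 2)
    (h2 : PRankLE 2 2 ↥S) (hZ : F.center = ⊥) (z₁ z₂ : ↥S) (hz₁ : orderOf z₁ = 2)
    (hz₂ : orderOf z₂ = 2) (hne : z₁ ≠ z₂) (hc₁ : z₁ ∈ Subgroup.center ↥S)
    (hc₂ : z₂ ∈ Subgroup.center ↥S) :
    ∃ φ : MulAut ↥S, ∀ s t : ↥S, orderOf s = 2 → orderOf t = 2 → ∃ k : ℕ, (φ ^ k) s = t := by
  have hcov := invol_cases h2 z₁ z₂ hz₁ hz₂ hne hc₁ hc₂
  obtain ⟨z₃, hz₃def⟩ : ∃ z₃ : ↥S, z₃ = z₁ * z₂ := ⟨_, rfl⟩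
  rw [← hz₃def] at hcov
  have hc₃ : z₃ ∈ Subgroup.center ↥S := by rw [hz₃def]; exact Subgroup.mul_mem _ hc₁ hc₂
  have sq : ∀ a : ↥S, orderOf a = 2 → a * a = 1 := fun a ha => by
    rw [← pow_two, ← ha]; exact pow_orderOf_eq_one a
  have ne1 : ∀ a : ↥S, orderOf a = 2 → a ≠ 1 := fun a ha h => by
    rw [h, orderOf_one] at ha; omega
  have h13 : z₁ ≠ z₃ := by
    intro h
    apply ne1 z₂ hz₂
    have h6 : z₁ * 1 = z₁ * z₂ := by rw [mul_one, ← hz₃def]; exact h
    exact (mul_left_cancel h6).symm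
  have h23 : z₂ ≠ z₃ := by
    intro h
    apply ne1 z₁ hz₁
    have h6 : 1 * z₂ = z₁ * z₂ := by rw [one_mul, ← hz₃def]; exact h
    exact (mul_right_cancel h6).symm
  have hz₃1 : z₃ ≠ 1 := by
    intro h
    apply hne
    have h5 : z₁ * z₂ = z₁ * z₁ := by rw [← hz₃def, h, sq z₁ hz₁]
    exact (mul_left_cancel h5).symm
  have hz₃ : orderOf z₃ = 2 := by
    apply orderOf_eq_prime
    · have hcomm : Commute z₁ z₂ := (Subgroup.mem_center_iff.mp hc₂ z₁)
      rw [hz₃def, hcomm.mul_pow, pow_two, pow_two, sq z₁ hz₁, sq z₂ hz₂, one_mul]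
    · exact hz₃1
  have hcen : ∀ t' : ↥S, orderOf t' = 2 → t' ∈ Subgroup.center ↥S := by
    intro t' ht'
    rcases hcov t' ht' with h | h | h
    · rw [h]; exact hc₁
    · rw [h]; exact hc₂
    · rw [h]; exact hc₃
  obtain ⟨α₁, hα₁⟩ := exists_aut_move hS F hF hZ hcen z₁ hz₁
  obtain ⟨α₂, hα₂⟩ := exists_aut_move hS F hF hZ hcen z₂ hz₂
  obtain ⟨α₃, hα₃⟩ := exists_aut_move hS F hF hZ hcen z₃ hz₃
  have ho : ∀ (β : MulAut ↥S) (w : ↥S), orderOf (β w) = orderOf w :=
    fun β w => MulEquiv.orderOf_eq β w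
  have hcov132 : ∀ t : ↥S, orderOf t = 2 → t = z₁ ∨ t = z₃ ∨ t = z₂ := fun t ht => by
    rcases hcov t ht with h | h | h
    · exact Or.inl h
    · exact Or.inr (Or.inr h)
    · exact Or.inr (Or.inl h)
  have hcov213 : ∀ t : ↥S, orderOf t = 2 → t = z₂ ∨ t = z₁ ∨ t = z₃ := fun t ht => by
    rcases hcov t ht with h | h | h
    · exact Or.inr (Or.inl h)
    · exact Or.inl h
    · exact Or.inr (Or.inr h)
  have hcov231 : ∀ t : ↥S, orderOf t = 2 → t = z₂ ∨ t = z₃ ∨ t = z₁ := fun t ht => by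
    rcases hcov t ht with h | h | h
    · exact Or.inr (Or.inr h)
    · exact Or.inl h
    · exact Or.inr (Or.inl h)
  have hcov312 : ∀ t : ↥S, orderOf t = 2 → t = z₃ ∨ t = z₁ ∨ t = z₂ := fun t ht => by
    rcases hcov t ht with h | h | h
    · exact Or.inr (Or.inl h)
    · exact Or.inr (Or.inr h)
    · exact Or.inl h
  have hcov321 : ∀ t : ↥S, orderOf t = 2 → t = z₃ ∨ t = z₂ ∨ t = z₁ := fun t ht => by
    rcases hcov t ht with h | h | h
    · exact Or.inr (Or.inr h)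
    · exact Or.inr (Or.inl h)
    · exact Or.inl h
  rcases hcov (α₁ z₁) (by rw [ho, hz₁]) with e | e | e
  · exact absurd e hα₁
  · rcases step α₁ z₁ z₂ z₃ hne h13 h23 hz₂ hz₃ hcov e with ⟨a, b⟩ | ⟨a, b⟩
    · exact ⟨α₁, cyc_trans α₁ z₁ z₂ z₃ hcov e a b⟩
    · rcases hcov (α₃ z₃) (by rw [ho, hz₃]) with e3 | e3 | e3
      · rcases step α₃ z₃ z₁ z₂ h13.symm h23.symm hne hz₁ hz₂ hcov312 e3 with ⟨c, d⟩ | ⟨c, d⟩
        · exact ⟨α₃, cyc_trans α₃ z₃ z₁ z₂ hcov312 e3 c d⟩
        · refine ⟨α₁ * α₃, cyc_trans (α₁ * α₃) z₃ z₂ z₁ hcov321 ?_ ?_ ?_⟩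
          · show α₁ (α₃ z₃) = z₂
            rw [e3, e]
          · show α₁ (α₃ z₂) = z₁
            rw [d, a]
          · show α₁ (α₃ z₁) = z₃
            rw [c, b]
      · rcases step α₃ z₃ z₂ z₁ h23.symm h13.symm hne.symm hz₂ hz₁ hcov321 e3 with
          ⟨c, d⟩ | ⟨c, d⟩
        · exact ⟨α₃, cyc_trans α₃ z₃ z₂ z₁ hcov321 e3 c d⟩
        · refine ⟨α₁ * α₃, cyc_trans (α₁ * α₃) z₃ z₁ z₂ hcov312 ?_ ?_ ?_⟩
          · show α₁ (α₃ z₃) = z₁
            rw [e3, a]
          · show α₁ (α₃ z₁) = z₂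
            rw [d, e]
          · show α₁ (α₃ z₂) = z₃
            rw [c, b]
      · exact absurd e3 hα₃
  · rcases step α₁ z₁ z₃ z₂ h13 hne h23.symm hz₃ hz₂ hcov132 e with ⟨a, b⟩ | ⟨a, b⟩
    · exact ⟨α₁, cyc_trans α₁ z₁ z₃ z₂ hcov132 e a b⟩
    · rcases hcov (α₂ z₂) (by rw [ho, hz₂]) with e2 | e2 | e2
      · rcases step α₂ z₂ z₁ z₃ hne.symm h23 h13 hz₁ hz₃ hcov213 e2 with ⟨c, d⟩ | ⟨c, d⟩
        · exact ⟨α₂, cyc_trans α₂ z₂ z₁ z₃ hcov213 e2 c d⟩
        · refine ⟨α₁ * α₂, cyc_trans (α₁ * α₂) z₂ z₃ z₁ hcov231 ?_ ?_ ?_⟩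
          · show α₁ (α₂ z₂) = z₃
            rw [e2, e]
          · show α₁ (α₂ z₃) = z₁
            rw [d, a]
          · show α₁ (α₂ z₁) = z₂
            rw [c, b]
      · exact absurd e2 hα₂
      · rcases step α₂ z₂ z₃ z₁ h23 hne.symm h13.symm hz₃ hz₁ hcov231 e2 with ⟨c, d⟩ | ⟨c, d⟩
        · exact ⟨α₂, cyc_trans α₂ z₂ z₃ z₁ hcov231 e2 c d⟩
        · refine ⟨α₁ * α₂, cyc_trans (α₁ * α₂) z₂ z₁ z₃ hcov213 ?_ ?_ ?_⟩
          · show α₁ (α₂ z₂) = z₁
            rw [e2, a]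
          · show α₁ (α₂ z₁) = z₃
            rw [d, e]
          · show α₁ (α₂ z₃) = z₂
            rw [c, b]

end Cfsg.Agent.Lib.helper88.S5213
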