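import Mathlib
import Cfsg.Agent.Lib.helper88.S5213FB
import Cfsg.Agent.Lib.helper88.Saturated2
import Cfsg.Agent.Lib.helper88.CentricRadical
import Cfsg.Agent.Lib.helper90.NormSys

/-!
# S5213, piece FC2 (helper88): from a `3`-cycle in `Aut_F(E)` to an automorphism of `C_S(u)`

`S` a finite `2`-group of `2`-rank at most `2`, `F` saturated over `S`, `z` a central involution of
`S`.  Given `E ≤ S` containing `z`, `γ ∈ Aut_F(E)` and an involution `u₀ ≠ z` of `E` with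
`γ z = u₀`, `γ u₀ = z u₀`, there are an involution `u ≠ z` of `S` and an automorphism `φ` of
`C_S(u)` with `φ z = u`, `φ u = z u`.

Proof: `W₀ = Ω₁(Z(E)) = {1, z, u₀, z u₀}` is `γ`-invariant; take a fully normalized (hence
receptive) `F`-conjugate `W = ψ(W₀)`; `z ∈ W` by the rank; `γ' = ψ γ ψ⁻¹ ∈ Aut_F(W)` satisfies
`γ'² = id · γ'`; `u := γ' z`; `γ'` extends to `C_S(W) = C_S(u)` by receptivity.
-/

set_option autoImplicit false

namespace Cfsg.Agent.Lib.helper88.S5213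

open Cfsg Cfsg.FusionSystem

variable {Ω : Type*} [Group Ω] {S : Subgroup Ω}

/-- An elementary abelian subgroup of `S` has order at most `4` when `S` has `2`-rank at most
`2`. -/
theorem card_le_four (h2 : PRankLE 2 2 ↥S) (W : Subgroup Ω) (hWS : W ≤ S)
    (hab : ∀ a ∈ W, ∀ b ∈ W, a * b = b * a) (hexp : ∀ a ∈ W, a * a = 1) : Nat.card W ≤ 4 := by
  have hc : IsMulCommutative ↥(W.subgroupOf S) :=
    ⟨⟨fun a b => Subtype.ext (Subtype.ext (hab a.1 (Subgroup.mem_subgroupOf.mp a.2) b.1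
      (Subgroup.mem_subgroupOf.mp b.2)))⟩⟩
  have he : ∀ a ∈ W.subgroupOf S, a ^ 2 = 1 := by
    intro a ha
    apply Subtype.ext
    rw [Subgroup.coe_pow, pow_two]
    exact hexp _ (Subgroup.mem_subgroupOf.mp ha)
  have h := h2 (W.subgroupOf S) hc he
  have e := Nat.card_congr (Subgroup.subgroupOfEquivOfLe hWS).toEquiv
  rw [e] at h
  have h8 : (2 : ℕ) ^ 2 = 4 := by norm_num
  omega

/-- A group of order at most `4`, abelian of exponent `2`, with two distinct non-identity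
elements `z, u`, consists of `1, z, u, z u`. -/
theorem four_cases {T : Type*} [Group T] [Finite T] (hcard : Nat.card T ≤ 4)
    (hab : ∀ a b : T, a * b = b * a) (hexp : ∀ a : T, a * a = 1) (z u : T) (hz : z ≠ 1)
    (hu : u ≠ 1) (hzu : z ≠ u) : ∀ w : T, w = 1 ∨ w = z ∨ w = u ∨ w = z * u := by
  have h2 : PRankLE 2 2 T := by
    intro A _ _
    have h8 : (2 : ℕ) ^ 2 = 4 := by norm_num
    have h9 := Subgroup.card_le_card_group A
    omega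
  have ho : ∀ a : T, a ≠ 1 → orderOf a = 2 := fun a ha =>
    orderOf_eq_prime (by rw [pow_two]; exact hexp a) ha
  have hc : ∀ a : T, a ∈ Subgroup.center T := fun a =>
    Subgroup.mem_center_iff.mpr (fun g => hab g a)
  intro w
  by_cases hw : w = 1
  · exact Or.inl hw
  · right
    exact invol_cases h2 z u (ho z hz) (ho u hu) hzu (hc z) (hc u) w (ho w hw)

/-- In a group of `2`-rank at most `2`, an elementary abelian subgroup of order at least `4`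
contains every central element of square `1`. -/
theorem rank_mem {T : Type*} [Group T] [Finite T] (h2 : PRankLE 2 2 T) (Wt : Subgroup T)
    (hab : ∀ a ∈ Wt, ∀ b ∈ Wt, a * b = b * a) (hexp : ∀ a ∈ Wt, a * a = 1)
    (hcard : 4 ≤ Nat.card Wt) (z : T) (hzc : ∀ g : T, g * z = z * g) (hz : z * z = 1) :
    z ∈ Wt := by
  obtain ⟨CC, hCC⟩ : ∃ CC : Subgroup T,
      CC = Subgroup.centralizer (Subgroup.centralizer (Wt : Set T) : Set T) := ⟨_, rfl⟩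
  have hWC : Wt ≤ Subgroup.centralizer (Wt : Set T) := by
    intro a ha
    rw [Subgroup.mem_centralizer_iff]
    intro b hb
    exact hab b hb a ha
  have hCCcomm : ∀ a ∈ CC, ∀ b ∈ CC, a * b = b * a := by
    intro a ha b hb
    rw [hCC] at ha hb
    have hbW : b ∈ Subgroup.centralizer (Wt : Set T) := by
      rw [Subgroup.mem_centralizer_iff]
      intro w hw
      exact Subgroup.mem_centralizer_iff.mp hb w (hWC hw)
    exact (Subgroup.mem_centralizer_iff.mp ha b hbW).symm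
  obtain ⟨A, hA⟩ : ∃ A : Subgroup T, ∀ a : T, a ∈ A ↔ (a ∈ CC ∧ a ^ 2 = 1) := by
    refine ⟨{ carrier := {a | a ∈ CC ∧ a ^ 2 = 1}
              one_mem' := ⟨CC.one_mem, one_pow 2⟩
              mul_mem' := ?_
              inv_mem' := ?_ }, fun a => Iff.rfl⟩
    · rintro a b ⟨ha, ha2⟩ ⟨hb, hb2⟩
      refine ⟨CC.mul_mem ha hb, ?_⟩
      have hc : Commute a b := hCCcomm a ha b hb
      rw [hc.mul_pow, ha2, hb2, one_mul]
    · rintro a ⟨ha, ha2⟩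
      exact ⟨CC.inv_mem ha, by rw [inv_pow, ha2, inv_one]⟩
  have hAcomm : IsMulCommutative A :=
    ⟨⟨fun a b => Subtype.ext (hCCcomm a ((hA a).mp a.2).1 b ((hA b).mp b.2).1)⟩⟩
  have hAexp : ∀ a ∈ A, a ^ 2 = 1 := fun a ha => ((hA a).mp ha).2
  have hcardA : Nat.card A ≤ 2 ^ 2 := h2 A hAcomm hAexp
  have hWA : Wt ≤ A := by
    intro w hw
    rw [hA]
    refine ⟨?_, by rw [pow_two]; exact hexp w hw⟩
    rw [hCC, Subgroup.mem_centralizer_iff]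
    intro h hh
    exact (Subgroup.mem_centralizer_iff.mp hh w hw).symm
  have hzA : z ∈ A := by
    rw [hA]
    refine ⟨?_, by rw [pow_two]; exact hz⟩
    rw [hCC, Subgroup.mem_centralizer_iff]
    intro h _
    exact hzc h
  have h8 : (2 : ℕ) ^ 2 = 4 := by norm_num
  have heq : Wt = A := Subgroup.eq_of_le_of_card_ge hWA (by omega)
  rw [heq]
  exact hzA

/-- **Piece FC2 of S5213** (core form; the output is that of piece F4 of the skeleton). -/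
theorem fc2_core [Finite S] (hS : IsPGroup 2 S) (F : FusionSystem S) (hF : F.IsSaturated 2)
    (h2 : PRankLE 2 2 ↥S) (z : ↥S) (hz2 : orderOf z = 2) (hzc : ∀ g : ↥S, g * z = z * g)
    (E : Subgroup Ω) (hES : E ≤ S) (γ : MulAut ↥E)
    (hγ : E.subtype.comp γ.toMonoidHom ∈ F.Hom E)
    (hzE : (z : Ω) ∈ E) (u₀ : ↥E) (hu₀ : u₀ * u₀ = 1) (hu₀1 : u₀ ≠ 1)
    (hu₀z : (u₀ : Ω) ≠ (z : Ω))
    (hγz : γ ⟨(z : Ω), hzE⟩ = u₀) (hγu : γ u₀ = ⟨(z : Ω), hzE⟩ * u₀) :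
    ∃ (v : Ω) (T : Subgroup Ω), v ∈ S ∧ orderOf v = 2 ∧ v ≠ (z : Ω) ∧
      (∀ x : Ω, x ∈ T ↔ x ∈ S ∧ x * v = v * x) ∧
      ∃ (hzT : (z : Ω) ∈ T) (hvT : v ∈ T) (φ : MulAut T),
        ((φ ⟨(z : Ω), hzT⟩ : T) : Ω) = v ∧ ((φ ⟨v, hvT⟩ : T) : Ω) = (z : Ω) * v := by
  classical
  have : Fact (Nat.Prime 2) := ⟨Nat.prime_two⟩
  have hz1 : (z : Ω) ≠ 1 := by
    intro h
    have h1 : z = 1 := Subtype.ext h
    rw [h1, orderOf_one] at hz2
    omega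
  have hzz : (z : Ω) * (z : Ω) = 1 := by
    have h1 : z ^ 2 = 1 := by rw [← hz2]; exact pow_orderOf_eq_one z
    have h3 := congrArg Subtype.val h1
    rwa [Subgroup.coe_pow, pow_two] at h3
  have hzcΩ : ∀ g ∈ S, g * (z : Ω) = (z : Ω) * g := fun g hg =>
    congrArg Subtype.val (hzc ⟨g, hg⟩)
  have huu : (u₀ : Ω) * (u₀ : Ω) = 1 := congrArg Subtype.val hu₀
  have hu1 : (u₀ : Ω) ≠ 1 := fun h => hu₀1 (Subtype.ext h)
  have hzEc : ∀ g : ↥E, g * (⟨(z : Ω), hzE⟩ : ↥E) = ⟨(z : Ω), hzE⟩ * g := fun g =>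
    Subtype.ext (hzcΩ g (hES g.2))
  have hu₀c : ∀ g : ↥E, g * u₀ = u₀ * g := by
    intro g
    have h1 : g = γ (γ.symm g) := (γ.apply_symm_apply g).symm
    rw [h1, ← hγz, ← map_mul, ← map_mul, hzEc]
  -- `W₀ = Ω₁(Z(E))`
  obtain ⟨W₀, hW₀⟩ : ∃ W₀ : Subgroup Ω,
      ∀ a : Ω, a ∈ W₀ ↔ (a ∈ E ∧ (∀ g ∈ E, g * a = a * g) ∧ a * a = 1) := by
    refine ⟨{ carrier := {a | a ∈ E ∧ (∀ g ∈ E, g * a = a * g) ∧ a * a = 1}
              one_mem' := ⟨E.one_mem, fun g _ => by rw [mul_one, one_mul], mul_one 1⟩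
              mul_mem' := ?_
              inv_mem' := ?_ }, fun a => Iff.rfl⟩
    · rintro a b ⟨ha, hac, ha2⟩ ⟨hb, hbc, hb2⟩
      refine ⟨E.mul_mem ha hb, fun g hg => ?_, ?_⟩
      · rw [← mul_assoc, hac g hg, mul_assoc, hbc g hg, ← mul_assoc]
      · calc a * b * (a * b) = a * (b * a) * b := by group
          _ = a * (a * b) * b := by rw [hac b hb]
          _ = (a * a) * (b * b) := by group
          _ = 1 := by rw [ha2, hb2, one_mul]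
    · rintro a ⟨ha, hac, ha2⟩
      have hinv : a⁻¹ = a := inv_eq_of_mul_eq_one_left ha2
      show a⁻¹ ∈ {a | a ∈ E ∧ (∀ g ∈ E, g * a = a * g) ∧ a * a = 1}
      rw [hinv]
      exact ⟨ha, hac, ha2⟩
  have hW₀E : W₀ ≤ E := fun a ha => ((hW₀ a).mp ha).1
  have hW₀S : W₀ ≤ S := hW₀E.trans hES
  have hzW₀ : (z : Ω) ∈ W₀ := (hW₀ _).mpr ⟨hzE, fun g hg => hzcΩ g (hES hg), hzz⟩
  have huW₀ : (u₀ : Ω) ∈ W₀ :=
    (hW₀ _).mpr ⟨u₀.2, fun g hg => congrArg Subtype.val (hu₀c ⟨g, hg⟩), huu⟩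
  have hW₀ab : ∀ a ∈ W₀, ∀ b ∈ W₀, a * b = b * a := fun a ha b hb =>
    ((hW₀ b).mp hb).2.1 a (hW₀E ha)
  have hW₀exp : ∀ a ∈ W₀, a * a = 1 := fun a ha => ((hW₀ a).mp ha).2.2
  have hW₀card : Nat.card W₀ ≤ 4 := card_le_four h2 W₀ hW₀S hW₀ab hW₀exp
  have hfinW₀ : Finite W₀ := Cfsg.Agent.Lib.helper88.finite_of_le hW₀S
  obtain ⟨z₀, hz₀⟩ : ∃ z₀ : ↥W₀, z₀ = ⟨(z : Ω), hzW₀⟩ := ⟨_, rfl⟩
  obtain ⟨v₀, hv₀⟩ : ∃ v₀ : ↥W₀, v₀ = ⟨(u₀ : Ω), huW₀⟩ := ⟨_, rfl⟩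
  have hz₀1 : z₀ ≠ 1 := fun h => hz1 (by rw [hz₀] at h; exact congrArg Subtype.val h)
  have hv₀1 : v₀ ≠ 1 := fun h => hu1 (by rw [hv₀] at h; exact congrArg Subtype.val h)
  have hzv₀ : z₀ ≠ v₀ := fun h => hu₀z (by rw [hz₀, hv₀] at h; exact (congrArg Subtype.val h).symm)
  have hW₀enum : ∀ w : ↥W₀, w = 1 ∨ w = z₀ ∨ w = v₀ ∨ w = z₀ * v₀ :=
    four_cases hW₀card (fun a b => Subtype.ext (hW₀ab a a.2 b b.2))
      (fun a => Subtype.ext (hW₀exp a a.2)) z₀ v₀ hz₀1 hv₀1 hzv₀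
  have hW₀four : 4 ≤ Nat.card W₀ := by
    have hsub : ({1, z₀, v₀, z₀ * v₀} : Set ↥W₀) ⊆ Set.univ := Set.subset_univ _
    have h4 : ({1, z₀, v₀, z₀ * v₀} : Set ↥W₀).ncard = 4 := by
      rw [Set.ncard_insert_of_notMem, Set.ncard_insert_of_notMem, Set.ncard_insert_of_notMem,
        Set.ncard_singleton]
      · simp only [Set.mem_singleton_iff]
        intro h
        apply hz₀1
        have h6 : 1 * v₀ = z₀ * v₀ := by rw [one_mul]; exact h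
        exact (mul_right_cancel h6).symm
      · simp only [Set.mem_insert_iff, Set.mem_singleton_iff, not_or]
        refine ⟨hzv₀, fun h => hv₀1 ?_⟩
        have h6 : z₀ * 1 = z₀ * v₀ := by rw [mul_one]; exact h
        exact (mul_left_cancel h6).symm
      · simp only [Set.mem_insert_iff, Set.mem_singleton_iff, not_or]
        refine ⟨fun h => hz₀1 h.symm, fun h => hv₀1 h.symm, fun h => hzv₀ ?_⟩
        have hzz₀ : z₀ * z₀ = 1 := Subtype.ext (hW₀exp z₀ z₀.2)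
        have h6 : z₀ * z₀ = z₀ * v₀ := by rw [hzz₀]; exact h
        exact mul_left_cancel h6
    have h5 := Set.ncard_le_ncard hsub (Set.toFinite _)
    rw [h4, Set.ncard_univ] at h5
    exact h5
  -- the restriction `γ₀` of `γ` to `W₀`
  obtain ⟨γ₀, hγ₀def⟩ : ∃ γ₀ : ↥W₀ →* Ω,
      γ₀ = (E.subtype.comp γ.toMonoidHom).comp (Subgroup.inclusion hW₀E) := ⟨_, rfl⟩
  have hγ₀ : γ₀ ∈ F.Hom W₀ := by
    rw [hγ₀def]
    exact Cfsg.Agent.Lib.helper88.restrict_mem F hW₀E hγ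
  have hγ₀z : γ₀ z₀ = (u₀ : Ω) := by
    rw [hγ₀def, hz₀]
    exact congrArg Subtype.val hγz
  have hγ₀u : γ₀ v₀ = (z : Ω) * (u₀ : Ω) := by
    rw [hγ₀def, hv₀]
    exact congrArg Subtype.val hγu
  have hγ₀W : ∀ w : ↥W₀, γ₀ w ∈ W₀ := by
    intro w
    rcases hW₀enum w with h | h | h | h
    · rw [h, map_one]; exact W₀.one_mem
    · rw [h, hγ₀z]; exact huW₀
    · rw [h, hγ₀u]; exact W₀.mul_mem hzW₀ huW₀
    · rw [h, map_mul, hγ₀z, hγ₀u]; exact W₀.mul_mem huW₀ (W₀.mul_mem hzW₀ huW₀)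
  obtain ⟨Γ, hΓdef⟩ : ∃ Γ : ↥W₀ →* ↥W₀, Γ = γ₀.codRestrict W₀ hγ₀W := ⟨_, rfl⟩
  have hΓcoe : ∀ w : ↥W₀, ((Γ w : ↥W₀) : Ω) = γ₀ w := fun w => by rw [hΓdef]; rfl
  have hΓz : Γ z₀ = v₀ := by
    apply Subtype.ext
    rw [hΓcoe, hγ₀z, hv₀]
  have hΓu : Γ v₀ = z₀ * v₀ := by
    apply Subtype.ext
    rw [hΓcoe, hγ₀u, hz₀, hv₀]
    rfl
  have hΓid : ∀ w : ↥W₀, Γ (Γ w) = w * Γ w := by
    intro w
    rcases hW₀enum w with h | h | h | h
    · rw [h, map_one, map_one, one_mul]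
    · rw [h, hΓz, hΓu]
    · rw [h, hΓu, map_mul, hΓz, hΓu]
    · rw [h, map_mul, hΓz, hΓu, map_mul, hΓu, map_mul, hΓz, hΓu]
  -- a fully normalized conjugate `W = ψ(W₀)`
  obtain ⟨W, ⟨ψ, hψ, hψrange⟩, hWfn⟩ :=
    Cfsg.Agent.Lib.helper88.exists_fullyNormalized_conj F hW₀S
  subst hψrange
  have hrec : F.IsReceptive ψ.range :=
    (Cfsg.Agent.Lib.helper88.fullyAutomized_receptive_of_fullyNormalized hS F hF hWfn).2
  have hψinj := F.injective_of_mem hψ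
  have hWS : ψ.range ≤ S := hWfn.1
  obtain ⟨χ, hχ, hχψ⟩ := F.inv_mem hψ
  have hχW₀ : ∀ y : ↥ψ.range, χ y ∈ W₀ := by
    rintro ⟨_, x, rfl⟩
    rw [hχψ x]
    exact x.2
  have hc1 : γ₀.comp (χ.codRestrict W₀ hχW₀) ∈ F.Hom ψ.range := F.comp_mem hχ hγ₀ hχW₀
  have hc1W : ∀ y : ↥ψ.range, (γ₀.comp (χ.codRestrict W₀ hχW₀)) y ∈ W₀ := fun y => hγ₀W _
  obtain ⟨γ', hγ'def⟩ : ∃ γ' : ↥ψ.range →* Ω,
      γ' = ψ.comp ((γ₀.comp (χ.codRestrict W₀ hχW₀)).codRestrict W₀ hc1W) := ⟨_, rfl⟩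
  have hγ' : γ' ∈ F.Hom ψ.range := by
    rw [hγ'def]
    exact F.comp_mem hc1 hψ hc1W
  have hγ'ψ : ∀ x : ↥W₀, γ' ⟨ψ x, ⟨x, rfl⟩⟩ = ψ (Γ x) := by
    intro x
    rw [hγ'def]
    show ψ ⟨γ₀ ⟨χ ⟨ψ x, ⟨x, rfl⟩⟩, _⟩, _⟩ = ψ (Γ x)
    congr 1
    apply Subtype.ext
    rw [hΓcoe]
    show γ₀ ⟨χ ⟨ψ x, ⟨x, rfl⟩⟩, _⟩ = γ₀ x
    congr 1
    exact Subtype.ext (hχψ x)
  have hγ'W : ∀ y : ↥ψ.range, γ' y ∈ ψ.range := by
    rintro ⟨_, x, rfl⟩
    rw [hγ'ψ]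
    exact ⟨_, rfl⟩
  have hγ'range : γ'.range = ψ.range :=
    Cfsg.Agent.Lib.helper90.range_eq_of_forall_mem F hγ' hγ'W
  have hγ'inj := F.injective_of_mem hγ'
  have hγ'id : ∀ y : ↥ψ.range, γ' ⟨γ' y, hγ'W y⟩ = (y : Ω) * γ' y := by
    rintro ⟨_, x, rfl⟩
    have h1 : (⟨γ' ⟨ψ x, ⟨x, rfl⟩⟩, hγ'W _⟩ : ↥ψ.range) = ⟨ψ (Γ x), ⟨Γ x, rfl⟩⟩ :=
      Subtype.ext (hγ'ψ x)
    rw [h1, hγ'ψ, hγ'ψ, hΓid x, map_mul]
  have hWab : ∀ a ∈ ψ.range, ∀ b ∈ ψ.range, a * b = b * a := by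
    rintro _ ⟨x, rfl⟩ _ ⟨y, rfl⟩
    rw [← map_mul, ← map_mul]
    congr 1
    exact Subtype.ext (hW₀ab x x.2 y y.2)
  have hWexp : ∀ a ∈ ψ.range, a * a = 1 := by
    rintro _ ⟨x, rfl⟩
    rw [← map_mul]
    have h1 : x * x = 1 := Subtype.ext (hW₀exp x x.2)
    rw [h1, map_one]
  have hWcard : Nat.card ψ.range = Nat.card W₀ :=
    (Nat.card_congr (MonoidHom.ofInjective hψinj).toEquiv).symm
  have hfinW : Finite ψ.range := Cfsg.Agent.Lib.helper88.finite_of_le hWS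
  have hzW : (z : Ω) ∈ ψ.range := by
    have h := rank_mem (T := ↥S) h2 (ψ.range.subgroupOf S) ?_ ?_ ?_ z hzc (Subtype.ext hzz)
    · exact Subgroup.mem_subgroupOf.mp h
    · intro a ha b hb
      exact Subtype.ext (hWab a (Subgroup.mem_subgroupOf.mp ha) b (Subgroup.mem_subgroupOf.mp hb))
    · intro a ha
      exact Subtype.ext (hWexp a (Subgroup.mem_subgroupOf.mp ha))
    · have e := Nat.card_congr (Subgroup.subgroupOfEquivOfLe hWS).toEquiv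
      rw [e, hWcard]
      exact hW₀four
  obtain ⟨uΩ, huΩdef⟩ : ∃ uΩ : Ω, uΩ = γ' ⟨(z : Ω), hzW⟩ := ⟨_, rfl⟩
  have huW : uΩ ∈ ψ.range := by rw [huΩdef]; exact hγ'W _
  have huS : uΩ ∈ S := hWS huW
  have huu' : uΩ * uΩ = 1 := hWexp _ huW
  have hu1' : uΩ ≠ 1 := by
    intro h
    have h1 : γ' ⟨(z : Ω), hzW⟩ = γ' 1 := by rw [map_one, ← huΩdef]; exact h
    exact hz1 (congrArg Subtype.val (hγ'inj h1))
  have hγ'u : γ' ⟨uΩ, huW⟩ = (z : Ω) * uΩ := by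
    have h1 := hγ'id ⟨(z : Ω), hzW⟩
    have h2' : (⟨γ' ⟨(z : Ω), hzW⟩, hγ'W _⟩ : ↥ψ.range) = ⟨uΩ, huW⟩ := Subtype.ext huΩdef.symm
    rw [h2', ← huΩdef] at h1
    exact h1
  have huz' : uΩ ≠ (z : Ω) := by
    intro h
    have h2' : (⟨uΩ, huW⟩ : ↥ψ.range) = ⟨(z : Ω), hzW⟩ := Subtype.ext h
    have h1 := hγ'u
    rw [h2', ← huΩdef, h, hzz] at h1
    exact hz1 h1
  have hWcard4 : Nat.card ψ.range ≤ 4 := card_le_four h2 ψ.range hWS hWab hWexp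
  have hWenum : ∀ w ∈ ψ.range, w = 1 ∨ w = (z : Ω) ∨ w = uΩ ∨ w = (z : Ω) * uΩ := by
    intro w hw
    have h := four_cases (T := ↥ψ.range) hWcard4 (fun a b => Subtype.ext (hWab a a.2 b b.2))
      (fun a => Subtype.ext (hWexp a a.2)) ⟨(z : Ω), hzW⟩ ⟨uΩ, huW⟩
      (fun h => hz1 (congrArg Subtype.val h)) (fun h => hu1' (congrArg Subtype.val h))
      (fun h => huz' (congrArg Subtype.val h).symm) ⟨w, hw⟩
    rcases h with h | h | h | h
    · exact Or.inl (congrArg Subtype.val h)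
    · exact Or.inr (Or.inl (congrArg Subtype.val h))
    · exact Or.inr (Or.inr (Or.inl (congrArg Subtype.val h)))
    · exact Or.inr (Or.inr (Or.inr (congrArg Subtype.val h)))
  -- the receptive extension to `C_S(W)`
  obtain ⟨ψ', hψ', hext⟩ := hrec.2 ψ.range γ' hγ' hγ'range
  have hTle : centralizerIn S ψ.range ≤ extender S ψ.range γ' :=
    Cfsg.Agent.Lib.helper88.centralizerIn_le_extender S ψ.range γ'
  obtain ⟨θ, hθdef⟩ : ∃ θ : ↥(centralizerIn S ψ.range) →* Ω,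
      θ = ψ'.comp (Subgroup.inclusion hTle) := ⟨_, rfl⟩
  have hθ : θ ∈ F.Hom (centralizerIn S ψ.range) := by
    rw [hθdef]
    exact Cfsg.Agent.Lib.helper88.restrict_mem F hTle hψ'
  have hWT : ψ.range ≤ centralizerIn S ψ.range := by
    intro w hw
    refine ⟨hWS hw, ?_⟩
    show w ∈ Subgroup.centralizer (ψ.range : Set Ω)
    rw [Subgroup.mem_centralizer_iff]
    intro b hb
    exact hWab b hb w hw
  have hθW : ∀ (w : Ω) (hw : w ∈ ψ.range), θ ⟨w, hWT hw⟩ = γ' ⟨w, hw⟩ := by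
    intro w hw
    rw [hθdef]
    exact hext w hw (hTle (hWT hw))
  have hθT : ∀ g : ↥(centralizerIn S ψ.range), θ g ∈ centralizerIn S ψ.range := by
    intro g
    refine ⟨(F.le_of_mem hθ).2 g, ?_⟩
    show θ g ∈ Subgroup.centralizer (ψ.range : Set Ω)
    rw [Subgroup.mem_centralizer_iff]
    intro w hw
    have hw' : w ∈ γ'.range := by rw [hγ'range]; exact hw
    obtain ⟨w', rfl⟩ := hw'
    rw [← hθW (w' : Ω) w'.2, ← map_mul, ← map_mul]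
    congr 1
    apply Subtype.ext
    show (w' : Ω) * (g : Ω) = (g : Ω) * (w' : Ω)
    have hg2 : (g : Ω) ∈ Subgroup.centralizer (ψ.range : Set Ω) := g.2.2
    exact Subgroup.mem_centralizer_iff.mp hg2 w' w'.2
  have hθinj : Function.Injective (θ.codRestrict _ hθT) := by
    intro a b hab
    apply F.injective_of_mem hθ
    exact congrArg Subtype.val hab
  have hfinT : Finite ↥(centralizerIn S ψ.range) :=
    Cfsg.Agent.Lib.helper88.finite_of_le inf_le_left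
  have hbij : Function.Bijective (θ.codRestrict _ hθT) :=
    ⟨hθinj, Finite.surjective_of_injective hθinj⟩
  obtain ⟨φT, hφT⟩ : ∃ φT : MulAut ↥(centralizerIn S ψ.range),
      ∀ g, ((φT g : ↥(centralizerIn S ψ.range)) : Ω) = θ g :=
    ⟨MulEquiv.ofBijective _ hbij, fun g => rfl⟩
  have hTchar : ∀ x : Ω, x ∈ centralizerIn S ψ.range ↔ x ∈ S ∧ x * uΩ = uΩ * x := by
    intro x
    constructor
    · rintro ⟨hxS, hxc⟩
      have hxc' : x ∈ Subgroup.centralizer (ψ.range : Set Ω) := hxc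
      exact ⟨hxS, (Subgroup.mem_centralizer_iff.mp hxc' uΩ huW).symm⟩
    · rintro ⟨hxS, hxu⟩
      refine ⟨hxS, ?_⟩
      show x ∈ Subgroup.centralizer (ψ.range : Set Ω)
      rw [Subgroup.mem_centralizer_iff]
      intro w hw
      have hxz : (z : Ω) * x = x * (z : Ω) := (hzcΩ x hxS).symm
      rcases hWenum w hw with h | h | h | h
      · rw [h, one_mul, mul_one]
      · rw [h]; exact hxz
      · rw [h]; exact hxu.symm
      · rw [h, mul_assoc, ← hxu, ← mul_assoc, hxz, mul_assoc]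
  have hvo : orderOf uΩ = 2 := orderOf_eq_prime (by rw [pow_two]; exact huu') hu1'
  refine ⟨uΩ, centralizerIn S ψ.range, huS, hvo, huz', hTchar, hWT hzW, hWT huW, φT, ?_, ?_⟩
  · rw [hφT, hθW (z : Ω) hzW, ← huΩdef]
  · rw [hφT, hθW uΩ huW, hγ'u]

end Cfsg.Agent.Lib.helper88.S5213

namespace Cfsg.Agent.Lib.helper88.FS13

open Cfsg Cfsg.FusionSystem

variable {Ω : Type*} [Group Ω] {S : Subgroup Ω}

/-- **PIECE F4 of the S5213 skeleton** (verbatim statement). -/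
theorem transport_four [Finite S] (hS : IsPGroup 2 S) (F : FusionSystem S)
    (hF : F.IsSaturated 2) (h2 : Cfsg.PRankLE 2 2 ↥S) (z : Ω) (hzS : z ∈ S)
    (hz : orderOf z = 2) (hzc : ∀ s ∈ S, s * z = z * s) (R : Subgroup Ω) (hRS : R ≤ S)
    (hzR : z ∈ R) (u : Ω) (huR : u ∈ R) (hu : orderOf u = 2) (huz : u ≠ z) (γ : MulAut R)
    (hγ : γ ∈ F.autGroup R) (hγz : ((γ ⟨z, hzR⟩ : R) : Ω) = u)
    (hγu : ((γ ⟨u, huR⟩ : R) : Ω) = z * u) :
    ∃ (v : Ω) (T : Subgroup Ω), v ∈ S ∧ orderOf v = 2 ∧ v ≠ z ∧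
      (∀ x : Ω, x ∈ T ↔ x ∈ S ∧ x * v = v * x) ∧
      ∃ (hzT : z ∈ T) (hvT : v ∈ T) (φ : MulAut T),
        ((φ ⟨z, hzT⟩ : T) : Ω) = v ∧ ((φ ⟨v, hvT⟩ : T) : Ω) = z * v := by
  have hγ' := (Cfsg.Agent.Lib.helper88.mem_autGroup_iff' F hRS γ).mp hγ
  have hzo : orderOf (⟨z, hzS⟩ : ↥S) = 2 := by rw [← Subgroup.orderOf_coe]; exact hz
  have huu : u * u = 1 := by rw [← pow_two, ← hu]; exact pow_orderOf_eq_one u
  have hu1 : u ≠ 1 := by
    intro h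
    rw [h, orderOf_one] at hu
    omega
  exact Cfsg.Agent.Lib.helper88.S5213.fc2_core hS F hF h2 ⟨z, hzS⟩ hzo
    (fun g => Subtype.ext (hzc g g.2)) R hRS γ hγ' hzR ⟨u, huR⟩ (Subtype.ext huu)
    (fun h => hu1 (congrArg Subtype.val h)) huz (Subtype.ext hγz) (Subtype.ext hγu)

end Cfsg.Agent.Lib.helper88.FS13
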