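import Cfsg.Agent.Lib.helper88.Constrained2
import Cfsg.Agent.Lib.helper87.SubgroupSystem
import Cfsg.Agent.S5135

/-!
Subnormal subgroups of a group with constrained fusion system (helper88).

* `subnormal_constrained`: if `F_S(G)` is constrained and `K` is subnormal in `G`, then `S ∩ K` is a
  Sylow subgroup of `K` and `F_{S ∩ K}(K)` is constrained.
* `isFactorSystem_subgroup_iso`: `F_T(L)` inside `G` is isomorphic to the fusion system of the group
  `L` on `T`.
* `constrained_center_quotient`: `F_{S ∩ L}(L)` constrained implies the fusion system of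
  `L / Z(L)` on the image of `S ∩ L` is constrained.
-/

set_option autoImplicit false

namespace Cfsg.Agent.Lib.helper88

open Cfsg Cfsg.FusionSystem

/-- If `F_S(G)` is constrained and `K` is subnormal in `G`, then `S ∩ K` is a Sylow subgroup of `K`
and `F_{S ∩ K}(K)` is constrained. -/
theorem subnormal_constrained {G : Type*} [Group G] [Finite G] {p : ℕ} [Fact p.Prime]
    (S : Sylow p G) (hF : (groupFusionSystem (S : Subgroup G)).IsConstrained p)
    {K : Subgroup G} (hK : K.IsSubnormal) :
    ∀ (T : Subgroup G) (hTK : T ≤ K), T = (S : Subgroup G) ⊓ K →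
      (∃ R : Sylow p K, (R : Subgroup K) = T.subgroupOf K) ∧
        (fusionSystemOfSubgroup K T hTK).IsConstrained p := by
  induction hK with
  | top =>
    intro T hTK hT
    have hT' : T = (S : Subgroup G) := by rw [hT, inf_top_eq]
    subst hT'
    have hsyl := Cfsg.Agent.Lib.helper87.sylowIn_top S
    refine ⟨hsyl, ?_⟩
    refine isConstrained_of_le_of_stronglyClosed S.isPGroup' (groupFusionSystem (S : Subgroup G)) hF
      (fusionSystemOfSubgroup ⊤ (S : Subgroup G) hTK)
      (Cfsg.Agent.Lib.helper87.fusionSystemOfSubgroup_saturated ⊤ (S : Subgroup G) hTK hsyl) ?_ ?_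
    · rintro P φ ⟨hP, hφ, g, -, hg⟩
      exact ⟨hP, hφ, g, hg⟩
    · exact ⟨le_rfl, fun R hR φ hφ x => ((groupFusionSystem (S : Subgroup G)).le_of_mem hφ).2 x⟩
  | step H K h_le hSubn hN ih =>
    intro T hTH hT
    obtain ⟨hsylK, hconK⟩ := ih ((S : Subgroup G) ⊓ K) inf_le_right rfl
    have hnorm : K ≤ Subgroup.normalizer (H : Set G) :=
      (Subgroup.normal_subgroupOf_iff_le_normalizer h_le).mp hN
    have hTeq : ((S : Subgroup G) ⊓ K) ⊓ H = T := by
      rw [hT, inf_assoc, inf_eq_right.mpr h_le]
    have hsylH : ∃ R : Sylow p H, (R : Subgroup H) = T.subgroupOf H := by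
      have h := Cfsg.Agent.Lib.helper87.sylowIn_inf_of_normalizes (T := (S : Subgroup G) ⊓ K)
        inf_le_right hsylK h_le hnorm
      rw [hTeq] at h
      exact h
    refine ⟨hsylH, ?_⟩
    have hTSK : T ≤ (S : Subgroup G) ⊓ K := by
      rw [hT]
      exact inf_le_inf_left _ h_le
    refine isConstrained_of_le_of_stronglyClosed (S.isPGroup'.to_le inf_le_left)
      (fusionSystemOfSubgroup K ((S : Subgroup G) ⊓ K) inf_le_right) hconK
      (fusionSystemOfSubgroup H T hTH)
      (Cfsg.Agent.Lib.helper87.fusionSystemOfSubgroup_saturated H T hTH hsylH) ?_ ?_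
    · rintro P φ ⟨hP, hφ, g, hgH, hg⟩
      exact ⟨hP.trans hTSK, fun x => hTSK (hφ x), g, h_le hgH, hg⟩
    · refine ⟨hTSK, ?_⟩
      rintro R hR φ ⟨-, hφ, g, hgK, hg⟩ x
      rw [hT]
      refine ⟨(hφ x).1, ?_⟩
      rw [hg x]
      have hxH : (x : G) ∈ H := by
        have := hR x.2
        rw [hT] at this
        exact this.2
      exact (Subgroup.mem_normalizer_iff.mp (hnorm hgK) _).mp hxH

/-- `F_T(L)` inside `G` is isomorphic to the fusion system of the group `L` on `T`. -/
theorem isFactorSystem_subgroup_iso {G : Type*} [Group G] (L T : Subgroup G) (hTL : T ≤ L)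
    (T' : Subgroup L) (hT' : T' = T.subgroupOf L) :
    (fusionSystemOfSubgroup L T hTL).IsFactorSystem ⊥ (Subgroup.inclusion hTL)
      (groupFusionSystem T') := by
  subst hT'
  refine ⟨bot_le, fun s => ?_, ?_, fun P' φ' => ?_⟩
  · rw [Subgroup.mem_bot]
    constructor
    · intro h
      have := congrArg Subtype.val h
      simpa using this
    · intro h
      apply Subtype.ext
      simpa using h
  · ext y
    constructor
    · rintro ⟨s, rfl⟩
      exact Subgroup.mem_subgroupOf.mpr s.2
    · intro hy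
      exact ⟨⟨y, Subgroup.mem_subgroupOf.mp hy⟩, Subtype.ext rfl⟩
  · constructor
    · rintro ⟨hP'T, hφ'T, g, hg⟩
      refine ⟨hP'T, ?_⟩
      have hPT : preimageAlong (Subgroup.inclusion hTL) P' ≤ T :=
        Cfsg.Agent.Lib.helper87.preimageAlong_le _ _
      have hPP' : ∀ x : ↥(preimageAlong (Subgroup.inclusion hTL) P'),
          Subgroup.inclusion hTL ⟨x, hPT x.2⟩ ∈ P' :=
        fun x => Cfsg.Agent.Lib.helper87.preimageAlong_map_mem _ P' x
      have hval : ∀ x : ↥(preimageAlong (Subgroup.inclusion hTL) P'),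
          (g : G) * (x : G) * (g : G)⁻¹ ∈ T := by
        intro x
        have h1 := hφ'T ⟨_, hPP' x⟩
        rw [hg] at h1
        exact Subgroup.mem_subgroupOf.mp h1
      refine ⟨conjHom (preimageAlong (Subgroup.inclusion hTL) P') (g : G),
        ⟨hPT, hval, (g : G), g.2, fun x => rfl⟩, hPT, hval, hPP', fun x => ?_⟩
      rw [hg]
      exact Subtype.ext rfl
    · rintro ⟨hP'T, φ, ⟨hPT, hφT, g, hgL, hg⟩, hP, hφS, hP', hind⟩
      have hmem : ∀ y : P', ((y : L) : G) ∈ preimageAlong (Subgroup.inclusion hTL) P' := by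
        intro y
        rw [Cfsg.Agent.Lib.helper87.mem_preimageAlong]
        exact ⟨Subgroup.mem_subgroupOf.mp (hP'T y.2), y.2⟩
      have key : ∀ y : P', φ' y = Subgroup.inclusion hTL ⟨φ ⟨((y : L) : G), hmem y⟩, hφS _⟩ := by
        intro y
        rw [← hind ⟨((y : L) : G), hmem y⟩]
        congr 1
      refine ⟨hP'T, fun y => ?_, ⟨g, hgL⟩, fun y => ?_⟩
      · rw [key y]
        exact Subgroup.mem_subgroupOf.mpr (hφS _)
      · rw [key y]
        apply Subtype.ext
        exact hg _

/-- If `F_{S ∩ L}(L)` (inside `G`) is constrained, where `S ∩ L` is a Sylow `p`-subgroup of `L`, then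
the fusion system of `L / Z(L)` on the image of `S ∩ L` is constrained. -/
theorem constrained_center_quotient {G : Type*} [Group G] [Finite G] {p : ℕ} [Fact p.Prime]
    (L T : Subgroup G) (hTL : T ≤ L) (hsyl : ∃ R : Sylow p L, (R : Subgroup L) = T.subgroupOf L)
    (hcon : (fusionSystemOfSubgroup L T hTL).IsConstrained p) :
    (groupFusionSystem ((T.subgroupOf L).map (QuotientGroup.mk' (Subgroup.center L)))).IsConstrained
      p := by
  obtain ⟨R, hR⟩ := hsyl
  rw [← hR]
  have hTp : IsPGroup p T := by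
    have h1 : IsPGroup p (T.subgroupOf L) := hR ▸ R.isPGroup'
    exact (h1.map L.subtype).to_le (fun x hx => ⟨⟨x, hTL hx⟩, Subgroup.mem_subgroupOf.mpr hx, rfl⟩)
  haveI : Finite T := inferInstance
  have hFL : (groupFusionSystem (R : Subgroup L)).IsConstrained p := by
    refine isConstrained_factor_of_fixed hTp (fusionSystemOfSubgroup L T hTL) hcon (Z₀ := ⊥) ?_
      (Subgroup.inclusion hTL) (groupFusionSystem (R : Subgroup L))
      (isFactorSystem_subgroup_iso L T hTL (R : Subgroup L) hR)
    intro P φ hφ x hx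
    have hx1 : x = 1 := Subtype.ext (Subgroup.mem_bot.mp hx)
    rw [hx1, map_one]
    rfl
  refine isConstrained_factor_of_fixed R.isPGroup' (groupFusionSystem (R : Subgroup L)) hFL
    (Z₀ := (R : Subgroup L) ⊓ Subgroup.center L) ?_ _ _ (Cfsg.Agent.S5135.result p R (Subgroup.center L))
  rintro P φ ⟨-, -, g, hg⟩ x hx
  rw [hg x]
  have hc := (Subgroup.mem_center_iff.mp hx.2) g
  rw [hc]
  group

end Cfsg.Agent.Lib.helper88
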