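import Mathlib

set_option autoImplicit false

namespace Cfsg.Agent.Lib.helper88.TBJ2

/-- an enumeration of the indices with eigenvalue `l` -/
noncomputable def tbj2E {k : Type*} {n : ℕ} (a : Fin n → k) (l : k) :
    {i : Fin n // a i = l} ≃ Fin (Nat.card {i : Fin n // a i = l}) := Finite.equivFin _

open Classical in
/-- the image of `b i` under the nilpotent part: the next basis vector with the same eigenvalue -/
noncomputable def tbj2Nxt {k : Type*} [Field k] {W : Type*} [AddCommGroup W] [Module k W] {n : ℕ}
    (b : Module.Basis (Fin n) k W) (a : Fin n → k) (i : Fin n) : W :=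
  if h : (tbj2E a (a i) ⟨i, rfl⟩).val + 1 < Nat.card {j : Fin n // a j = a i}
    then b ((tbj2E a (a i)).symm ⟨(tbj2E a (a i) ⟨i, rfl⟩).val + 1, h⟩).val else 0

theorem tbj2Nxt_eq {k : Type*} [Field k] {W : Type*} [AddCommGroup W] [Module k W] {n : ℕ}
    (b : Module.Basis (Fin n) k W) (a : Fin n → k) (l : k) (x : {i : Fin n // a i = l}) :
    tbj2Nxt b a x.val = if h : (tbj2E a l x).val + 1 < Nat.card {j : Fin n // a j = l}
      then b ((tbj2E a l).symm ⟨(tbj2E a l x).val + 1, h⟩).val else 0 := by
  obtain ⟨i, rfl⟩ := x; rfl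

theorem tbj2Nxt_S {k : Type*} [Field k] {W : Type*} [AddCommGroup W] [Module k W] {n : ℕ}
    (b : Module.Basis (Fin n) k W) (a : Fin n → k) (S : W →ₗ[k] W)
    (hS : ∀ i, S (b i) = a i • b i) (i : Fin n) :
    S (tbj2Nxt b a i) = a i • tbj2Nxt b a i := by
  unfold tbj2Nxt
  split_ifs with h
  · rw [hS]
    congr 1
    exact ((tbj2E a (a i)).symm ⟨(tbj2E a (a i) ⟨i, rfl⟩).val + 1, h⟩).property
  · simp

/-- one step of the chain -/
theorem tbj2_step {k : Type*} [Field k] {W : Type*} [AddCommGroup W] [Module k W] {n : ℕ}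
    (b : Module.Basis (Fin n) k W) (a : Fin n → k) (S : W →ₗ[k] W)
    (hS : ∀ i, S (b i) = a i • b i) (l : k) (r : ℕ)
    (hr : r + 1 < Nat.card {j : Fin n // a j = l}) :
    (S + b.constr k (tbj2Nxt b a) - algebraMap k (Module.End k W) l)
        (b ((tbj2E a l).symm ⟨r, by omega⟩).val)
      = b ((tbj2E a l).symm ⟨r + 1, hr⟩).val := by
  have h1 : a ((tbj2E a l).symm ⟨r, by omega⟩).val = l :=
    ((tbj2E a l).symm ⟨r, by omega⟩).property
  rw [LinearMap.sub_apply, LinearMap.add_apply, hS, Module.Basis.constr_basis, h1,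
    Module.algebraMap_end_apply, tbj2Nxt_eq b a l, add_sub_cancel_left]
  simp only [Equiv.apply_symm_apply]
  rw [dif_pos hr]

/-- the end of the chain -/
theorem tbj2_last {k : Type*} [Field k] {W : Type*} [AddCommGroup W] [Module k W] {n : ℕ}
    (b : Module.Basis (Fin n) k W) (a : Fin n → k) (S : W →ₗ[k] W)
    (hS : ∀ i, S (b i) = a i • b i) (l : k) (r : ℕ)
    (hr : r + 1 = Nat.card {j : Fin n // a j = l}) :
    (S + b.constr k (tbj2Nxt b a) - algebraMap k (Module.End k W) l)
        (b ((tbj2E a l).symm ⟨r, by omega⟩).val) = 0 := by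
  have h1 : a ((tbj2E a l).symm ⟨r, by omega⟩).val = l :=
    ((tbj2E a l).symm ⟨r, by omega⟩).property
  rw [LinearMap.sub_apply, LinearMap.add_apply, hS, Module.Basis.constr_basis, h1,
    Module.algebraMap_end_apply, tbj2Nxt_eq b a l, add_sub_cancel_left]
  simp only [Equiv.apply_symm_apply]
  rw [dif_neg (by omega)]

/-- iterating the chain -/
theorem tbj2_iter {k : Type*} [Field k] {W : Type*} [AddCommGroup W] [Module k W] {n : ℕ}
    (b : Module.Basis (Fin n) k W) (a : Fin n → k) (S : W →ₗ[k] W)
    (hS : ∀ i, S (b i) = a i • b i) (l : k) (s : ℕ) :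
    ∀ (r t : ℕ) (hr : r < Nat.card {j : Fin n // a j = l})
      (ht : t < Nat.card {j : Fin n // a j = l}), r + s = t →
      ((S + b.constr k (tbj2Nxt b a) - algebraMap k (Module.End k W) l) ^ s)
        (b ((tbj2E a l).symm ⟨r, hr⟩).val) = b ((tbj2E a l).symm ⟨t, ht⟩).val := by
  induction s with
  | zero =>
    intro r t hr ht hrt
    have : r = t := by omega
    subst this
    simp
  | succ s ih =>
    intro r t hr ht hrt
    rw [pow_succ, Module.End.mul_apply, tbj2_step b a S hS l r (by omega)]
    exact ih (r + 1) t (by omega) ht (by omega)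

theorem tb_jordan_alt {k : Type*} [Field k] {W : Type*} [AddCommGroup W] [Module k W] {n : ℕ}
    (b : Module.Basis (Fin n) k W) (a : Fin n → k) (S : W →ₗ[k] W) (hS : ∀ i, S (b i) = a i • b i)
    (D : ℕ) (hD : D < n) :
    ∃ T : W →ₗ[k] W, T ∘ₗ S = S ∘ₗ T ∧
      ∀ q : Polynomial k, q ≠ 0 → q.natDegree ≤ D → Polynomial.aeval T q ≠ 0 := by
  classical
  refine ⟨S + b.constr k (tbj2Nxt b a), ?_, ?_⟩
  · apply b.ext
    intro i
    simp only [LinearMap.comp_apply, LinearMap.add_apply, hS, map_smul, Module.Basis.constr_basis,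
      map_add, tbj2Nxt_S b a S hS, smul_add]
  · intro q hq hdeg hzero
    have key : ∀ l : k, Nat.card {i : Fin n // a i = l} ≤ q.rootMultiplicity l := by
      intro l
      by_contra hlt
      rw [not_le] at hlt
      obtain ⟨g, hg, hndvd⟩ := q.exists_eq_pow_rootMultiplicity_mul_and_not_dvd hq l
      have hgl : g.eval l ≠ 0 := by
        intro h0
        exact hndvd (Polynomial.dvd_iff_isRoot.mpr h0)
      have h1 : Nat.card {i : Fin n // a i = l} - 1 - q.rootMultiplicity l
          < Nat.card {i : Fin n // a i = l} := by omega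
      have h2 : Nat.card {i : Fin n // a i = l} - 1 < Nat.card {i : Fin n // a i = l} := by omega
      have hNr := tbj2_iter b a S hS l (q.rootMultiplicity l) _ _ h1 h2 (by omega)
      have hNw := tbj2_last b a S hS l (Nat.card {i : Fin n // a i = l} - 1) (by omega)
      have hTw : (S + b.constr k (tbj2Nxt b a))
          (b ((tbj2E a l).symm ⟨Nat.card {i : Fin n // a i = l} - 1, h2⟩).val)
          = l • b ((tbj2E a l).symm ⟨Nat.card {i : Fin n // a i = l} - 1, h2⟩).val := by
        have := hNw
        simp only [LinearMap.sub_apply, Module.algebraMap_end_apply] at this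
        exact sub_eq_zero.mp this
      have h3 : Polynomial.aeval (S + b.constr k (tbj2Nxt b a)) q
          (b ((tbj2E a l).symm ⟨Nat.card {i : Fin n // a i = l} - 1 - q.rootMultiplicity l,
            h1⟩).val)
          = g.eval l • b ((tbj2E a l).symm ⟨Nat.card {i : Fin n // a i = l} - 1, h2⟩).val := by
        have h4 : Polynomial.aeval (S + b.constr k (tbj2Nxt b a))
            ((Polynomial.X - Polynomial.C l) ^ q.rootMultiplicity l)
            = (S + b.constr k (tbj2Nxt b a) - algebraMap k (Module.End k W) l)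
                ^ q.rootMultiplicity l := by
          simp [map_pow]
        have h5 : Polynomial.aeval (S + b.constr k (tbj2Nxt b a)) q
            = Polynomial.aeval (S + b.constr k (tbj2Nxt b a)) g
              * (S + b.constr k (tbj2Nxt b a) - algebraMap k (Module.End k W) l)
                ^ q.rootMultiplicity l := by
          conv_lhs => rw [hg]
          rw [mul_comm, map_mul, h4]
        rw [h5, Module.End.mul_apply, hNr]
        exact Module.End.aeval_apply_of_mem_apply_eq_smul hTw
      rw [hzero, LinearMap.zero_apply] at h3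
      rcases smul_eq_zero.mp h3.symm with h5 | h5
      · exact hgl h5
      · exact b.ne_zero _ h5
    have hle : (Finset.univ : Finset (Fin n)).val.map a ≤ q.roots := by
      rw [Multiset.le_iff_count]
      intro l
      rw [Polynomial.count_roots]
      refine le_trans (le_of_eq ?_) (key l)
      rw [Multiset.count_map, Nat.card_eq_fintype_card, Fintype.card_subtype, Finset.card_def,
        Finset.filter_val]
      congr 1
      apply Multiset.filter_congr
      intro x _
      exact eq_comm
    have h6 := Multiset.card_le_card hle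
    rw [Multiset.card_map] at h6
    have h7 : Multiset.card (Finset.univ : Finset (Fin n)).val = n := by simp
    have h8 := Polynomial.card_roots' q
    omega

end Cfsg.Agent.Lib.helper88.TBJ2
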