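import Cfsg.Agent.Lib.helper74.TBBasic
import Cfsg.Agent.Lib.helper52.TB_SPAN
import Cfsg.Agent.Lib.helper4.TB_B2b

/-!
# S4441 / S0960 sub-project SP-B, piece LIFT (helper88)

Every endomorphism of `W0 = L^C / σ(L^K)` (resp. `W1 = B / aug`) is induced by a `C`-linear map.
-/

set_option autoImplicit false

namespace Cfsg.Agent.Lib.helper74.TB

open Cfsg.Agent.Lib.helper84

/-- An integer prime to `p` is invertible modulo `p`. -/
theorem tblift_exists_inv (p : ℕ) [Fact p.Prime] (m : ℤ) (hm : ¬ (p : ℤ) ∣ m) :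
    ∃ m' b : ℤ, m * m' - 1 = (p : ℤ) * b := by
  have hp : Irreducible (p : ℤ) := (Nat.prime_iff_prime_int.mp Fact.out).irreducible
  have hc : IsCoprime (p : ℤ) m := (Irreducible.coprime_iff_not_dvd hp).mpr hm
  obtain ⟨a, b, hab⟩ := hc
  refine ⟨b, -a, ?_⟩
  linarith

section setting

variable {G : Type*} [Group G] [Fintype G] (p : ℕ) [Fact p.Prime] (P : Sylow p G)
  (hP : Nat.card P = p) {L : Type*} [AddCommGroup L] (ρ : Representation ℤ G L)

include hP

variable [Module.Free ℤ L] [Module.Finite ℤ L]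

/-- PIECE LIFT0.  Every endomorphism of `W0` is induced by a `C`-linear map. -/
theorem tb_lift_W0 (τ : d1FixC ρ (P : Subgroup G) →ₗ[ℤ] d1FixC ρ (P : Subgroup G))
    (hτ : ∀ u ∈ tbV0 p ρ (P : Subgroup G), τ u ∈ tbV0 p ρ (P : Subgroup G)) :
    ∃ F : L →ₗ[ℤ] L,
      (∀ c ∈ Subgroup.centralizer ((P : Subgroup G) : Set G), F ∘ₗ ρ c = ρ c ∘ₗ F) ∧
      ∀ u : d1FixC ρ (P : Subgroup G), F (u : L) - (τ u : L) ∈ tbSA p ρ (P : Subgroup G) := by
  classical
  obtain ⟨-, -, -, hB4, -, -, -, -⟩ := tb_basic p P hP ρ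
  have hpV : ∀ u : d1FixC ρ (P : Subgroup G), (p : ℤ) • u ∈ tbV0 p ρ (P : Subgroup G) := by
    intro u
    rw [mem_tbV0]
    exact hB4 (u : L) u.2
  obtain ⟨n, w, φ, hφ, hspan⟩ := tb_span p (tbV0 p ρ (P : Subgroup G)) hpV τ hτ
  obtain ⟨m, hm, hF⟩ := tb_rank_one_W0 p P hP ρ
  have hFj : ∀ j : Fin n, ∃ F : L →ₗ[ℤ] L,
      (∀ c ∈ Subgroup.centralizer ((P : Subgroup G) : Set G), F ∘ₗ ρ c = ρ c ∘ₗ F) ∧
      ∀ v : d1FixC ρ (P : Subgroup G), F (v : L) = (m * φ j v) • (w j : L) := by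
    intro j
    refine hF (w j : L) (φ j) (w j).2 ?_
    intro v hv
    exact hφ j v ((mem_tbV0 p ρ (P : Subgroup G) v).mpr hv)
  choose Fj hFjc hFjv using hFj
  obtain ⟨m', b, hmb⟩ := tblift_exists_inv p m hm
  refine ⟨m' • ∑ j, Fj j, ?_, ?_⟩
  · intro c hc
    apply LinearMap.ext
    intro v
    simp only [LinearMap.comp_apply, LinearMap.smul_apply, LinearMap.sum_apply, map_smul,
      map_sum]
    congr 1
    apply Finset.sum_congr rfl
    intro j _
    exact LinearMap.congr_fun (hFjc j c hc) v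
  · intro u
    have h1 : (m' • ∑ j, Fj j) (u : L)
        = (m * m') • ((∑ j, φ j u • w j : d1FixC ρ (P : Subgroup G)) : L) := by
      rw [LinearMap.smul_apply, LinearMap.sum_apply, Submodule.coe_sum, Finset.smul_sum,
        Finset.smul_sum]
      apply Finset.sum_congr rfl
      intro j _
      rw [hFjv j u, Submodule.coe_smul, smul_smul, smul_smul]
      congr 1
      ring
    set s : d1FixC ρ (P : Subgroup G) := ∑ j, φ j u • w j with hs
    have h2 : ((τ u - s : d1FixC ρ (P : Subgroup G)) : L) ∈ tbSA p ρ (P : Subgroup G) :=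
      (mem_tbV0 p ρ (P : Subgroup G) _).mp (hspan u)
    have h3 : (m * m' - 1) • (s : L) ∈ tbSA p ρ (P : Subgroup G) := by
      rw [hmb, mul_smul]
      exact hB4 (b • (s : L)) ((d1FixC ρ (P : Subgroup G)).smul_mem b s.2)
    have h4 : (m' • ∑ j, Fj j) (u : L) - (τ u : L)
        = (m * m' - 1) • (s : L) - ((τ u - s : d1FixC ρ (P : Subgroup G)) : L) := by
      rw [h1, sub_smul, one_smul, Submodule.coe_sub]
      abel
    rw [h4]
    exact (tbSA p ρ (P : Subgroup G)).sub_mem h3 h2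

/-- PIECE LIFT1.  Every endomorphism of `W1` is induced by a `C`-linear map. -/
theorem tb_lift_W1 (τ : tbB p ρ (P : Subgroup G) →ₗ[ℤ] tbB p ρ (P : Subgroup G))
    (hτ : ∀ u ∈ tbV1 p ρ (P : Subgroup G), τ u ∈ tbV1 p ρ (P : Subgroup G)) :
    ∃ F : L →ₗ[ℤ] L,
      (∀ c ∈ Subgroup.centralizer ((P : Subgroup G) : Set G), F ∘ₗ ρ c = ρ c ∘ₗ F) ∧
      ∀ u : tbB p ρ (P : Subgroup G), F (u : L) - (τ u : L) ∈ d1Aug p ρ (P : Subgroup G) := by
  classical
  obtain ⟨-, -, -, -, -, hB6, -, -⟩ := tb_basic p P hP ρ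
  have hpV : ∀ u : tbB p ρ (P : Subgroup G), (p : ℤ) • u ∈ tbV1 p ρ (P : Subgroup G) := by
    intro u
    rw [mem_tbV1]
    exact hB6 (u : L) u.2
  obtain ⟨n, w, φ, hφ, hspan⟩ := tb_span p (tbV1 p ρ (P : Subgroup G)) hpV τ hτ
  obtain ⟨m, hm, hF⟩ := tb_rank_one_W1 p P hP ρ
  have hFj : ∀ j : Fin n, ∃ F : L →ₗ[ℤ] L,
      (∀ c ∈ Subgroup.centralizer ((P : Subgroup G) : Set G), F ∘ₗ ρ c = ρ c ∘ₗ F) ∧
      ∀ v : tbB p ρ (P : Subgroup G),
        F (v : L) - (m * φ j v) • (w j : L) ∈ d1Aug p ρ (P : Subgroup G) := by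
    intro j
    refine hF (w j : L) (φ j) (w j).2 ?_
    intro v hv
    exact hφ j v ((mem_tbV1 p ρ (P : Subgroup G) v).mpr hv)
  choose Fj hFjc hFjv using hFj
  obtain ⟨m', b, hmb⟩ := tblift_exists_inv p m hm
  refine ⟨m' • ∑ j, Fj j, ?_, ?_⟩
  · intro c hc
    apply LinearMap.ext
    intro v
    simp only [LinearMap.comp_apply, LinearMap.smul_apply, LinearMap.sum_apply, map_smul,
      map_sum]
    congr 1
    apply Finset.sum_congr rfl
    intro j _
    exact LinearMap.congr_fun (hFjc j c hc) v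
  · intro u
    set s : tbB p ρ (P : Subgroup G) := ∑ j, φ j u • w j with hs
    have h1 : m' • ∑ j, (Fj j (u : L) - (m * φ j u) • (w j : L))
        ∈ d1Aug p ρ (P : Subgroup G) :=
      (d1Aug p ρ (P : Subgroup G)).smul_mem m'
        ((d1Aug p ρ (P : Subgroup G)).sum_mem (fun j _ => hFjv j u))
    have h2 : ((τ u - s : tbB p ρ (P : Subgroup G)) : L) ∈ d1Aug p ρ (P : Subgroup G) :=
      (mem_tbV1 p ρ (P : Subgroup G) _).mp (hspan u)
    have h3 : (m * m' - 1) • (s : L) ∈ d1Aug p ρ (P : Subgroup G) := by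
      rw [hmb, mul_smul]
      exact hB6 (b • (s : L)) ((tbB p ρ (P : Subgroup G)).smul_mem b s.2)
    have h5 : m' • ∑ j, (m * φ j u) • (w j : L) = (m * m') • (s : L) := by
      rw [hs, Submodule.coe_sum, Finset.smul_sum, Finset.smul_sum]
      apply Finset.sum_congr rfl
      intro j _
      rw [Submodule.coe_smul, smul_smul, smul_smul]
      congr 1
      ring
    have h4 : (m' • ∑ j, Fj j) (u : L) - (τ u : L)
        = m' • ∑ j, (Fj j (u : L) - (m * φ j u) • (w j : L)) + (m * m' - 1) • (s : L)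
          - ((τ u - s : tbB p ρ (P : Subgroup G)) : L) := by
      rw [LinearMap.smul_apply, LinearMap.sum_apply, Finset.sum_sub_distrib, smul_sub, h5,
        sub_smul, one_smul, Submodule.coe_sub]
      abel
    rw [h4]
    exact (d1Aug p ρ (P : Subgroup G)).sub_mem ((d1Aug p ρ (P : Subgroup G)).add_mem h1 h3) h2

end setting

end Cfsg.Agent.Lib.helper74.TB
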