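import Mathlib
import Cfsg.Agent.Lib.helper88.TH3

/-!
# Thompson-type criterion with characteristic subgroups (helper88)

`char_fusion`: let `F` be saturated over the finite `p`-group `S`, with `p` odd or `F` `S₄`-free.
If `Aut_F(Q)` is a `p`-group for every nontrivial subgroup `Q` of `S` invariant under all
automorphisms of `S`, then every automorphism of `F` is a `p`-element.

Induction on `|S|`: by `thompson_fusion` some automorphism of `N = N_F(W)` is not a `p`-element, for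
`W = Z(S)` or `W = J(S)`; the factor system `N / W` satisfies the hypotheses, so it has only
`p`-automorphisms; as `Aut_N(W) = Aut_F(W)` is a `p`-group, so has `N`.
-/

set_option autoImplicit false

namespace Cfsg.Agent.Lib.helper88

open Cfsg Cfsg.FusionSystem

universe u

section lemmas

variable {Ω : Type*} [Group Ω] {S : Subgroup Ω} {Ω' : Type*} [Group Ω'] {S' : Subgroup Ω'}

/-- `Q` is invariant under all automorphisms of `S`. -/
def CharIn (Q S : Subgroup Ω) : Prop := ∀ σ : S ≃* S, ∀ x : S, (x : Ω) ∈ Q → (σ x : Ω) ∈ Q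

theorem CharIn.characteristic {Q S : Subgroup Ω} (h : CharIn Q S) :
    (Q.subgroupOf S).Characteristic := by
  rw [Subgroup.characteristic_iff_le_comap]
  intro σ x hx
  rw [Subgroup.mem_comap, Subgroup.mem_subgroupOf]
  exact h σ x (Subgroup.mem_subgroupOf.mp hx)

theorem CharIn.of_eq {Q T S : Subgroup Ω} (h : T = S) (hQ : CharIn Q T) : CharIn Q S := by
  subst h
  exact hQ

theorem charIn_centerOf (S : Subgroup Ω) : CharIn (centerOf S) S := by
  intro σ x hx
  obtain ⟨-, hxC⟩ := Subgroup.mem_inf.mp hx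
  rw [Subgroup.mem_centralizer_iff] at hxC
  refine Subgroup.mem_inf.mpr ⟨(σ x).2, ?_⟩
  rw [Subgroup.mem_centralizer_iff]
  intro s hs
  have h1 : σ.symm ⟨s, hs⟩ * x = x * σ.symm ⟨s, hs⟩ := Subtype.ext (hxC _ (σ.symm ⟨s, hs⟩).2)
  have h2 := congrArg σ h1
  rw [map_mul, map_mul, MulEquiv.apply_symm_apply] at h2
  exact congrArg Subtype.val h2

theorem charIn_thompsonSubgroupAOf (S : Subgroup Ω) : CharIn (Cfsg.thompsonSubgroupAOf S) S := by
  intro σ x hx
  unfold Cfsg.thompsonSubgroupAOf at hx ⊢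
  obtain ⟨y, hy, hyx⟩ := hx
  have h1 : y = x := Subtype.ext hyx
  subst h1
  refine ⟨σ y, ?_, rfl⟩
  rw [SetLike.mem_coe, ← thompsonSubgroupA_map σ]
  exact ⟨y, hy, rfl⟩

/-- The full preimage of a characteristic subgroup of `T / W`, for `W` characteristic in `T`, is
characteristic in `T`. -/
theorem charIn_preimageAlong_mk {T W : Subgroup Ω} [hn : (W.subgroupOf T).Normal]
    (hW : CharIn W T) {Q' : Subgroup (T ⧸ W.subgroupOf T)} (hQ' : CharIn Q' ⊤) :
    CharIn (FusionSystem.preimageAlong (QuotientGroup.mk' (W.subgroupOf T)) Q') T := by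
  intro σ x hx
  rw [Cfsg.Agent.Lib.helper87.mem_preimageAlong] at hx ⊢
  obtain ⟨hxT, hxQ⟩ := hx
  refine ⟨(σ x).2, ?_⟩
  have hσ : (W.subgroupOf T).map (σ : ↥T →* ↥T) = W.subgroupOf T := by
    apply le_antisymm
    · rintro _ ⟨y, hy, rfl⟩
      exact Subgroup.mem_subgroupOf.mpr (hW σ y (Subgroup.mem_subgroupOf.mp hy))
    · intro y hy
      refine ⟨σ.symm y, Subgroup.mem_subgroupOf.mpr
        (hW σ.symm y (Subgroup.mem_subgroupOf.mp hy)), ?_⟩
      simp
  let σ' : (T ⧸ W.subgroupOf T) ≃* (T ⧸ W.subgroupOf T) := QuotientGroup.congr _ _ σ hσ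
  let τ : ↥(⊤ : Subgroup (T ⧸ W.subgroupOf T)) ≃* ↥(⊤ : Subgroup (T ⧸ W.subgroupOf T)) :=
    Subgroup.topEquiv.trans (σ'.trans Subgroup.topEquiv.symm)
  have h1 := hQ' τ ⟨QuotientGroup.mk' (W.subgroupOf T) x, Subgroup.mem_top _⟩ hxQ
  exact h1

/-- Along a surjective morphism, the automorphism group of `Q'` is a `p`-group as soon as that of
its full preimage is. -/
theorem isPGroup_autGroup_of_surjectiveMorphism [Finite S] [Finite S'] {p : ℕ}
    {F : FusionSystem S} {F' : FusionSystem S'} {θ : S →* Ω'}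
    (hθ : F.IsSurjectiveMorphism F' θ) {Q' : Subgroup Ω'} (hQ' : Q' ≤ S')
    (h : IsPGroup p (F.autGroup (FusionSystem.preimageAlong θ Q'))) :
    IsPGroup p (F'.autGroup Q') := by
  rintro ⟨α', hα'⟩
  have hα'F : Q'.subtype.comp α'.toMonoidHom ∈ F'.Hom Q' := (mem_autGroup_iff' F' hQ' α').mp hα'
  obtain ⟨hmor, hrange, hsurj⟩ := hθ
  obtain ⟨φ, hφ, hQS, hφS, hθQ, hind⟩ := hsurj Q' hQ' _ hα'F
  have hmemQ : ∀ x : Ω, x ∈ FusionSystem.preimageAlong θ Q' ↔ ∃ hx : x ∈ S, θ ⟨x, hx⟩ ∈ Q' :=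
    fun x => Cfsg.Agent.Lib.helper87.mem_preimageAlong θ Q' x
  have hφQ : ∀ x : ↥(FusionSystem.preimageAlong θ Q'), φ x ∈ FusionSystem.preimageAlong θ Q' := by
    intro x
    rw [hmemQ]
    refine ⟨hφS x, ?_⟩
    rw [← hind x]
    exact (α' _).2
  obtain ⟨α, hα⟩ := Cfsg.Agent.Lib.helper89.exists_aut_of_mem F hφ hφQ
  have hαF : α ∈ F.autGroup (FusionSystem.preimageAlong θ Q') := by
    rw [mem_autGroup_iff' F hQS]
    have h1 : (FusionSystem.preimageAlong θ Q').subtype.comp α.toMonoidHom = φ := by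
      ext x
      exact hα x
    rw [h1]
    exact hφ
  obtain ⟨k, hk⟩ := h ⟨α, hαF⟩
  have hk1 : α ^ (p ^ k) = 1 := congrArg Subtype.val hk
  refine ⟨k, Subtype.ext ?_⟩
  show α' ^ (p ^ k) = 1
  apply pow_eq_one_of_semiconj_surj
    ((θ.comp (Subgroup.inclusion hQS)).codRestrict Q' (fun x => hθQ x)) ?_ α α' ?_ hk1
  · rintro ⟨y, hy⟩
    have hyS' : y ∈ S' := hQ' hy
    rw [← hrange] at hyS'
    obtain ⟨s, rfl⟩ := hyS'
    exact ⟨⟨s, (hmemQ s).mpr ⟨s.2, hy⟩⟩, rfl⟩
  · intro x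
    apply Subtype.ext
    have h1 := hind x
    have h2 : (⟨φ x, hφS x⟩ : S) = Subgroup.inclusion hQS (α x) := Subtype.ext (hα x).symm
    rw [h2] at h1
    exact h1.symm

/-- If `W` is normal in `F`, the factor system modulo `W` has only `p`-automorphisms and `Aut_F(W)`
is a `p`-group, then `F` has only `p`-automorphisms. -/
theorem not_nonInner_of_factor [Finite S] [Finite S'] {p : ℕ} [Fact p.Prime] (hS : IsPGroup p S)
    (F : FusionSystem S) {F' : FusionSystem S'} {θ : S →* Ω'} (hmor : F.IsMorphism F' θ)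
    {W : Subgroup Ω} (hWn : F.IsNormal W) (hker : ∀ s : S, θ s = 1 ↔ (s : Ω) ∈ W)
    (hF' : ¬ NonInner p F') (hW : IsPGroup p (F.autGroup W)) : ¬ NonInner p F := by
  rintro ⟨P, α, hα, hk⟩
  have hPS : P ≤ S := (F.le_of_mem hα).1
  have hWS : W ≤ S := hWn.1
  obtain ⟨ψ, hψ, hext, hmap⟩ := hWn.2 P _ hα
  have hMS : P ⊔ W ≤ S := sup_le hPS hWS
  haveI hfinM : Finite ↥(P ⊔ W) := finite_of_le hMS
  have hMp : IsPGroup p ↥(P ⊔ W) := hS.to_le hMS
  have hψW : ∀ x : W, ψ (Subgroup.inclusion le_sup_right x) ∈ W := by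
    intro x
    have h1 : ψ (Subgroup.inclusion le_sup_right x) ∈ (W.subgroupOf (P ⊔ W)).map ψ :=
      ⟨_, Subgroup.mem_subgroupOf.mpr x.2, rfl⟩
    rw [hmap] at h1
    exact h1
  have hψM : ∀ x : ↥(P ⊔ W), ψ x ∈ P ⊔ W := by
    intro x
    refine Cfsg.Agent.Lib.helper87.sup_hom_mem ψ _ (fun y => ?_) (fun y => ?_) x
    · rw [hext y]
      exact (le_sup_left : P ≤ P ⊔ W) (α y).2
    · exact (le_sup_right : W ≤ P ⊔ W) (hψW y)
  obtain ⟨β, hβ⟩ := Cfsg.Agent.Lib.helper89.exists_aut_of_mem F hψ hψM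
  have hβF : β ∈ F.autGroup (P ⊔ W) := by
    rw [mem_autGroup_iff' F hMS]
    have h1 : (P ⊔ W).subtype.comp β.toMonoidHom = ψ := by
      ext x
      exact hβ x
    rw [h1]
    exact hψ
  -- the restriction to `W`
  have hγ0 : ψ.comp (Subgroup.inclusion (le_sup_right : W ≤ P ⊔ W)) ∈ F.Hom W :=
    restrict_mem F le_sup_right hψ
  obtain ⟨γ, hγ⟩ := Cfsg.Agent.Lib.helper89.exists_aut_of_mem F hγ0 hψW
  have hγF : γ ∈ F.autGroup W := by
    rw [mem_autGroup_iff' F hWS]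
    have h1 : W.subtype.comp γ.toMonoidHom =
        ψ.comp (Subgroup.inclusion (le_sup_right : W ≤ P ⊔ W)) := by
      ext x
      exact hγ x
    rw [h1]
    exact hγ0
  obtain ⟨a, ha⟩ := hW ⟨γ, hγF⟩
  have ha1 : γ ^ (p ^ a) = 1 := congrArg Subtype.val ha
  have hfixW : ∀ x : ↥(P ⊔ W), (x : Ω) ∈ W → (β ^ (p ^ a)) x = x := by
    intro x hx
    have hsemi : ∀ w : W, Subgroup.inclusion (le_sup_right : W ≤ P ⊔ W) (γ w) =
        β (Subgroup.inclusion le_sup_right w) := by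
      intro w
      apply Subtype.ext
      rw [hβ]
      exact hγ w
    have h1 := semiconj_pow (Subgroup.inclusion (le_sup_right : W ≤ P ⊔ W)) γ β hsemi (p ^ a)
      ⟨x, hx⟩
    rw [ha1] at h1
    exact h1.symm
  -- the induced automorphism of the image
  have hP'S' : FusionSystem.imageAlong θ (P ⊔ W) ≤ S' := by
    intro y hy
    obtain ⟨x, -, rfl⟩ := (Cfsg.Agent.Lib.helper87.mem_imageAlong θ (P ⊔ W) y).mp hy
    exact hmor.1 x
  have hpg := isPGroup_autGroup_of_not_nonInner F' hF' hP'S'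
  obtain ⟨k', hk'⟩ := hpg ⟨Cfsg.Agent.Lib.helper87.autMap hmor hMS ⟨β, hβF⟩,
    Cfsg.Agent.Lib.helper87.autMap_mem hmor hMS ⟨β, hβF⟩⟩
  have hk1 : (Cfsg.Agent.Lib.helper87.autMap hmor hMS ⟨β, hβF⟩) ^ (p ^ k') = 1 :=
    congrArg Subtype.val hk'
  rw [← map_pow] at hk1
  have hstep : ∀ x ∈ (⊤ : Subgroup ↥(P ⊔ W)),
      x⁻¹ * (β ^ (p ^ k')) x ∈ W.subgroupOf (P ⊔ W) := by
    intro x _
    have h1 := Cfsg.Agent.Lib.helper87.autMap_spec hmor hMS (⟨β, hβF⟩ ^ (p ^ k')) x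
    rw [hk1, MulAut.one_apply] at h1
    have h2 : θ ⟨x, hMS x.2⟩ =
        θ ⟨(((β ^ (p ^ k')) x : ↥(P ⊔ W)) : Ω), hMS ((β ^ (p ^ k')) x).2⟩ := by
      have h3 := congrArg Subtype.val h1
      rw [Cfsg.Agent.Lib.helper87.piAlong_coe, Cfsg.Agent.Lib.helper87.piAlong_coe] at h3
      exact h3
    rw [Subgroup.mem_subgroupOf]
    have h4 : θ (⟨x, hMS x.2⟩⁻¹ *
        ⟨(((β ^ (p ^ k')) x : ↥(P ⊔ W)) : Ω), hMS ((β ^ (p ^ k')) x).2⟩) = 1 := by
      rw [map_mul, map_inv, ← h2, inv_mul_cancel]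
    exact (hker _).mp h4
  have hfix : ∃ j : ℕ, ∀ x ∈ W.subgroupOf (P ⊔ W), ((β ^ (p ^ k')) ^ (p ^ j)) x = x := by
    refine ⟨a, fun x hx => ?_⟩
    rw [← pow_mul, mul_comm, pow_mul]
    exact pow_apply_eq_self _ (hfixW x (Subgroup.mem_subgroupOf.mp hx)) _
  have h5 := Cfsg.Agent.Lib.helper89.unip_step hMp (β ^ (p ^ k')) (W.subgroupOf (P ⊔ W)) ⊤
    le_top hfix hstep
  obtain ⟨j, hj⟩ := Cfsg.Agent.Lib.helper89.exists_pow_eq_one_of_unip _ h5
  apply hk (k' + j)
  apply pow_eq_one_of_semiconj_inj (Subgroup.inclusion (le_sup_left : P ≤ P ⊔ W))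
    (Subgroup.inclusion_injective _) α β ?_ ?_
  · intro x
    apply Subtype.ext
    rw [hβ]
    exact (hext x).symm
  · rw [pow_add, pow_mul]
    exact hj

end lemmas

theorem char_fusion_aux {p : ℕ} [Fact p.Prime]
    (hfac : p = 2 → FactorHeredity.{u} p (Equiv.Perm (Fin 4))) (n : ℕ) :
    ∀ {Ω : Type u} [Group Ω] (S : Subgroup Ω) [Finite S], IsPGroup p S → Nat.card S = n →
      ∀ F : FusionSystem S, F.IsSaturated p →
        (p ≠ 2 ∨ F.IsSectionFree p (Equiv.Perm (Fin 4))) →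
        (∀ Q : Subgroup Ω, Q ≤ S → Q ≠ ⊥ → CharIn Q S → IsPGroup p (F.autGroup Q)) →
        ¬ NonInner p F := by
  induction n using Nat.strong_induction_on with
  | _ n IH =>
  intro Ω _ S _ hS hn F hF hp hA hNI
  have hSne : S ≠ ⊥ := hNI.ne_bot
  have hexW : ∃ W : Subgroup Ω, W ≤ S ∧ W ≠ ⊥ ∧ CharIn W S ∧
      S ≤ Subgroup.normalizer (W : Set Ω) ∧ NormNonInner p F W := by
    rcases thompson_fusion hfac hS F hF hp hNI with hc | hn'
    · exact ⟨centerOf S, centerOf_le S, centerOf_ne_bot S hS hSne, charIn_centerOf S,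
        Subgroup.le_normalizer.trans (normalizer_le_normalizer_centerOf S), hc.normNonInner⟩
    · exact ⟨Cfsg.thompsonSubgroupAOf S, thompsonSubgroupAOf_le S,
        thompsonSubgroupAOf_ne_bot S hS hSne, charIn_thompsonSubgroupAOf S,
        Subgroup.le_normalizer.trans (normalizer_le_normalizer_thompsonSubgroupAOf S), hn'⟩
  obtain ⟨W, hWS, hWne, hWchar, hSW, hNW⟩ := hexW
  have hfn : F.IsFullyNormalized W := fullyNormalized_of_le_normalizer F hWS hSW
  have hE := Cfsg.Agent.Lib.helper89.isNormalizerSystem_normalizerSystem F W hWS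
  have hEsat := Cfsg.Agent.S5098.result p hS F hF W hfn _ hE
  have hT : normalizerIn S W = S := normalizerIn_eq_of_le_normalizer hSW
  haveI hfinT : Finite ↥(normalizerIn S W) := finite_of_le (normalizerIn_le S W)
  have hTp : IsPGroup p ↥(normalizerIn S W) := hS.to_le (normalizerIn_le S W)
  have hcardT : Nat.card ↥(normalizerIn S W) = n := by rw [hT]; exact hn
  have hWn := isNormal_of_isNormalizerSystem F hWS _ hE
  have hENI : NonInner p (Cfsg.Agent.Lib.helper89.normalizerSystem F W hWS) :=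
    (nonInner_iff_of_isNormalizerSystem F W _ hE).mpr hNW
  have hpN : p ≠ 2 ∨ (Cfsg.Agent.Lib.helper89.normalizerSystem F W hWS).IsSectionFree p
      (Equiv.Perm (Fin 4)) :=
    hp.imp id (fun h => sectionFree_normalizer hS F hF _ h hfn _ hE)
  have hsc : (Cfsg.Agent.Lib.helper89.normalizerSystem F W hWS).StronglyClosed W :=
    Cfsg.Agent.Lib.helper86.stronglyClosed_of_isNormal _ hWn
  haveI hW'n : (W.subgroupOf (normalizerIn S W)).Normal := by
    refine ⟨fun x hx g => ?_⟩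
    rw [Subgroup.mem_subgroupOf] at hx ⊢
    exact Cfsg.Agent.Lib.helper89.conj_mem_of_stronglyClosed _ hsc g.2 hx
  obtain ⟨E', hE'⟩ := Cfsg.Agent.S5132.result p hTp
    (Cfsg.Agent.Lib.helper89.normalizerSystem F W hWS) W hsc
  have hsm := Cfsg.Agent.S5134.result p hTp _ hEsat W hsc _ E' hE'
  have hE'sat : E'.IsSaturated p := Cfsg.Agent.S5133.result p hTp _ hEsat E' _ hsm
  have hker : ∀ s : ↥(normalizerIn S W),
      (QuotientGroup.mk' (W.subgroupOf (normalizerIn S W))) s = 1 ↔ (s : Ω) ∈ W := hE'.2.1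
  have hTp' : IsPGroup p
      ↥(⊤ : Subgroup (↥(normalizerIn S W) ⧸ W.subgroupOf (normalizerIn S W))) :=
    (hTp.to_quotient _).to_subgroup ⊤
  haveI hfinW : Finite ↥W := finite_of_le hWS
  have hcardlt : Nat.card
      ↥(⊤ : Subgroup (↥(normalizerIn S W) ⧸ W.subgroupOf (normalizerIn S W))) < n := by
    rw [Subgroup.card_top, ← hcardT,
      Subgroup.card_eq_card_quotient_mul_card_subgroup (W.subgroupOf (normalizerIn S W))]
    have h1 : Nat.card ↥(W.subgroupOf (normalizerIn S W)) = Nat.card ↥W :=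
      Nat.card_congr (Subgroup.subgroupOfEquivOfLe hWn.1).toEquiv
    have h2 : 1 < Nat.card ↥W := (Subgroup.one_lt_card_iff_ne_bot _).mpr hWne
    rw [h1]
    exact (Nat.lt_mul_iff_one_lt_right Nat.card_pos).mpr h2
  have hpE' : p ≠ 2 ∨ E'.IsSectionFree p (Equiv.Perm (Fin 4)) := by
    by_cases h2 : p = 2
    · exact hpN.imp id (fun h => hfac h2 hTp _ hEsat W hWn h _ E' hE')
    · exact Or.inl h2
  have hWcharT : CharIn W (normalizerIn S W) := CharIn.of_eq hT.symm hWchar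
  have hA' : ∀ Q' : Subgroup (↥(normalizerIn S W) ⧸ W.subgroupOf (normalizerIn S W)),
      Q' ≤ ⊤ → Q' ≠ ⊥ → CharIn Q' ⊤ → IsPGroup p (E'.autGroup Q') := by
    intro Q' hQ'le hQ'ne hQ'char
    apply isPGroup_autGroup_of_surjectiveMorphism hsm hQ'le
    have hQT : FusionSystem.preimageAlong (QuotientGroup.mk' (W.subgroupOf (normalizerIn S W))) Q'
        ≤ normalizerIn S W := Cfsg.Agent.Lib.helper87.preimageAlong_le _ _
    have hQS : FusionSystem.preimageAlong (QuotientGroup.mk' (W.subgroupOf (normalizerIn S W))) Q'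
        ≤ S := hQT.trans (normalizerIn_le S W)
    have hQne : FusionSystem.preimageAlong (QuotientGroup.mk' (W.subgroupOf (normalizerIn S W))) Q'
        ≠ ⊥ := by
      intro hbot
      apply hWne
      have h1 : W ≤ FusionSystem.preimageAlong
          (QuotientGroup.mk' (W.subgroupOf (normalizerIn S W))) Q' :=
        Cfsg.Agent.Lib.helper87.le_preimageAlong _ hWn.1 hker Q'
      rw [hbot] at h1
      exact le_bot_iff.mp h1
    have hQchar : CharIn (FusionSystem.preimageAlong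
        (QuotientGroup.mk' (W.subgroupOf (normalizerIn S W))) Q') S :=
      CharIn.of_eq hT (charIn_preimageAlong_mk hWcharT hQ'char)
    have hpgF := hA _ hQS hQne hQchar
    rintro ⟨α, hα⟩
    have hαN := (mem_autGroup_iff' _ hQT α).mp hα
    have hαF : α ∈ F.autGroup (FusionSystem.preimageAlong
        (QuotientGroup.mk' (W.subgroupOf (normalizerIn S W))) Q') :=
      (mem_autGroup_iff' F hQS α).mpr (hom_of_isNormalizerSystem hE hαN)
    obtain ⟨k, hk⟩ := hpgF ⟨α, hαF⟩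
    have h1 : α ^ (p ^ k) = 1 := congrArg Subtype.val hk
    exact ⟨k, Subtype.ext h1⟩
  have h3 : ¬ NonInner p E' := IH _ hcardlt ⊤ hTp' rfl E' hE'sat hpE' hA'
  have hWaut : IsPGroup p ((Cfsg.Agent.Lib.helper89.normalizerSystem F W hWS).autGroup W) := by
    rw [autGroup_normalizerSystem F hWS _ hE]
    exact hA W hWS hWne hWchar
  exact not_nonInner_of_factor hTp _ hsm.1 hWn hker h3 hWaut hENI

/-- **Thompson's criterion with characteristic subgroups, for fusion systems.** -/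
theorem char_fusion {Ω : Type u} [Group Ω] {S : Subgroup Ω} [Finite S] {p : ℕ} [Fact p.Prime]
    (hfac : p = 2 → FactorHeredity.{u} p (Equiv.Perm (Fin 4))) (hS : IsPGroup p S)
    (F : FusionSystem S) (hF : F.IsSaturated p)
    (hp : p ≠ 2 ∨ F.IsSectionFree p (Equiv.Perm (Fin 4)))
    (hA : ∀ Q : Subgroup Ω, Q ≤ S → Q ≠ ⊥ → CharIn Q S → IsPGroup p (F.autGroup Q)) :
    ¬ NonInner p F :=
  char_fusion_aux hfac _ S hS rfl F hF hp hA

end Cfsg.Agent.Lib.helper88
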