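import Mathlib
import Cfsg.Agent.Lib.helper88.TH4
import Cfsg.Agent.S5083
import Cfsg.Agent.S5097

/-!
# Thompson's theorems for fusion systems, final forms (helper88)

`thompson_inner` (statement S5194) and `char_inner` (statement S5195), modulo the heredity of
`S₄`-freeness to factor systems (`FactorHeredity`, needed for `p = 2` only).
-/

set_option autoImplicit false

namespace Cfsg.Agent.Lib.helper88

open Cfsg Cfsg.FusionSystem

universe u

variable {Ω : Type u} [Group Ω] {S : Subgroup Ω}

/-- A system whose maps are conjugations by elements of a `p`-group has only `p`-automorphisms. -/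
theorem not_nonInner_of_inner {p : ℕ} {T : Subgroup Ω} (hT : IsPGroup p T) (E : FusionSystem T)
    (h : ∀ P : Subgroup Ω, E.Hom P = (Cfsg.innerFusionSystem T).Hom P) : ¬ NonInner p E := by
  rintro ⟨P₁, α, hα, hk⟩
  rw [h P₁] at hα
  obtain ⟨-, g, hg, h⟩ := hα
  obtain ⟨k, hgk⟩ := hT ⟨g, hg⟩
  have hgk' : g ^ (p ^ k) = 1 := congrArg Subtype.val hgk
  apply hk k
  apply pow_eq_one_of_semiconj_inj P₁.subtype P₁.subtype_injective α (MulAut.conj g)
  · intro x
    exact h x
  · rw [← map_pow, hgk', map_one]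

/-- A saturated system with only `p`-automorphisms is the inner system. -/
theorem eq_inner_of_not_nonInner [Finite S] {p : ℕ} [Fact p.Prime] (hS : IsPGroup p S)
    (F : FusionSystem S) (hF : F.IsSaturated p) (h : ¬ NonInner p F) :
    ∀ P : Subgroup Ω, F.Hom P = (Cfsg.innerFusionSystem S).Hom P := by
  have hFeq := Cfsg.Agent.S5083.result p hS F hF
    (fun P hP => isPGroup_autGroup_of_not_nonInner F h hP)
  intro P
  rw [hFeq]

/-- **Thompson's normal `p`-complement theorem for fusion systems** (statement S5194). -/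
theorem thompson_inner [Finite S] {p : ℕ} [Fact p.Prime]
    (hfac : p = 2 → FactorHeredity.{u} p (Equiv.Perm (Fin 4))) (hS : IsPGroup p S)
    (F : FusionSystem S) (hF : F.IsSaturated p)
    (hp : p ≠ 2 ∨ F.IsSectionFree p (Equiv.Perm (Fin 4)))
    (hC : ∀ C : FusionSystem (centralizerIn S (S ⊓ Subgroup.centralizer (S : Set Ω))),
      F.IsCentralizerSystem (S ⊓ Subgroup.centralizer (S : Set Ω)) C → ∀ P : Subgroup Ω,
        C.Hom P = (Cfsg.innerFusionSystem
          (centralizerIn S (S ⊓ Subgroup.centralizer (S : Set Ω)))).Hom P)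
    (hN : ∀ N : FusionSystem (normalizerIn S (Cfsg.thompsonSubgroupAOf S)),
      F.IsNormalizerSystem (Cfsg.thompsonSubgroupAOf S) N → ∀ P : Subgroup Ω,
        N.Hom P = (Cfsg.innerFusionSystem (normalizerIn S (Cfsg.thompsonSubgroupAOf S))).Hom P) :
    ∀ P : Subgroup Ω, F.Hom P = (Cfsg.innerFusionSystem S).Hom P := by
  apply eq_inner_of_not_nonInner hS F hF
  intro hNI
  rcases thompson_fusion hfac hS F hF hp hNI with hc | hn
  · obtain ⟨C, hCs⟩ := Cfsg.Agent.S5097.result F (S ⊓ Subgroup.centralizer (S : Set Ω))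
      inf_le_left
    have h3 : NonInner p C := (centNonInner_iff_of_isCentralizerSystem F _ C hCs).mpr hc
    exact not_nonInner_of_inner (hS.to_le inf_le_left) C (hC C hCs) h3
  · have hE := Cfsg.Agent.Lib.helper89.isNormalizerSystem_normalizerSystem F
      (Cfsg.thompsonSubgroupAOf S) (thompsonSubgroupAOf_le S)
    have h3 := (nonInner_iff_of_isNormalizerSystem F _ _ hE).mpr hn
    exact not_nonInner_of_inner (hS.to_le (normalizerIn_le S _)) _ (hN _ hE) h3

/-- **Thompson's criterion with characteristic subgroups** (statement S5195). -/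
theorem char_inner [Finite S] {p : ℕ} [Fact p.Prime]
    (hfac : p = 2 → FactorHeredity.{u} p (Equiv.Perm (Fin 4))) (hS : IsPGroup p S)
    (F : FusionSystem S) (hF : F.IsSaturated p)
    (hp : p ≠ 2 ∨ F.IsSectionFree p (Equiv.Perm (Fin 4)))
    (h : ∀ Q : Subgroup Ω, Q ≤ S → Q ≠ ⊥ → (Q.subgroupOf S).Characteristic →
      IsPGroup p (F.autGroup Q)) :
    ∀ P : Subgroup Ω, F.Hom P = (Cfsg.innerFusionSystem S).Hom P :=
  eq_inner_of_not_nonInner hS F hF
    (char_fusion hfac hS F hF hp (fun Q hQS hQne hQc => h Q hQS hQne hQc.characteristic))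

end Cfsg.Agent.Lib.helper88
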