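import Cfsg.Agent.Lib.helper38.TN2

/-!
helper88: piece C of S4415 (Thompson's N-groups lemma): an abelian `GN`-subgroup of odd order
is trivial.
-/

set_option autoImplicit false

namespace Cfsg.Agent.Lib.helper88

open Cfsg.Agent.Lib.helper38.TN

variable {G : Type*} [Group G] [Finite G] {V : Type*} [AddCommGroup V] [Module (ZMod 3) V] [Finite V]
variable {ρ : Representation (ZMod 3) G V} {R : Subgroup G} {b q₁ q₂ q₃ : G} {u₁ u₂ u₃ : V}

/-- If `g ^ k` fixes `v` and `k` is prime to the order of `g`, then `g` fixes `v`. -/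
theorem tnc_fix_of_pow_fix (ρ : Representation (ZMod 3) G V) (g : G) (v : V) (k : ℕ)
    (hk : (orderOf g).Coprime k) (h : ρ (g ^ k) v = v) : ρ g v = v := by
  have hm : ∀ m : ℕ, ρ ((g ^ k) ^ m) v = v := by
    intro m
    induction m with
    | zero => rw [pow_zero, rho_one]
    | succ m ih => rw [pow_succ, rho_mul, h, ih]
  by_cases h1 : orderOf g = 1
  · rw [orderOf_eq_one_iff] at h1
    rw [h1, rho_one]
  · have hpos : 0 < orderOf g := orderOf_pos g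
    have h2 : 1 < orderOf g := by omega
    obtain ⟨m, -, hm'⟩ := Nat.exists_mul_mod_eq_one_of_coprime hk.symm h2
    have e : (g ^ k) ^ m = g := by
      rw [← pow_mul, ← pow_mod_orderOf, hm', pow_one]
    have := hm m
    rwa [e] at this

theorem tnc_two_zero : ∀ x : ZMod 3, x + x = 0 → x = 0 := by decide

theorem tnc_pos_decomp (F : Frame ρ b q₁ q₂ q₃ u₁ u₂ u₃) {v : V} (hv : ρ q₁ v = v) :
    ∃ e : ZMod 3, ∃ c ∈ fixQ ρ q₁ q₂, v = e • u₁ + c := by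
  obtain ⟨a₁, a₂, a₃, c, hc, rfl⟩ := F.decomp v
  simp only [map_add, map_smul, F.q1u1, F.q1u2, F.q1u3, hc.1] at hv
  have h0 : (0 : ZMod 3) • u₁ + (a₂ + a₂) • u₂ + (a₃ + a₃) • u₃ + (0 : V) = 0 := by
    linear_combination (norm := module) hv.symm
  obtain ⟨-, e2, e3, -⟩ := F.indep (Submodule.zero_mem _) h0
  have e2' := tnc_two_zero a₂ e2
  have e3' := tnc_two_zero a₃ e3
  refine ⟨a₁, c, hc, ?_⟩
  rw [e2', e3']
  module

theorem tnc_neg_decomp (F : Frame ρ b q₁ q₂ q₃ u₁ u₂ u₃) {v : V} (hv : ρ q₁ v = -v) :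
    ∃ x y : ZMod 3, v = x • u₂ + y • u₃ := by
  obtain ⟨a₁, a₂, a₃, c, hc, rfl⟩ := F.decomp v
  simp only [map_add, map_smul, F.q1u1, F.q1u2, F.q1u3, hc.1] at hv
  have hcc : c + c ∈ fixQ ρ q₁ q₂ := Submodule.add_mem _ hc hc
  have h0 : (a₁ + a₁) • u₁ + (0 : ZMod 3) • u₂ + (0 : ZMod 3) • u₃ + (c + c) = 0 := by
    linear_combination (norm := module) hv
  obtain ⟨e1, -, -, e4⟩ := F.indep hcc h0
  have e1' := tnc_two_zero a₁ e1
  have e4' := eq_zero_of_add_self e4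
  refine ⟨a₂, a₃, ?_⟩
  rw [e1', e4']
  module

/-- The coordinate action of a `2 × 2` matrix. -/
def tncSt (α β γ δ : ZMod 3) (p : ZMod 3 × ZMod 3) : ZMod 3 × ZMod 3 :=
  (α * p.1 + γ * p.2, β * p.1 + δ * p.2)

set_option maxRecDepth 100000 in
theorem tnc_st_pow : ∀ α β γ δ : ZMod 3, α * δ - β * γ ≠ 0 →
    (tncSt α β γ δ)^[24] (1, 0) = (1, 0) ∧ (tncSt α β γ δ)^[24] (0, 1) = (0, 1) := by
  decide

theorem tnc_ker_vec : ∀ α β γ δ : ZMod 3, α * δ - β * γ = 0 →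
    ∃ c d : ZMod 3, (c ≠ 0 ∨ d ≠ 0) ∧ α * c + γ * d = 0 ∧ β * c + δ * d = 0 := by
  decide

theorem tnc_gl2_iter (ρ : Representation (ZMod 3) G V) (g : G) (x y : V) (α β γ δ : ZMod 3)
    (hx : ρ g x = α • x + β • y) (hy : ρ g y = γ • x + δ • y) (k : ℕ) :
    ∀ p : ZMod 3 × ZMod 3, ρ (g ^ k) (p.1 • x + p.2 • y) =
      ((tncSt α β γ δ)^[k] p).1 • x + ((tncSt α β γ δ)^[k] p).2 • y := by
  induction k with
  | zero =>
    intro p
    rw [pow_zero, rho_one, Function.iterate_zero, id]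
  | succ k ih =>
    intro p
    rw [pow_succ, rho_mul, Function.iterate_succ, Function.comp_apply]
    have e : ρ g (p.1 • x + p.2 • y) =
        (tncSt α β γ δ p).1 • x + (tncSt α β γ δ p).2 • y := by
      rw [map_add, map_smul, map_smul, hx, hy]
      simp only [tncSt]
      module
    rw [e, ih]

theorem tnc_gl2 (ρ : Representation (ZMod 3) G V) (g : G) (x y : V) (α β γ δ : ZMod 3)
    (hx : ρ g x = α • x + β • y) (hy : ρ g y = γ • x + δ • y) (hdet : α * δ - β * γ ≠ 0) :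
    ρ (g ^ 24) x = x ∧ ρ (g ^ 24) y = y := by
  obtain ⟨h1, h2⟩ := tnc_st_pow α β γ δ hdet
  have k1 := tnc_gl2_iter ρ g x y α β γ δ hx hy 24 (1, 0)
  have k2 := tnc_gl2_iter ρ g x y α β γ δ hx hy 24 (0, 1)
  rw [h1] at k1
  rw [h2] at k2
  simp only [one_smul, zero_smul, add_zero, zero_add] at k1 k2
  exact ⟨k1, k2⟩

theorem tnc_det_ne_zero (ρ : Representation (ZMod 3) G V) (g : G) (x y : V) (α β γ δ : ZMod 3)
    (hx : ρ g x = α • x + β • y) (hy : ρ g y = γ • x + δ • y)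
    (hind : ∀ c d : ZMod 3, c • x + d • y = 0 → c = 0 ∧ d = 0) : α * δ - β * γ ≠ 0 := by
  intro h0
  obtain ⟨c, d, hcd, e1, e2⟩ := tnc_ker_vec α β γ δ h0
  have h1 : ρ g (c • x + d • y) = 0 := by
    rw [map_add, map_smul, map_smul, hx, hy]
    have : c • (α • x + β • y) + d • (γ • x + δ • y)
        = (α * c + γ * d) • x + (β * c + δ * d) • y := by module
    rw [this, e1, e2, zero_smul, zero_smul, add_zero]
  have h2 : c • x + d • y = 0 := rho_inj ρ g (by rw [h1, map_zero])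
  obtain ⟨rfl, rfl⟩ := hind c d h2
  simp at hcd

theorem tnc_ctx_rot (h : Ctx ρ R b q₁ q₂ q₃ u₁ u₂ u₃) : Ctx ρ R b q₂ q₃ q₁ u₂ u₃ u₁ where
  frame := h.frame.rot
  q1R := by rw [← h.frame.tri.c1]; exact h.bR q₁ h.q1R
  bR := h.bR
  faith := h.faith
  cop := h.cop
  solv := h.solv
  gen := h.gen
  irr := h.irr

/-- Key claim: an element of odd order of `R` commuting with `q₁` and inverted by `q₂` is
trivial. -/
theorem tnc_key (h : Ctx ρ R b q₁ q₂ q₃ u₁ u₂ u₃) (a : G) (haR : a ∈ R)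
    (hodd : ¬ 2 ∣ orderOf a) (hc : a * q₁ = q₁ * a) (hinv : q₂ * a * q₂⁻¹ = a⁻¹) : a = 1 := by
  have F := h.frame
  have T := F.tri
  have cop3 : (orderOf a).Coprime 3 :=
    Nat.Coprime.coprime_dvd_left (R.orderOf_dvd_natCard haR) h.cop
  have cop2 : (orderOf a).Coprime 2 :=
    ((Nat.Prime.coprime_iff_not_dvd Nat.prime_two).mpr hodd).symm
  have cop6 : (orderOf a).Coprime 6 := by
    have := cop2.mul_right cop3
    norm_num at this
    exact this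
  have cop24 : (orderOf a).Coprime 24 := by
    have := ((cop2.mul_right cop2).mul_right cop2).mul_right cop3
    norm_num at this
    exact this
  have k1 : ∀ v, ρ q₁ (ρ a v) = ρ a (ρ q₁ v) := by
    intro v; rw [← rho_mul, ← hc, rho_mul]
  have hq2i : q₂⁻¹ = q₂ := inv_eq_of_mul_eq_one_right T.sq2
  have kinv : ∀ v, ρ a⁻¹ v = ρ q₂ (ρ a (ρ q₂ v)) := by
    intro v
    rw [← hinv, hq2i, rho_mul, rho_mul]
  -- (i) `a` fixes `u₂`, `u₃`
  have hu2 : ρ q₁ (ρ a u₂) = -ρ a u₂ := by rw [k1, F.q1u2, map_neg]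
  have hu3 : ρ q₁ (ρ a u₃) = -ρ a u₃ := by rw [k1, F.q1u3, map_neg]
  obtain ⟨α, β, hα⟩ := tnc_neg_decomp F hu2
  obtain ⟨γ, δ, hγ⟩ := tnc_neg_decomp F hu3
  have hind : ∀ c d : ZMod 3, c • u₂ + d • u₃ = 0 → c = 0 ∧ d = 0 := by
    intro c d hcd
    have h0 : (0 : ZMod 3) • u₁ + c • u₂ + d • u₃ + (0 : V) = 0 := by
      rw [zero_smul, zero_add, add_zero]; exact hcd
    obtain ⟨-, e2, e3, -⟩ := F.indep (Submodule.zero_mem _) h0
    exact ⟨e2, e3⟩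
  have hdet := tnc_det_ne_zero ρ a u₂ u₃ α β γ δ hα hγ hind
  obtain ⟨f2, f3⟩ := tnc_gl2 ρ a u₂ u₃ α β γ δ hα hγ hdet
  have au2 : ρ a u₂ = u₂ := tnc_fix_of_pow_fix ρ a u₂ 24 cop24 f2
  have au3 : ρ a u₃ = u₃ := tnc_fix_of_pow_fix ρ a u₃ 24 cop24 f3
  -- (ii) `a` fixes `u₁`
  have hu1 : ρ q₁ (ρ a u₁) = ρ a u₁ := by rw [k1, F.q1u1]
  obtain ⟨μ, c₀, hc₀, hμ⟩ := tnc_pos_decomp F hu1
  have e1 : ρ a⁻¹ u₁ = μ • u₁ - c₀ := by
    rw [kinv, F.q2u1, map_neg, hμ, map_neg, map_add, map_smul, F.q2u1, hc₀.2]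
    module
  have e2 : ρ a c₀ = (μ * μ - 1) • u₁ + μ • c₀ := by
    have t := rho_self_inv ρ a u₁
    rw [e1, map_sub, map_smul, hμ] at t
    linear_combination (norm := module) (-1 : ZMod 3) • t
  have hx : ρ a u₁ = μ • u₁ + (1 : ZMod 3) • c₀ := by rw [one_smul]; exact hμ
  have hdet' : μ * μ - 1 * (μ * μ - 1) ≠ 0 := by
    have : μ * μ - 1 * (μ * μ - 1) = 1 := by ring
    rw [this]
    exact one_ne_zero
  obtain ⟨g1, -⟩ := tnc_gl2 ρ a u₁ c₀ μ 1 (μ * μ - 1) μ hx e2 hdet'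
  have au1 : ρ a u₁ = u₁ := tnc_fix_of_pow_fix ρ a u₁ 24 cop24 g1
  -- (iii) `a` fixes the common fixed space pointwise
  have aC : ∀ c ∈ fixQ ρ q₁ q₂, ρ a c = c := by
    intro c hc
    have hc1 : ρ q₁ (ρ a c) = ρ a c := by rw [k1, hc.1]
    obtain ⟨lam, c', hc', hl⟩ := tnc_pos_decomp F hc1
    have e3 : ρ a⁻¹ c = -(lam • u₁) + c' := by
      rw [kinv, hc.2, hl, map_add, map_smul, F.q2u1, hc'.2]
      module
    have e4 : ρ a c' = c + lam • u₁ := by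
      have t := rho_self_inv ρ a c
      rw [e3, map_add, map_neg, map_smul, au1] at t
      linear_combination (norm := module) t
    have e5 : ρ (a ^ 2) c = c + (lam + lam) • u₁ := by
      rw [pow_two, rho_mul, hl, map_add, map_smul, au1, e4]
      module
    have e5u : ρ (a ^ 2) u₁ = u₁ := by rw [pow_two, rho_mul, au1, au1]
    have e6 : ρ (a ^ 6) c = c := by
      have h6 : a ^ 6 = a ^ 2 * (a ^ 2 * a ^ 2) := by rw [← pow_add, ← pow_add]
      have t := three_smul_eq_zero ((lam + lam) • u₁)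
      rw [h6, rho_mul, rho_mul]
      simp only [e5, map_add, map_smul, e5u]
      linear_combination (norm := module) t
    exact tnc_fix_of_pow_fix ρ a c 6 cop6 e6
  -- (iv) conclusion
  apply h.faith a haR
  intro v
  obtain ⟨a₁, a₂, a₃, c, hc, rfl⟩ := F.decomp v
  simp only [map_add, map_smul, au1, au2, au3, aC c hc]

/-- An element of `A` inverted by `q₁` is trivial. -/
theorem tnc_inv_trivial (h : Ctx ρ R b q₁ q₂ q₃ u₁ u₂ u₃) (A : Subgroup G) (hA : GN R b A)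
    (hcomm : ∀ x ∈ A, ∀ y ∈ A, x * y = y * x) (hodd : ¬ 2 ∣ Nat.card ↥A)
    (x : G) (hx : x ∈ A) (hinv : q₁ * x * q₁⁻¹ = x⁻¹) : x = 1 := by
  have T := h.frame.tri
  have h' := tnc_ctx_rot h
  have h'' := tnc_ctx_rot h'
  have hq2R : q₂ ∈ R := h'.q1R
  have oddA : ∀ y ∈ A, ¬ 2 ∣ orderOf y := fun y hy h2 =>
    hodd (h2.trans (A.orderOf_dvd_natCard hy))
  have hy₂ : q₂ * x * q₂⁻¹ ∈ A := hA.2.1 q₂ hq2R x hx
  -- step A: `x * (q₂ x q₂⁻¹) = 1`
  have hxp : x * (q₂ * x * q₂⁻¹) ∈ A := A.mul_mem hx hy₂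
  have c3x : q₃ * x * q₃⁻¹ = (q₂ * x * q₂⁻¹)⁻¹ := by
    rw [← T.m21]
    calc q₂ * q₁ * x * (q₂ * q₁)⁻¹ = q₂ * (q₁ * x * q₁⁻¹) * q₂⁻¹ := by group
      _ = (q₂ * x * q₂⁻¹)⁻¹ := by rw [hinv]; group
  have c3y : q₃ * (q₂ * x * q₂⁻¹) * q₃⁻¹ = x⁻¹ := by
    calc q₃ * (q₂ * x * q₂⁻¹) * q₃⁻¹ = (q₃ * q₂) * x * (q₃ * q₂)⁻¹ := by group
      _ = x⁻¹ := by rw [T.m32, hinv]
  have pc : x * (q₂ * x * q₂⁻¹) * q₂ = q₂ * (x * (q₂ * x * q₂⁻¹)) := by
    have hq2i : q₂⁻¹ = q₂ := inv_eq_of_mul_eq_one_right T.sq2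
    have e' : q₂ * (x * (q₂ * x * q₂⁻¹)) = (q₂ * x * q₂⁻¹) * x * q₂ := by
      rw [hq2i]
      simp only [mul_assoc]
    rw [e', hcomm x hx _ hy₂]
  have pinv : q₃ * (x * (q₂ * x * q₂⁻¹)) * q₃⁻¹ = (x * (q₂ * x * q₂⁻¹))⁻¹ := by
    calc q₃ * (x * (q₂ * x * q₂⁻¹)) * q₃⁻¹
        = (q₃ * x * q₃⁻¹) * (q₃ * (q₂ * x * q₂⁻¹) * q₃⁻¹) := by group
      _ = (x * (q₂ * x * q₂⁻¹))⁻¹ := by
          rw [c3x, c3y]
          exact (mul_inv_rev _ _).symm
  have hp1 : x * (q₂ * x * q₂⁻¹) = 1 :=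
    tnc_key h' _ (hA.1 hxp) (oddA _ hxp) pc pinv
  -- step B: `x` commutes with `q₃`
  have hy2 : q₂ * x * q₂⁻¹ = x⁻¹ := (inv_eq_of_mul_eq_one_right hp1).symm
  have c3 : x * q₃ = q₃ * x := by
    have : q₃ * x * q₃⁻¹ = x := by rw [c3x, hy2, inv_inv]
    calc x * q₃ = (q₃ * x * q₃⁻¹) * q₃ := by rw [this]
      _ = q₃ * x := by group
  exact tnc_key h'' x (hA.1 hx) (oddA x hx) c3 hinv

/-- PIECE C: an abelian `GN`-subgroup of odd order is trivial. -/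
theorem odd_GN_trivial (h : Ctx ρ R b q₁ q₂ q₃ u₁ u₂ u₃) (A : Subgroup G) (hA : GN R b A)
    (hcomm : ∀ x ∈ A, ∀ y ∈ A, x * y = y * x) (hodd : ¬ 2 ∣ Nat.card ↥A) : A = ⊥ := by
  have T := h.frame.tri
  have h' := tnc_ctx_rot h
  have oddA : ∀ y ∈ A, ¬ 2 ∣ orderOf y := fun y hy h2 =>
    hodd (h2.trans (A.orderOf_dvd_natCard hy))
  -- every element of `A` commutes with an involution `q` such that inverted elements are trivial
  have comm_of : ∀ q : G, q ∈ R → q * q = 1 →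
      (∀ x ∈ A, q * x * q⁻¹ = x⁻¹ → x = 1) → ∀ a ∈ A, a * q = q * a := by
    intro q hqR hqq hq a ha
    have hc : a⁻¹ * (q * a * q⁻¹) ∈ A := A.mul_mem (A.inv_mem ha) (hA.2.1 q hqR a ha)
    have hci : q * (a⁻¹ * (q * a * q⁻¹)) * q⁻¹ = (a⁻¹ * (q * a * q⁻¹))⁻¹ := by
      calc q * (a⁻¹ * (q * a * q⁻¹)) * q⁻¹
          = (q * a⁻¹ * q⁻¹) * ((q * q) * a * (q * q)⁻¹) := by group
        _ = (a⁻¹ * (q * a * q⁻¹))⁻¹ := by rw [hqq]; group
    have h1 := hq _ hc hci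
    have h2 : q * a * q⁻¹ = a := by
      have := congrArg (fun z => a * z) h1
      simpa using this
    calc a * q = (q * a * q⁻¹) * q := by rw [h2]
      _ = q * a := by group
  have c1 : ∀ a ∈ A, a * q₁ = q₁ * a :=
    comm_of q₁ h.q1R T.sq (fun x hx hi => tnc_inv_trivial h A hA hcomm hodd x hx hi)
  have c2 : ∀ a ∈ A, a * q₂ = q₂ * a :=
    comm_of q₂ h'.q1R T.sq2 (fun x hx hi => tnc_inv_trivial h' A hA hcomm hodd x hx hi)
  -- every element of `A` fixes `u₁`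
  have fix1 : ∀ a ∈ A, ρ a u₁ = u₁ := by
    intro a ha
    obtain ⟨⟨ε, hε, he⟩, -⟩ := h.frame.comm_diag (c1 a ha) (c2 a ha)
    have h2 : ρ (a ^ 2) u₁ = u₁ := by
      rw [pow_two, rho_mul, he, map_smul, he, smul_smul]
      rcases hε with rfl | rfl <;> simp
    exact tnc_fix_of_pow_fix ρ a u₁ 2
      ((Nat.Prime.coprime_iff_not_dvd Nat.prime_two).mpr (oddA a ha)).symm h2
  -- the fixed space of `A` is invariant
  have hR : ∀ r ∈ R, ∀ v ∈ fixedSub ρ A, ρ r v ∈ fixedSub ρ A := by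
    intro r hr v hv a ha
    have e : a * r = r * (r⁻¹ * a * r⁻¹⁻¹) := by group
    rw [← rho_mul, e, rho_mul, hv _ (hA.2.1 r⁻¹ (R.inv_mem hr) a ha)]
  have hb : ∀ v ∈ fixedSub ρ A, ρ b v ∈ fixedSub ρ A := by
    intro v hv a ha
    have hb2 : b⁻¹ = b * b := by
      have h1 : b * (b * b) = 1 := by rw [← h.frame.b3, pow_succ, pow_two, mul_assoc]
      exact inv_eq_of_mul_eq_one_right h1
    have hmem : b⁻¹ * a * b ∈ A := by
      have e : b⁻¹ * a * b = b * (b * a * b⁻¹) * b⁻¹ := by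
        calc b⁻¹ * a * b = b⁻¹ * a * (b⁻¹)⁻¹ := by rw [inv_inv]
          _ = (b * b) * a * (b * b)⁻¹ := by rw [← hb2]
          _ = b * (b * a * b⁻¹) * b⁻¹ := by group
      rw [e]
      exact hA.2.2 _ (hA.2.2 a ha)
    have e : a * b = b * (b⁻¹ * a * b) := by group
    rw [← rho_mul, e, rho_mul, hv _ hmem]
  rcases h.irr (fixedSub ρ A) hR hb with h0 | h1
  · exfalso
    have : u₁ ∈ fixedSub ρ A := fix1
    rw [h0, Submodule.mem_bot] at this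
    exact h.frame.u1 this
  · rw [eq_bot_iff]
    intro a ha
    rw [Subgroup.mem_bot]
    apply h.faith a (hA.1 ha)
    intro v
    have hv : v ∈ fixedSub ρ A := by rw [h1]; trivial
    exact hv a ha

end Cfsg.Agent.Lib.helper88
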